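import Cfsg.Agent.Lib.PermAut.Iso
import Cfsg.Agent.Lib.Concrete.LeechOrbitCert
import Cfsg.Agent.Lib.Concrete.LeechSimpleGroups
import Cfsg.Prelude.Def_Spor_Conway

/-!
# Certificates acting on vectors of the rank-24 lattice
-/

set_option autoImplicit false

namespace Cfsg.Lib.PermAut

noncomputable section

open Cfsg MulAction Cfsg.Lib.Concrete

/-- A matrix of a lattice automorphism fixing the keys. -/
def matOkB (m : List (List ℤ)) (fixK : List ℕ) : Bool :=
  matOk m && boundOk m && fixK.all fun k => Cfsg.Lib.Concrete.stepOk (packCols m) k k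

/-- Keys of distinct lattice vectors. -/
def keysOk (keys : List ℕ) : Bool :=
  nodupB keys && keys.all fun k => Nat.blt k (16 ^ 24) && inLeech (codeVec k)

/-- The matrix moves the keys as the table does, up to the partner. -/
def movesOk (c : Cert) (m : List (List ℤ)) (T : ℕ) (keys mate : List ℕ) : Bool :=
  (List.range c.N).all fun x =>
    Cfsg.Lib.Concrete.stepOk (packCols m) (keys.getD x 0) (keys.getD (ent c.b T x) 0) ||
      Cfsg.Lib.Concrete.stepOk (packCols m) (keys.getD x 0) (mate.getD (ent c.b T x) 0)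

theorem out_congr {A B : Type*} [Group A] [Group B] (e : A ≃* B) :
    Nat.card (Cfsg.Out A) = Nat.card (Cfsg.Out B) := by
  refine Nat.card_congr (QuotientGroup.congr (Cfsg.Inn A) (Cfsg.Inn B) (MulAut.congr e) ?_).toEquiv
  ext φ
  constructor
  · rintro ⟨_, ⟨a, rfl⟩, rfl⟩
    exact ⟨e a, MulEquiv.ext fun x => by simp [MulAut.congr]⟩
  · rintro ⟨b, rfl⟩
    exact ⟨MulAut.conj (e.symm b), ⟨_, rfl⟩, MulEquiv.ext fun x => by simp [MulAut.congr]⟩

theorem key_eq_of_codeVec : ∀ (n : ℕ) (k k' : ℕ), k < 16 ^ n → k' < 16 ^ n →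
    (∀ j < n, k / 16 ^ j % 16 = k' / 16 ^ j % 16) → k = k' := by
  intro n
  induction n with
  | zero => intro k k' h h' _; simp at h h'; omega
  | succ n ih =>
    intro k k' h h' e
    have e0 := e 0 (Nat.succ_pos n)
    simp only [pow_zero, Nat.div_one] at e0
    rw [pow_succ'] at h h'
    have := ih (k / 16) (k' / 16) (Nat.div_lt_of_lt_mul h) (Nat.div_lt_of_lt_mul h') fun j hj => by
      have := e (j + 1) (by omega)
      rwa [pow_succ', ← Nat.div_div_eq_div_mul, ← Nat.div_div_eq_div_mul] at this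
    rw [← Nat.mod_add_div k 16, ← Nat.mod_add_div k' 16, e0, this]

theorem codeVec_inj {k k' : ℕ} (h : k < 16 ^ 24) (h' : k' < 16 ^ 24) (e : codeVec k = codeVec k') : k = k' := by
  refine key_eq_of_codeVec 24 k k' h h' fun j hj => ?_
  have := congrFun e (gpt ⟨j, hj⟩)
  simp only [codeVec, gidx_gpt, codeCoord] at this
  omega

/-- The lattice vector of a key. -/
noncomputable def keyL (k : ℕ) : leechLattice :=
  if h : inLeech (codeVec k) = true then ⟨codeVec k, mem_leech_of_inLeech h⟩ else 0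

theorem keyL_val {k : ℕ} (h : inLeech (codeVec k) = true) : (keyL k : GolayPt → ℤ) = codeVec k := by
  rw [keyL, dif_pos h]

theorem keysOk_spec {keys : List ℕ} (h : keysOk keys = true) :
    keys.Nodup ∧ ∀ k ∈ keys, k < 16 ^ 24 ∧ inLeech (codeVec k) = true := by
  simp only [keysOk, Bool.and_eq_true, List.all_eq_true, Nat.blt, Nat.ble_eq] at h
  exact ⟨nodup_of_nodupB h.1, fun k hk => ⟨(h.2 k hk).1, (h.2 k hk).2⟩⟩

theorem keyL_inj {keys : List ℕ} (h : keysOk keys = true) {i j : ℕ} (hi : i < keys.length) (hj : j < keys.length)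
    (e : keyL (keys.getD i 0) = keyL (keys.getD j 0)) : i = j := by
  obtain ⟨hn, hk⟩ := keysOk_spec h
  rw [List.getD_eq_getElem _ _ hi, List.getD_eq_getElem _ _ hj] at e
  obtain ⟨a1, a2⟩ := hk _ (List.getElem_mem hi)
  obtain ⟨b1, b2⟩ := hk _ (List.getElem_mem hj)
  have := congrArg (fun v : leechLattice => (v : GolayPt → ℤ)) e
  simp only [keyL_val a2, keyL_val b2] at this
  exact hn.getElem_inj_iff.1 (codeVec_inj a1 b1 this)

theorem smul_keyL {m : List (List ℤ)} (hm : matOk m = true) (hb : boundOk m = true) {a b : ℕ}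
    (ha : inLeech (codeVec a) = true) (hbk : inLeech (codeVec b) = true)
    (h : Cfsg.Lib.Concrete.stepOk (packCols m) a b = true) : matCo0 m hm • keyL a = keyL b := by
  refine Subtype.ext ?_
  rw [smul_of_stepOk hm hb h (keyL_val ha), keyL_val hbk]

theorem card_sub_co0 (S : Subgroup Co0) : Nat.card ↥(S.map Co0.subtype) = Nat.card S :=
  Nat.card_congr (S.equivMapOfInjective Co0.subtype Co0.subtype_injective).toEquiv.symm

theorem map_stab (v : leechLattice) :
    (stabilizer Co0 v).map Co0.subtype = Co0 ⊓ stabilizer (Equiv.Perm leechLattice) v := by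
  ext g
  constructor
  · rintro ⟨x, hx, rfl⟩
    exact ⟨x.2, hx⟩
  · rintro ⟨h1, h2⟩
    exact ⟨⟨g, h1⟩, h2, rfl⟩

theorem map_stab_pair (v w : leechLattice) :
    (stabilizer Co0 v ⊓ stabilizer Co0 w).map Co0.subtype =
      Co0 ⊓ stabilizer (Equiv.Perm leechLattice) v ⊓ stabilizer (Equiv.Perm leechLattice) w := by
  ext g
  constructor
  · rintro ⟨x, ⟨hx, hx'⟩, rfl⟩
    exact ⟨⟨x.2, hx⟩, hx'⟩
  · rintro ⟨⟨h1, h2⟩, h3⟩
    exact ⟨⟨g, h1⟩, ⟨h2, h3⟩, rfl⟩

end

end Cfsg.Lib.PermAut
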