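import Cfsg.Agent.Lib.PermAut.Sub

/-!
# Restricting a certified group to an invariant interval of points
-/

set_option autoImplicit false
set_option linter.unusedSectionVars false

namespace Cfsg.Lib.PermAut

open Equiv

/-- A table restricts to a table on an interval of points. -/
noncomputable def restAtB (b b' M off S t : ℕ) : Bool :=
  allBelowB M fun x => Nat.beq (ent b S (x + off)) (ent b' t x + off)

variable {b b' N M : ℕ} [NeZero N] [NeZero M]

/-- The pairs of a permutation and its restriction to an interval. -/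
def atPairs (off : ℕ) (hM : M + off ≤ N) : Subgroup (Perm (Fin N) × Perm (Fin M)) where
  carrier := {u | ∀ x : Fin M, (u.1 ⟨x + off, by omega⟩ : ℕ) = (u.2 x : ℕ) + off}
  one_mem' := fun _ => rfl
  mul_mem' {u v} hu hv := fun x => by
    show (u.1 (v.1 _) : ℕ) = (u.2 (v.2 x) : ℕ) + off
    rw [show v.1 ⟨(x : ℕ) + off, _⟩ = (⟨(v.2 x : ℕ) + off, by omega⟩ : Fin N) from Fin.ext (hv x)]
    exact hu (v.2 x)
  inv_mem' {u} hu := fun x => by
    show (u.1⁻¹ _ : ℕ) = (u.2⁻¹ x : ℕ) + off
    have h := hu (u.2⁻¹ x)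
    have e : u.2 (u.2⁻¹ x) = x := Equiv.apply_symm_apply _ _
    rw [e] at h
    rw [show (⟨(x : ℕ) + off, _⟩ : Fin N) = u.1 ⟨(u.2⁻¹ x : ℕ) + off, by omega⟩ from Fin.ext h.symm,
      show ∀ z, u.1⁻¹ (u.1 z) = z from fun z => Equiv.symm_apply_apply _ _]

theorem exists_restrict_at {H : Sub} (V : H.Valid b N) {off : ℕ} (hM : M + off ≤ N) {t0 t1 : ℕ}
    (h0 : Rep b' (toP b' M t0) t0) (h1 : Rep b' (toP b' M t1) t1) (r0 : restAtB b b' M off H.g0 t0 = true)
    (r1 : restAtB b b' M off H.g1 t1 = true) :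
    ∃ φ : ↥(H.grp b N) →* Perm (Fin M),
      (∀ g : ↥(H.grp b N), ∀ x : Fin M, ((g : Perm (Fin N)) ⟨x + off, by omega⟩ : ℕ) = (φ g x : ℕ) + off) ∧
      φ.range = Subgroup.closure {toP b' M t0, toP b' M t1} ∧
      ∀ g : ↥(H.grp b N), (g : Perm (Fin N)) = toP b N H.g0 → φ g = toP b' M t0 := by
  let T : Subgroup (Perm (Fin N) × Perm (Fin M)) :=
    Subgroup.closure {(toP b N H.g0, toP b' M t0), (toP b N H.g1, toP b' M t1)}
  have hgen : ∀ {S t : ℕ}, Rep b (toP b N S) S → Rep b' (toP b' M t) t → restAtB b b' M off S t = true →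
      ∀ x : Fin M, (toP b N S ⟨x + off, by omega⟩ : ℕ) = (toP b' M t x : ℕ) + off := fun hS ht hr x => by
    rw [hS, ht]
    rw [restAtB] at hr
    exact Nat.eq_of_beq_eq_true (allBelowB_iff.1 hr x x.isLt)
  have hT : T ≤ atPairs off hM := by
    rw [Subgroup.closure_le]
    rintro u (rfl | rfl)
    · exact hgen V.g0 h0 r0
    · exact hgen V.g1 h1 r1
  let p1 : T →* Perm (Fin N) := (MonoidHom.fst _ _).comp T.subtype
  let p2 : T →* Perm (Fin M) := (MonoidHom.snd _ _).comp T.subtype
  have i1 : Function.Injective p1 := (injective_iff_map_eq_one p1).2 fun u hu => by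
    refine Subtype.ext (Prod.ext hu (Equiv.ext fun x => Fin.ext ?_))
    have := hT u.2 x
    rw [show (u : Perm (Fin N) × Perm (Fin M)).1 = 1 from hu] at this
    show ((u : Perm (Fin N) × Perm (Fin M)).2 x : ℕ) = (x : ℕ)
    simp only [Perm.coe_one, id_eq] at this
    omega
  have e1 : p1.range = H.grp b N := by
    rw [MonoidHom.range_comp, Subgroup.range_subtype, MonoidHom.map_closure, Sub.grp]
    simp [Set.image_insert_eq]
  have e2 : p2.range = Subgroup.closure {toP b' M t0, toP b' M t1} := by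
    rw [MonoidHom.range_comp, Subgroup.range_subtype, MonoidHom.map_closure]
    simp [Set.image_insert_eq]
  let E : T ≃* ↥(H.grp b N) := (MonoidHom.ofInjective i1).trans (MulEquiv.subgroupCongr e1)
  refine ⟨p2.comp E.symm.toMonoidHom, fun g x => ?_, ?_, fun g hg => ?_⟩
  · have h : p1 (E.symm g) = (g : Perm (Fin N)) := congrArg Subtype.val (E.apply_symm_apply g)
    rw [← h]
    exact hT (E.symm g).2 x
  · rw [MonoidHom.range_comp, MonoidHom.range_eq_top.2 E.symm.surjective, ← MonoidHom.range_eq_map, e2]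
  · have hu : E.symm g = ⟨(toP b N H.g0, toP b' M t0), Subgroup.subset_closure (by simp)⟩ := by
      refine i1 ?_
      rw [show p1 (E.symm g) = (g : Perm (Fin N)) from congrArg Subtype.val (E.apply_symm_apply g), hg]
      rfl
    show p2 (E.symm g) = _
    rw [hu]
    rfl

end Cfsg.Lib.PermAut
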