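import Cfsg.Agent.Lib.PermAut.Lattice

/-!
# Reading the checks of lattice certificates
-/

set_option autoImplicit false

namespace Cfsg.Lib.PermAut

open Cfsg MulAction Cfsg.Lib.Concrete

theorem matOk_of {m : List (List ℤ)} {fixK : List ℕ} (h : matOkB m fixK = true) : matOk m = true := by
  simp only [matOkB, Bool.and_eq_true] at h
  exact h.1.1

theorem boundOk_of {m : List (List ℤ)} {fixK : List ℕ} (h : matOkB m fixK = true) : boundOk m = true := by
  simp only [matOkB, Bool.and_eq_true] at h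
  exact h.1.2

theorem fix_of_check {m : List (List ℤ)} {fixK : List ℕ} (hk : keysOk fixK = true) (h : matOkB m fixK = true)
    (hm : matOk m = true) {k : ℕ} (hmem : k ∈ fixK) : matCo0 m hm • keyL k = keyL k := by
  obtain ⟨-, hs⟩ := keysOk_spec hk
  refine smul_keyL hm (boundOk_of h) (hs k hmem).2 (hs k hmem).2 ?_
  simp only [matOkB, Bool.and_eq_true, List.all_eq_true] at h
  exact h.2 k hmem

theorem moves_cases {c : Cert} {m : List (List ℤ)} {T : ℕ} {keys mate fixK : List ℕ}
    (hk : ∀ k, k ∈ keys ∨ k ∈ mate → inLeech (codeVec k) = true) (hlen : keys.length = c.N) (hlen' : mate.length = c.N)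
    (hm : matOkB m fixK = true) (h : movesOk c m T keys mate = true) [NeZero c.N] (hT : Rep c.b (c.P T) T)
    (x : Fin c.N) :
    matCo0 m (matOk_of hm) • keyL (keys.getD x 0) = keyL (keys.getD (c.P T x) 0) ∨
      matCo0 m (matOk_of hm) • keyL (keys.getD x 0) = keyL (mate.getD (c.P T x) 0) := by
  simp only [movesOk, List.all_eq_true, List.mem_range, Bool.or_eq_true] at h
  have hx := h x x.isLt
  rw [← hT x] at hx
  have hmem : ∀ i < c.N, keys.getD i 0 ∈ keys ∧ mate.getD i 0 ∈ mate := fun i hi =>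
    ⟨by rw [List.getD_eq_getElem _ _ (hlen.symm ▸ hi)]; exact List.getElem_mem _,
      by rw [List.getD_eq_getElem _ _ (hlen'.symm ▸ hi)]; exact List.getElem_mem _⟩
  exact hx.imp
    (smul_keyL _ (boundOk_of hm) (hk _ (Or.inl (hmem x x.isLt).1)) (hk _ (Or.inl (hmem _ (c.P T x).isLt).1)))
    (smul_keyL _ (boundOk_of hm) (hk _ (Or.inl (hmem x x.isLt).1)) (hk _ (Or.inr (hmem _ (c.P T x).isLt).2)))

theorem moves_plain {c : Cert} {m : List (List ℤ)} {T : ℕ} {keys fixK : List ℕ} (hk : keysOk keys = true)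
    (hlen : keys.length = c.N) (hm : matOkB m fixK = true) (h : movesOk c m T keys keys = true) [NeZero c.N]
    (hT : Rep c.b (c.P T) T) (x : Fin c.N) :
    ((matCo0 m (matOk_of hm) : Co0) : Equiv.Perm leechLattice) (keyL (keys.getD x 0)) =
      keyL (keys.getD (c.P T x) 0) := by
  rcases moves_cases (fun k hk' => ((keysOk_spec hk).2 k (hk'.elim id id)).2) hlen hlen hm h hT x with e | e <;>
    exact e

end Cfsg.Lib.PermAut
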