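import Cfsg.Agent.Lib.PermAut.CoThreeCheck
import Cfsg.Agent.Lib.PermAut.LatticeMoves

/-!
# The outer automorphism group of the third Conway group
-/

set_option autoImplicit false
set_option maxRecDepth 4000

namespace Cfsg.Lib.PermAut.CoThree

open Cfsg MulAction Cfsg.Lib.Concrete
open scoped Pointwise

instance : NeZero cert.N := ⟨by decide⟩

theorem fix_key : keyL 0x377777777777777777777777 = Spor.leechV := by
  obtain ⟨-, h⟩ := keysOk_spec fix_key_check
  have hV : ∀ p : GolayPt, codeVec 0x377777777777777777777777 p = Spor.vecV p := by decide +kernel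
  exact Subtype.ext ((keyL_val (h _ (by simp)).2).trans (funext hV))

theorem mate_check : ((List.range cert.N).all fun x => (List.finRange 24).all fun i =>
    codeCoord (mateKeys.getD x 0) i == -Spor.vecV (gpt i) - codeCoord (ptKeys.getD x 0) i) = true := by
  decide +kernel

/-- A vector and its partner. -/
def pairOf (v : leechLattice) : Set leechLattice := {v, -Spor.leechV - v}

theorem pairOf_mate (v : leechLattice) : pairOf (-Spor.leechV - v) = pairOf v := by
  unfold pairOf
  rw [sub_sub_cancel, Set.pair_comm]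

theorem co0_sub (g : Co0) (v w : leechLattice) : g • (v - w) = g • v - g • w := map_sub (co0Hom g) v w

theorem co0_neg (g : Co0) (v : leechLattice) : g • (-v) = -(g • v) := map_neg (co0Hom g) v

theorem mate_eq {x : ℕ} (hx : x < cert.N) :
    keyL (mateKeys.getD x 0) = -Spor.leechV - keyL (ptKeys.getD x 0) := by
  obtain ⟨hk, h1, h2⟩ := key_check
  obtain ⟨-, hs⟩ := keysOk_spec hk
  have hm := mate_check
  simp only [List.all_eq_true, List.mem_range, beq_iff_eq] at hm
  have m1 : mateKeys.getD x 0 ∈ ptKeys ++ mateKeys := by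
    rw [List.getD_eq_getElem _ _ (h2.symm ▸ hx)]
    exact List.mem_append_right _ (List.getElem_mem _)
  have m2 : ptKeys.getD x 0 ∈ ptKeys ++ mateKeys := by
    rw [List.getD_eq_getElem _ _ (h1.symm ▸ hx)]
    exact List.mem_append_left _ (List.getElem_mem _)
  refine Subtype.ext ((keyL_val (hs _ m1).2).trans (funext fun p => ?_))
  show _ = -Spor.vecV p - (keyL (ptKeys.getD x 0) : GolayPt → ℤ) p
  rw [keyL_val (hs _ m2).2]
  have := hm x hx (gidx p) (List.mem_finRange _)
  rwa [gpt_gidx] at this

theorem card_co3_spor : Nat.card ↥Spor.Co3 = 495766656000 := by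
  have e : Spor.Co3 = (stabilizer Co0 Spor.leechV).map Co0.subtype := (map_stab _).symm
  rw [e, card_sub_co0]
  exact card_stab_48 _ (show sqNorm Spor.vecV = 48 by decide +kernel)

theorem co3_model : Nonempty (↥Spor.Co3 ≃* cert.K) ∧ Nat.card cert.K = cert.size := by
  have hsz : cert.size = 495766656000 := by decide +kernel
  have hfix : ∀ {m : List (List ℤ)} (hm : matOkB m [0x377777777777777777777777] = true),
      ((matCo0 m (matOk_of hm) : Co0) : Equiv.Perm leechLattice) ∈ Spor.Co3 := by
    intro m hm
    refine ⟨(matCo0 m (matOk_of hm)).2, ?_⟩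
    show matCo0 m (matOk_of hm) • Spor.leechV = Spor.leechV
    rw [← fix_key]; exact fix_of_check fix_key_check hm (matOk_of hm) (by simp)
  obtain ⟨hA, hC, hD⟩ := mat_check
  obtain ⟨hk, hlen, hlen'⟩ := key_check
  haveI : Finite ↥Spor.Co3 := Nat.finite_of_card_ne_zero (by rw [card_co3_spor]; norm_num)
  have G := Cert.gen_of_check gen_check
  have hin : ∀ k, k ∈ ptKeys ∨ k ∈ mateKeys → inLeech (codeVec k) = true := fun k h =>
    ((keysOk_spec hk).2 k (List.mem_append.2 h)).2
  have hmove : ∀ {m : List (List ℤ)} {T : ℕ} (hm : matOkB m [0x377777777777777777777777] = true),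
      movesOk cert m T ptKeys mateKeys = true → Rep cert.b (cert.P T) T → ∀ x : Fin cert.N,
      (⟨_, hfix hm⟩ : ↥Spor.Co3) • pairOf (keyL (ptKeys.getD x 0)) =
        pairOf (keyL (ptKeys.getD (cert.P T x) 0)) := by
    intro m T hm h hT x
    show (matCo0 m (matOk_of hm)) • pairOf (keyL (ptKeys.getD x 0)) = _
    have hV : matCo0 m (matOk_of hm) • Spor.leechV = Spor.leechV := (hfix hm).2
    have hlin : matCo0 m (matOk_of hm) • pairOf (keyL (ptKeys.getD x 0)) =
        pairOf (matCo0 m (matOk_of hm) • keyL (ptKeys.getD x 0)) := by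
      unfold pairOf
      rw [Set.smul_set_insert, Set.smul_set_singleton, co0_sub, co0_neg, hV]
    rw [hlin]
    rcases moves_cases hin hlen hlen' hm h hT x with e | e
    · rw [e]
    · rw [e, mate_eq (cert.P T x).isLt, pairOf_mate]
  have hinj : Function.Injective (fun x : Fin cert.N => pairOf (keyL (ptKeys.getD x 0))) := by
    intro i j h
    have hmem : keyL (ptKeys.getD i 0) ∈ pairOf (keyL (ptKeys.getD j 0)) := by
      rw [← show pairOf (keyL (ptKeys.getD i 0)) = pairOf (keyL (ptKeys.getD j 0)) from h]
      exact Or.inl rfl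
    rw [pairOf, ← mate_eq j.isLt] at hmem
    have hi : (i : ℕ) < ptKeys.length := hlen.symm ▸ i.isLt
    have hj : (j : ℕ) < ptKeys.length := hlen.symm ▸ j.isLt
    have hj' : (j : ℕ) < mateKeys.length := hlen'.symm ▸ j.isLt
    have gi : (ptKeys ++ mateKeys).getD i 0 = ptKeys.getD i 0 := List.getD_append _ _ _ _ hi
    rcases hmem with e | e
    · have gj : (ptKeys ++ mateKeys).getD j 0 = ptKeys.getD j 0 := List.getD_append _ _ _ _ hj
      exact Fin.ext (keyL_inj hk (by rw [List.length_append]; omega) (by rw [List.length_append]; omega)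
        (by rw [gi, gj]; exact e))
    · have gj : (ptKeys ++ mateKeys).getD (ptKeys.length + j) 0 = mateKeys.getD j 0 := by
        rw [List.getD_append_right _ _ _ _ (Nat.le_add_right _ _), Nat.add_sub_cancel_left]
      have := keyL_inj hk (i := i) (j := ptKeys.length + j) (by rw [List.length_append]; omega)
        (by rw [List.length_append]; omega) (by rw [gi, gj]; exact e)
      omega
  exact exists_equiv cert gen_check (card_co3_spor.trans hsz.symm)
    (fun x : Fin cert.N => pairOf (keyL (ptKeys.getD x 0))) hinj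
    ⟨_, hfix hA⟩ ⟨_, hfix hC⟩ ⟨_, hfix hD⟩
    (fun x => hmove hA move_check.1 G.a x) (fun x => hmove hC move_check.2.1 G.c x)
    (fun x => hmove hD move_check.2.2 G.d x)

theorem card_out_co3 : Nat.card (Cfsg.Out ↥Spor.Co3) = 1 := by
  have hsz : cert.size = 495766656000 := by decide +kernel
  obtain ⟨⟨e⟩, hK⟩ := co3_model
  rw [out_congr e]
  exact Cert.out_one gen_check hK (by decide +kernel) (by rw [hsz]; decide +kernel) norm_check second_check third_check

end Cfsg.Lib.PermAut.CoThree
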