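import Cfsg.Agent.Lib.PermAut.Proj

/-!
# A double cover of a certified group
-/

set_option autoImplicit false
set_option linter.unusedSectionVars false

namespace Cfsg.Lib.PermAut

open Equiv Cfsg.Lib.Concrete
open scoped commutatorElement

variable {b N M : ℕ} [NeZero N]

theorem Sub.Valid.central_facts {H : Sub} (V : H.Valid b N) (hM : M ≤ N) {z : ℕ} {u v zp : List ℕ}
    (hR : Rep b (toP b N z) z) (h : H.centralB b N M z u v zp = true) :
    ∃ Z U W : ↥(H.grp b N), (Z : Perm (Fin N)) ≠ 1 ∧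
      (∀ x : Fin M, (Z : Perm (Fin N)) (Fin.castLE hM x) = Fin.castLE hM x) ∧
      Z ∈ Subgroup.center ↥(H.grp b N) ∧ W * (U * Z) = U * W := by
  simp only [Sub.centralB, Bool.and_eq_true, Bool.not_eq_true'] at h
  obtain ⟨⟨⟨⟨⟨⟨⟨⟨hu, hv⟩, hp⟩, hs⟩, hc0⟩, hc1⟩, hcom⟩, hne⟩, hfix⟩ := h
  have hm := V.mem_of_same hR hp hs
  have gu := V.good_of_path hu
  have gv := V.good_of_path hv
  have hev : ∀ x : Fin N, ((toP b N z x : Fin N) : ℕ) = ev b [z] x := fun x => by
    have := ev_rep (b := b) (l := [z]) (by simpa using hR) x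
    rwa [List.map_singleton, List.prod_singleton] at this
  refine ⟨⟨_, hm⟩, ⟨_, V.mem_of_path hu⟩, ⟨_, V.mem_of_path hv⟩, ?_, ?_, ?_, ?_⟩
  · intro e
    have e' : toP b N z = 1 := e
    have : sameB b N [z] [] = true := sameB_iff.2 fun x hx => by
      rw [← hev ⟨x, hx⟩, e']
      simp [ev]
    rw [this] at hne
    exact Bool.noConfusion hne
  · intro x
    refine Fin.ext ?_
    show ((toP b N z (Fin.castLE hM x) : Fin N) : ℕ) = _
    rw [hev]
    exact Nat.eq_of_beq_eq_true (sameB_iff.1 hfix x x.isLt)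
  · have key : ∀ {T : ℕ}, Rep b (toP b N T) T → sameB b N [z, T] [T, z] = true →
        toP b N z * toP b N T = toP b N T * toP b N z := fun {T} hT hs => by
      have e := eq_of_sameB (l := [z, T]) (l' := [T, z]) (by simp [hR, hT]) (by simp [hR, hT]) hs
      simpa using e
    refine Subgroup.mem_center_iff.2 fun g => Subtype.ext ?_
    have hle : H.grp b N ≤ Subgroup.centralizer {toP b N z} := by
      rw [Sub.grp, Subgroup.closure_le]
      rintro x (rfl | rfl) <;> refine Subgroup.mem_centralizer_iff.2 fun y hy => ?_ <;>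
        rw [Set.mem_singleton_iff.1 hy]
      · exact key V.g0 hc0
      · exact key V.g1 hc1
    exact ((Subgroup.mem_centralizer_iff.1 (hle g.2)) _ rfl).symm
  · refine Subtype.ext ?_
    have e := eq_of_sameB (fun S hS => by
      rcases List.mem_append.1 hS with hS | hS
      · exact gv S hS
      rcases List.mem_append.1 hS with hS | hS
      · exact gu S hS
      · rw [List.mem_singleton.1 hS]; exact hR)
      (fun S hS => (List.mem_append.1 hS).elim (gu S) (gv S)) hcom
    simp only [List.map_append, List.prod_append, List.map_singleton, List.prod_singleton] at e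
    simp only [Subgroup.coe_mul]
    exact e

/-- A certified group with a central commutator over the group of a certificate on the first points. -/
theorem exists_stem_two {H : Sub} (V : H.Valid b N) {C : Cert} [NeZero C.N] (G : C.Gen) (hM : C.N ≤ N)
    {t0 t1 : ℕ} (R0 : Rep C.b (toP C.b C.N t0) t0) (R1 : Rep C.b (toP C.b C.N t1) t1)
    (r0 : restB b C.b C.N [H.g0] t0 = true) (r1 : restB b C.b C.N [H.g1] t1 = true) {p0 p1 : List ℕ}
    (hp0 : pathOk C.tr p0 = true) (hs0 : sameB C.b C.N [t0] (pickPath C.tr p0) = true) (hp1 : pathOk C.tr p1 = true)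
    (hs1 : sameB C.b C.N [t1] (pickPath C.tr p1) = true) {la lc ld : List ℕ}
    (ha : pathOk H.lev la = true ∧ restB b C.b C.N (pickPath H.lev la) C.a = true)
    (hc : pathOk H.lev lc = true ∧ restB b C.b C.N (pickPath H.lev lc) C.c = true)
    (hd : pathOk H.lev ld = true ∧ restB b C.b C.N (pickPath H.lev ld) C.d = true)
    {z : ℕ} {u v zp : List ℕ} (hR : Rep b (toP b N z) z) (hz : H.centralB b N C.N z u v zp = true)
    (hcard : H.size = 2 * C.size) (hK : Nat.card C.K = C.size) :
    ∃ σ : ↥(H.grp b N) →* ↥C.K, IsStemExtension σ ∧ Nat.card σ.ker = 2 := by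
  obtain ⟨φ, hφ, hrange⟩ := exists_restrict V hM R0 R1 r0 r1
  have hmem : ∀ {T : ℕ} {w : List ℕ}, Rep C.b (toP C.b C.N T) T → pathOk C.tr w = true →
      sameB C.b C.N [T] (pickPath C.tr w) = true → toP C.b C.N T ∈ C.K := by
    intro T w hT hw hs
    have hg : ∀ S ∈ pickPath C.tr w, Rep C.b (C.P S) S ∧ C.P S ∈ C.K := fun S hS => by
      obtain ⟨l, hl, h'⟩ := mem_of_forall₂ (forall₂_pick hw) S hS
      exact G.rep l hl S h'
    have e := eq_of_sameB (l := [T]) (by simpa using hT) (fun S hS => (hg S hS).1) hs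
    rw [List.map_singleton, List.prod_singleton] at e
    rw [e]
    exact Subgroup.list_prod_mem _ fun x hx => by
      obtain ⟨S, hS, rfl⟩ := List.mem_map.1 hx
      exact (hg S hS).2
  have hlift : ∀ {T : ℕ} {w : List ℕ}, Rep C.b (toP C.b C.N T) T → pathOk H.lev w = true →
      restB b C.b C.N (pickPath H.lev w) T = true → toP C.b C.N T ∈ φ.range := by
    intro T w hT hw hs
    refine ⟨⟨_, V.mem_of_path hw⟩, Equiv.ext fun x => Fin.castLE_injective hM (Fin.ext ?_)⟩
    rw [← hφ, ev_rep (V.good_of_path hw)]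
    show _ = ((toP C.b C.N T x : Fin C.N) : ℕ)
    rw [hT]
    exact Nat.eq_of_beq_eq_true (restB_iff.1 hs x x.isLt)
  have hKr : φ.range = C.K := by
    refine le_antisymm ?_ ?_
    · rw [hrange, Subgroup.closure_le]
      rintro g (rfl | rfl)
      · exact hmem R0 hp0 hs0
      · exact hmem R1 hp1 hs1
    · rw [Cert.K, Subgroup.closure_le]
      rintro g (rfl | rfl | rfl)
      · exact hlift G.a ha.1 ha.2
      · exact hlift G.c hc.1 hc.2
      · exact hlift G.d hd.1 hd.2
  let σ : ↥(H.grp b N) →* ↥C.K := (MulEquiv.subgroupCongr hKr).toMonoidHom.comp φ.rangeRestrict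
  have hs : Function.Surjective σ := (MulEquiv.subgroupCongr hKr).surjective.comp φ.rangeRestrict_surjective
  obtain ⟨Z, U, W, hz1, hfix, hzc, hcom⟩ := V.central_facts hM hR hz
  have hzk : Z ∈ σ.ker := MonoidHom.mem_ker.2 (Subtype.ext (Equiv.ext fun x =>
    Fin.castLE_injective hM ((hφ Z x).symm.trans (hfix x))))
  have hcard2 : Nat.card σ.ker = 2 := by
    have h := σ.ker.card_mul_index
    rw [Subgroup.index_ker, MonoidHom.range_eq_top.2 hs, Subgroup.card_top, hK, V.card, hcard] at h
    exact Nat.eq_of_mul_eq_mul_right (hK ▸ Nat.card_pos) h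
  have hker : σ.ker = Subgroup.zpowers Z := by
    refine (Subgroup.eq_of_le_of_card_ge (Subgroup.zpowers_le.2 hzk) ?_).symm
    rw [hcard2, Nat.card_zpowers]
    have : orderOf Z ≠ 1 := fun e => hz1 (congrArg Subtype.val (orderOf_eq_one_iff.1 e))
    have := orderOf_pos Z
    omega
  refine ⟨σ, ⟨hs, ?_, ?_⟩, hcard2⟩
  · rw [hker]; exact Subgroup.zpowers_le.2 hzc
  · rw [hker, Subgroup.zpowers_le]
    have e : Z = ⁅U⁻¹, W⁻¹⁆ := by
      rw [commutatorElement_def, inv_inv, inv_inv, mul_assoc _ U W, ← hcom]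
      group
    rw [e]
    exact Subgroup.commutator_mem_commutator (Subgroup.mem_top _) (Subgroup.mem_top _)

end Cfsg.Lib.PermAut
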