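import Cfsg.Agent.Lib.PermAut.Sub

/-!
# Splitting the check of a chain into smaller checks
-/

set_option autoImplicit false

namespace Cfsg.Lib.PermAut.Split

theorem all2_take_drop {α β : Type} {f : α → β → Bool} : ∀ (k : ℕ) {l : List α} {l' : List β},
    all2 f (l.take k) (l'.take k) = true → all2 f (l.drop k) (l'.drop k) = true → all2 f l l' = true
  | 0, _, _, _, h => by simpa using h
  | _ + 1, [], [], _, _ => rfl
  | _ + 1, [], _ :: _, h, _ => by simp [all2] at h
  | _ + 1, _ :: _, [], h, _ => by simp [all2] at h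
  | k + 1, a :: l, c :: l', h, h' => by
    simp only [List.take_succ_cons, List.drop_succ_cons, all2, Bool.and_eq_true] at h h' ⊢
    exact ⟨h.1, all2_take_drop k h.2 h'⟩

/-- The first level is a tree over its strong generators, which contain those of the next level. -/
noncomputable def treeB (b N : ℕ) (L S : List (List ℕ)) (P : List (List (ℕ × ℕ))) (C : List (List (List (List ℕ)))) : Bool :=
  !L.isEmpty && !S.isEmpty && !P.isEmpty && !C.isEmpty &&
    ((List.range (L.headD []).length).all fun j =>
      bif Nat.beq j 0 then sameB b N [(L.headD []).getD j 0] [] else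
        Nat.blt ((P.headD []).getD j (0, 0)).1 (S.headD []).length && Nat.blt ((P.headD []).getD j (0, 0)).2 j &&
          sameB b N [(L.headD []).getD j 0]
            [(S.headD []).getD ((P.headD []).getD j (0, 0)).1 0, (L.headD []).getD ((P.headD []).getD j (0, 0)).2 0]) &&
    Nat.blt 0 (L.headD []).length && (S.tail.headD []).all (fun x => (S.headD []).any fun y => Nat.beq x y)

/-- The listed rows of the first level are closed. -/
noncomputable def rowsB (b N : ℕ) (L : List (List ℕ)) (s : List ℕ) (cl : List (List (List ℕ))) : Bool :=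
  all2 (fun sT row => all2 (fun t pth => pathOk L pth && sameB b N [sT, t] (pickPath L pth)) (L.headD []) row) s cl

theorem closedB_of {b N : ℕ} : ∀ {L S : List (List ℕ)} {P : List (List (ℕ × ℕ))} {C : List (List (List (List ℕ)))},
    treeB b N L S P C = true → rowsB b N L (S.headD []) (C.headD []) = true →
      closedB b N L.tail S.tail P.tail C.tail = true → closedB b N L S P C = true
  | [], _, _, _, h, _, _ => by simp [treeB] at h
  | _ :: _, [], _, _, h, _, _ => by simp [treeB] at h
  | _ :: _, _ :: _, [], _, h, _, _ => by simp [treeB] at h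
  | _ :: _, _ :: _, _ :: _, [], h, _, _ => by simp [treeB] at h
  | _ :: _, _ :: _, _ :: _, _ :: _, h, h1, h2 => by
    simp only [treeB, rowsB, List.isEmpty_cons, Bool.not_false, Bool.true_and, List.headD_cons, List.tail_cons,
      Bool.and_eq_true] at h h1 h2
    simp only [closedB, Bool.and_eq_true]
    exact ⟨⟨h, h1⟩, h2⟩

/-- The checks of a chain apart from the closure. -/
noncomputable def preB (H : Sub) (b N : ℕ) : Bool :=
  invPairOk b N H.g0 H.g0i && invPairOk b N H.g1 H.g1i && Nat.beq (H.E.getD 0 0) H.g0 && Nat.beq (H.E.getD 1 0) H.g1 &&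
  Nat.beq (H.E.getD 2 0) H.g0i && Nat.beq (H.E.getD 3 0) H.g1i &&
  stepsOk b N H.E 4 H.steps &&
  all2 (fun T i => Nat.blt i H.E.length && Nat.beq (H.E.getD i 0) T) (H.sg.headD []) H.sgI &&
  (H.sg.headD []).any (fun T => Nat.beq T H.g0) && (H.sg.headD []).any (fun T => Nat.beq T H.g1)

/-- The separation checks of a chain. -/
noncomputable def baseB (H : Sub) (b N : ℕ) : Bool := (H.base.all fun x => Nat.blt x N) && sepOk b H.lev H.base

theorem ok_of_parts {H : Sub} {b N : ℕ} (h1 : preB H b N = true) (h2 : closedB b N H.lev H.sg H.par H.close = true)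
    (h3 : baseB H b N = true) : H.ok b N = true := by
  rw [baseB, Bool.and_eq_true] at h3
  rw [Sub.ok, Bool.and_eq_true, Bool.and_eq_true, Bool.and_eq_true]
  exact ⟨⟨⟨h1, h2⟩, h3.1⟩, h3.2⟩

end Cfsg.Lib.PermAut.Split
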