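import Cfsg.Agent.Lib.PermAut.Proj
import Cfsg.Agent.Lib.PermAut.Split
import Cfsg.Agent.Lib.PermAut.HsData
import Cfsg.Agent.Lib.PermAut.HsCoverData

/-!
# Checks of the double cover
-/

set_option autoImplicit false
set_option maxRecDepth 20000
set_option Elab.async false

namespace Cfsg.Lib.PermAut.Hs

theorem coverSub_rows0_0 :
    Split.rowsB 10 804 coverSub.lev
      ((coverSub.sg.headD []).take 3)
      ((coverSub.close.headD []).take 3) = true := by decide +kernel

theorem coverSub_rows0_1 :
    Split.rowsB 10 804 coverSub.lev
      (((coverSub.sg.headD []).drop 3).take 3)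
      (((coverSub.close.headD []).drop 3).take 3) = true := by decide +kernel

theorem coverSub_rows0_2 :
    Split.rowsB 10 804 coverSub.lev
      (((coverSub.sg.headD []).drop 6).take 3)
      (((coverSub.close.headD []).drop 6).take 3) = true := by decide +kernel

theorem coverSub_rows0_3 :
    Split.rowsB 10 804 coverSub.lev
      ((coverSub.sg.headD []).drop 9)
      ((coverSub.close.headD []).drop 9) = true := by decide +kernel

theorem coverSub_rows0 : Split.rowsB 10 804 coverSub.lev (coverSub.sg.headD []) (coverSub.close.headD []) = true := by
  refine Split.all2_take_drop 3 coverSub_rows0_0 ?_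
  refine Split.all2_take_drop 3 coverSub_rows0_1 ?_
  simp only [List.drop_drop, Nat.reduceAdd]
  refine Split.all2_take_drop 3 coverSub_rows0_2 ?_
  simp only [List.drop_drop, Nat.reduceAdd]
  exact coverSub_rows0_3

theorem coverSub_rows1_0 :
    Split.rowsB 10 804 coverSub.lev.tail
      ((coverSub.sg.tail.headD []).take 3)
      ((coverSub.close.tail.headD []).take 3) = true := by decide +kernel

theorem coverSub_rows1_1 :
    Split.rowsB 10 804 coverSub.lev.tail
      ((coverSub.sg.tail.headD []).drop 3)
      ((coverSub.close.tail.headD []).drop 3) = true := by decide +kernel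

theorem coverSub_rows1 : Split.rowsB 10 804 coverSub.lev.tail (coverSub.sg.tail.headD []) (coverSub.close.tail.headD []) = true := by
  refine Split.all2_take_drop 3 coverSub_rows1_0 ?_
  exact coverSub_rows1_1

theorem coverSub_tree : (Split.treeB 10 804 coverSub.lev coverSub.sg coverSub.par coverSub.close &&
    Split.treeB 10 804 coverSub.lev.tail coverSub.sg.tail coverSub.par.tail coverSub.close.tail) = true := by decide +kernel

theorem coverSub_low : closedB 10 804 coverSub.lev.tail.tail coverSub.sg.tail.tail
    coverSub.par.tail.tail coverSub.close.tail.tail = true := by decide +kernel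

theorem coverSub_pre : Split.preB coverSub 10 804 = true := by decide +kernel

theorem coverSub_base : Split.baseB coverSub 10 804 = true := by decide +kernel

theorem coverSub_ok : coverSub.ok 10 804 = true := by
  have h := coverSub_tree
  rw [Bool.and_eq_true] at h
  exact Split.ok_of_parts coverSub_pre (Split.closedB_of h.1 coverSub_rows0 (Split.closedB_of h.2 coverSub_rows1 coverSub_low)) coverSub_base

theorem coverLift_ok : (pathOk coverSub.lev (coverLift.getD 0 []) && restB 10 7 100 (pickPath coverSub.lev (coverLift.getD 0 [])) cert.a) = true ∧
    (pathOk coverSub.lev (coverLift.getD 1 []) && restB 10 7 100 (pickPath coverSub.lev (coverLift.getD 1 [])) cert.c) = true ∧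
    (pathOk coverSub.lev (coverLift.getD 2 []) && restB 10 7 100 (pickPath coverSub.lev (coverLift.getD 2 [])) cert.d) = true := by
  decide +kernel

theorem rest_ok : (invPairOk 7 100 restX restXi && invPairOk 7 100 restY restYi &&
    restB 10 7 100 [coverSub.g0] restX && restB 10 7 100 [coverSub.g1] restY &&
    pathOk cert.tr (restPaths.getD 0 []) && sameB 7 100 [restX] (pickPath cert.tr (restPaths.getD 0 [])) &&
    pathOk cert.tr (restPaths.getD 1 []) && sameB 7 100 [restY] (pickPath cert.tr (restPaths.getD 1 []))) = true := by
  decide +kernel

theorem z_ok : (invPairOk 10 804 coverZ coverZ &&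
    coverSub.centralB 10 804 100 coverZ (zPaths.getD 0 []) (zPaths.getD 1 []) (zPaths.getD 2 [])) = true := by
  decide +kernel

end Cfsg.Lib.PermAut.Hs
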