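import Cfsg.Agent.Lib.Schur.TriVec
import Cfsg.Agent.Lib.PermAut.HsFive
import Cfsg.Agent.Lib.PermAut.HsCoverData

/-!
# Checks of one subgroup of the double cover
-/

set_option autoImplicit false
set_option maxRecDepth 100000

namespace Cfsg.Lib.PermAut.Hs

open Cfsg.Lib.Concrete

instance fact_lt_five : Fact (1 < 5) := ⟨by norm_num⟩

theorem hsFiveSub_ok : hsFiveSub.ok 10 804 = true := by decide +kernel

theorem hsFiveLow_ok : hsFiveLow.ok 10 804 = true := by decide +kernel

theorem hsFiveCos_ok : hsFiveCos.ok 10 804 hsFiveSub hsFiveLow hsFiveCert = true := by decide +kernel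

theorem hsFiveSize_ok : hsFiveSub.size = hsFiveCert.N * hsFiveLow.size := by decide +kernel

theorem hsFiveTop_ok : (pathOk coverSub.lev (hsFiveTop.getD 0 []) && sameB 10 804 [hsFiveSub.g0] (pickPath coverSub.lev (hsFiveTop.getD 0 [])) &&
    pathOk coverSub.lev (hsFiveTop.getD 1 []) && sameB 10 804 [hsFiveSub.g1] (pickPath coverSub.lev (hsFiveTop.getD 1 []))) = true := by
  decide +kernel

theorem hsFiveCert_ok : hsFiveCert.check (digitVec 5 hsFiveCert.m) = true := by decide +kernel

end Cfsg.Lib.PermAut.Hs
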