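import Cfsg.Agent.Lib.Schur.TriVec
import Cfsg.Agent.Lib.PermAut.HsThree
import Cfsg.Agent.Lib.PermAut.HsCoverData

/-!
# Checks of one subgroup of the double cover
-/

set_option autoImplicit false
set_option maxRecDepth 100000

namespace Cfsg.Lib.PermAut.Hs

open Cfsg.Lib.Concrete

theorem hsThreeSub_ok : hsThreeSub.ok 10 804 = true := by decide +kernel

theorem hsThreeLow_ok : hsThreeLow.ok 10 804 = true := by decide +kernel

theorem hsThreeCos_ok : hsThreeCos.ok 10 804 hsThreeSub hsThreeLow hsThreeCert = true := by decide +kernel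

theorem hsThreeSize_ok : hsThreeSub.size = hsThreeCert.N * hsThreeLow.size := by decide +kernel

theorem hsThreeTop_ok : (pathOk coverSub.lev (hsThreeTop.getD 0 []) && sameB 10 804 [hsThreeSub.g0] (pickPath coverSub.lev (hsThreeTop.getD 0 [])) &&
    pathOk coverSub.lev (hsThreeTop.getD 1 []) && sameB 10 804 [hsThreeSub.g1] (pickPath coverSub.lev (hsThreeTop.getD 1 []))) = true := by
  decide +kernel

theorem hsThreeCert_ok : hsThreeCert.check (Cfsg.Lib.Schur.triVec hsThreeCert.m) = true := by decide +kernel

end Cfsg.Lib.PermAut.Hs
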