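import Cfsg.Agent.Lib.PermAut.SubFused
import Cfsg.Agent.Lib.PermAut.HsTwo

/-!
# Checks of the subgroup of odd index
-/

set_option autoImplicit false
set_option maxRecDepth 100000

namespace Cfsg.Lib.PermAut.Hs

open Cfsg.Lib.Concrete

theorem hsTwoLow_ok : hsTwoLow.ok 10 804 = true := by decide +kernel

theorem hsTwoSize_ok : hsTwoSub.size = hsTwoCert.N * hsTwoLow.size := by decide +kernel

theorem fuse_ok : (invPairOk 10 804 fuseTab fuseTabI && fusB 10 804 hsTwoSub hsTwoCert wordT wordE fuseTab 7) = true := by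
  decide +kernel

theorem hsTwoCert_ok : Cfsg.Lib.Schur.Zero.checkZero hsTwoCert (xorVec hsTwoCert.m) [7] = true := by decide +kernel

theorem hsTwoSub_ok : hsTwoSub.ok 10 804 = true := by decide +kernel

end Cfsg.Lib.PermAut.Hs
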