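import Cfsg.Agent.Lib.PermAut.HsTwo

/-!
# The coset table of the subgroup of odd index
-/

set_option autoImplicit false
set_option maxRecDepth 100000

namespace Cfsg.Lib.PermAut.Hs

open Cfsg.Lib.Concrete

theorem all_range_chunks {f : ℕ → Bool} {q k : ℕ} (h : ∀ j < q, ((List.range k).all fun x => f (k * j + x)) = true) :
    (List.range (q * k)).all f = true := by
  simp only [List.all_eq_true, List.mem_range] at h ⊢
  intro x hx
  have hk : 0 < k := Nat.pos_of_ne_zero fun e => by rw [e, Nat.mul_zero] at hx; exact Nat.not_lt_zero _ hx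
  have := h (x / k) ((Nat.div_lt_iff_lt_mul hk).2 hx) (x % k) (Nat.mod_lt _ hk)
  rwa [Nat.div_add_mod] at this

theorem wit0_0 : ((List.range 128).all fun x =>
    pathOk hsTwoLow.lev ((hsTwoCos.wit 0).getD (128 * 0 + x) []) &&
      sameB 10 804 [hsTwoSub.gen 0, hsTwoCos.reps.getD (128 * 0 + x) 0]
        (hsTwoCos.reps.getD (hsTwoCert.tab 0 (128 * 0 + x)) 0 :: pickPath hsTwoLow.lev ((hsTwoCos.wit 0).getD (128 * 0 + x) []))) = true := by
  decide +kernel

theorem wit0_1 : ((List.range 128).all fun x =>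
    pathOk hsTwoLow.lev ((hsTwoCos.wit 0).getD (128 * 1 + x) []) &&
      sameB 10 804 [hsTwoSub.gen 0, hsTwoCos.reps.getD (128 * 1 + x) 0]
        (hsTwoCos.reps.getD (hsTwoCert.tab 0 (128 * 1 + x)) 0 :: pickPath hsTwoLow.lev ((hsTwoCos.wit 0).getD (128 * 1 + x) []))) = true := by
  decide +kernel

theorem wit0_2 : ((List.range 128).all fun x =>
    pathOk hsTwoLow.lev ((hsTwoCos.wit 0).getD (128 * 2 + x) []) &&
      sameB 10 804 [hsTwoSub.gen 0, hsTwoCos.reps.getD (128 * 2 + x) 0]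
        (hsTwoCos.reps.getD (hsTwoCert.tab 0 (128 * 2 + x)) 0 :: pickPath hsTwoLow.lev ((hsTwoCos.wit 0).getD (128 * 2 + x) []))) = true := by
  decide +kernel

theorem wit0_3 : ((List.range 128).all fun x =>
    pathOk hsTwoLow.lev ((hsTwoCos.wit 0).getD (128 * 3 + x) []) &&
      sameB 10 804 [hsTwoSub.gen 0, hsTwoCos.reps.getD (128 * 3 + x) 0]
        (hsTwoCos.reps.getD (hsTwoCert.tab 0 (128 * 3 + x)) 0 :: pickPath hsTwoLow.lev ((hsTwoCos.wit 0).getD (128 * 3 + x) []))) = true := by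
  decide +kernel

theorem wit0_4 : ((List.range 128).all fun x =>
    pathOk hsTwoLow.lev ((hsTwoCos.wit 0).getD (128 * 4 + x) []) &&
      sameB 10 804 [hsTwoSub.gen 0, hsTwoCos.reps.getD (128 * 4 + x) 0]
        (hsTwoCos.reps.getD (hsTwoCert.tab 0 (128 * 4 + x)) 0 :: pickPath hsTwoLow.lev ((hsTwoCos.wit 0).getD (128 * 4 + x) []))) = true := by
  decide +kernel

theorem wit0_5 : ((List.range 128).all fun x =>
    pathOk hsTwoLow.lev ((hsTwoCos.wit 0).getD (128 * 5 + x) []) &&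
      sameB 10 804 [hsTwoSub.gen 0, hsTwoCos.reps.getD (128 * 5 + x) 0]
        (hsTwoCos.reps.getD (hsTwoCert.tab 0 (128 * 5 + x)) 0 :: pickPath hsTwoLow.lev ((hsTwoCos.wit 0).getD (128 * 5 + x) []))) = true := by
  decide +kernel

theorem wit0_6 : ((List.range 128).all fun x =>
    pathOk hsTwoLow.lev ((hsTwoCos.wit 0).getD (128 * 6 + x) []) &&
      sameB 10 804 [hsTwoSub.gen 0, hsTwoCos.reps.getD (128 * 6 + x) 0]
        (hsTwoCos.reps.getD (hsTwoCert.tab 0 (128 * 6 + x)) 0 :: pickPath hsTwoLow.lev ((hsTwoCos.wit 0).getD (128 * 6 + x) []))) = true := by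
  decide +kernel

theorem wit0_7 : ((List.range 128).all fun x =>
    pathOk hsTwoLow.lev ((hsTwoCos.wit 0).getD (128 * 7 + x) []) &&
      sameB 10 804 [hsTwoSub.gen 0, hsTwoCos.reps.getD (128 * 7 + x) 0]
        (hsTwoCos.reps.getD (hsTwoCert.tab 0 (128 * 7 + x)) 0 :: pickPath hsTwoLow.lev ((hsTwoCos.wit 0).getD (128 * 7 + x) []))) = true := by
  decide +kernel

theorem wit1_0 : ((List.range 128).all fun x =>
    pathOk hsTwoLow.lev ((hsTwoCos.wit 1).getD (128 * 0 + x) []) &&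
      sameB 10 804 [hsTwoSub.gen 1, hsTwoCos.reps.getD (128 * 0 + x) 0]
        (hsTwoCos.reps.getD (hsTwoCert.tab 1 (128 * 0 + x)) 0 :: pickPath hsTwoLow.lev ((hsTwoCos.wit 1).getD (128 * 0 + x) []))) = true := by
  decide +kernel

theorem wit1_1 : ((List.range 128).all fun x =>
    pathOk hsTwoLow.lev ((hsTwoCos.wit 1).getD (128 * 1 + x) []) &&
      sameB 10 804 [hsTwoSub.gen 1, hsTwoCos.reps.getD (128 * 1 + x) 0]
        (hsTwoCos.reps.getD (hsTwoCert.tab 1 (128 * 1 + x)) 0 :: pickPath hsTwoLow.lev ((hsTwoCos.wit 1).getD (128 * 1 + x) []))) = true := by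
  decide +kernel

theorem wit1_2 : ((List.range 128).all fun x =>
    pathOk hsTwoLow.lev ((hsTwoCos.wit 1).getD (128 * 2 + x) []) &&
      sameB 10 804 [hsTwoSub.gen 1, hsTwoCos.reps.getD (128 * 2 + x) 0]
        (hsTwoCos.reps.getD (hsTwoCert.tab 1 (128 * 2 + x)) 0 :: pickPath hsTwoLow.lev ((hsTwoCos.wit 1).getD (128 * 2 + x) []))) = true := by
  decide +kernel

theorem wit1_3 : ((List.range 128).all fun x =>
    pathOk hsTwoLow.lev ((hsTwoCos.wit 1).getD (128 * 3 + x) []) &&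
      sameB 10 804 [hsTwoSub.gen 1, hsTwoCos.reps.getD (128 * 3 + x) 0]
        (hsTwoCos.reps.getD (hsTwoCert.tab 1 (128 * 3 + x)) 0 :: pickPath hsTwoLow.lev ((hsTwoCos.wit 1).getD (128 * 3 + x) []))) = true := by
  decide +kernel

theorem wit1_4 : ((List.range 128).all fun x =>
    pathOk hsTwoLow.lev ((hsTwoCos.wit 1).getD (128 * 4 + x) []) &&
      sameB 10 804 [hsTwoSub.gen 1, hsTwoCos.reps.getD (128 * 4 + x) 0]
        (hsTwoCos.reps.getD (hsTwoCert.tab 1 (128 * 4 + x)) 0 :: pickPath hsTwoLow.lev ((hsTwoCos.wit 1).getD (128 * 4 + x) []))) = true := by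
  decide +kernel

theorem wit1_5 : ((List.range 128).all fun x =>
    pathOk hsTwoLow.lev ((hsTwoCos.wit 1).getD (128 * 5 + x) []) &&
      sameB 10 804 [hsTwoSub.gen 1, hsTwoCos.reps.getD (128 * 5 + x) 0]
        (hsTwoCos.reps.getD (hsTwoCert.tab 1 (128 * 5 + x)) 0 :: pickPath hsTwoLow.lev ((hsTwoCos.wit 1).getD (128 * 5 + x) []))) = true := by
  decide +kernel

theorem wit1_6 : ((List.range 128).all fun x =>
    pathOk hsTwoLow.lev ((hsTwoCos.wit 1).getD (128 * 6 + x) []) &&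
      sameB 10 804 [hsTwoSub.gen 1, hsTwoCos.reps.getD (128 * 6 + x) 0]
        (hsTwoCos.reps.getD (hsTwoCert.tab 1 (128 * 6 + x)) 0 :: pickPath hsTwoLow.lev ((hsTwoCos.wit 1).getD (128 * 6 + x) []))) = true := by
  decide +kernel

theorem wit1_7 : ((List.range 128).all fun x =>
    pathOk hsTwoLow.lev ((hsTwoCos.wit 1).getD (128 * 7 + x) []) &&
      sameB 10 804 [hsTwoSub.gen 1, hsTwoCos.reps.getD (128 * 7 + x) 0]
        (hsTwoCos.reps.getD (hsTwoCert.tab 1 (128 * 7 + x)) 0 :: pickPath hsTwoLow.lev ((hsTwoCos.wit 1).getD (128 * 7 + x) []))) = true := by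
  decide +kernel

theorem tree_ok : (sameB 10 804 [hsTwoCos.reps.getD 0 0] [] &&
    (List.range hsTwoCert.N).all fun x => Nat.beq x 0 ||
      sameB 10 804 [hsTwoCos.reps.getD x 0] [hsTwoSub.gen (hsTwoCert.pi' x), hsTwoCos.reps.getD (hsTwoCert.px x) 0]) = true := by
  decide +kernel

theorem paths_ok : (pathOk hsTwoSub.lev hsTwoCos.path0 && sameB 10 804 [hsTwoLow.g0] (pickPath hsTwoSub.lev hsTwoCos.path0) &&
    pathOk hsTwoSub.lev hsTwoCos.path1 && sameB 10 804 [hsTwoLow.g1] (pickPath hsTwoSub.lev hsTwoCos.path1) &&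
    hsTwoCert.rels.all fun W => sameB 10 804 (W.map hsTwoSub.gen) []) = true := by
  decide +kernel

theorem cert_N : hsTwoCert.N = 8 * 128 := rfl

theorem hsTwoCos_ok : hsTwoCos.ok 10 804 hsTwoSub hsTwoLow hsTwoCert = true := by
  have h0 := all_range_chunks (q := 8) (f := fun x => pathOk hsTwoLow.lev ((hsTwoCos.wit 0).getD x []) &&
      sameB 10 804 [hsTwoSub.gen 0, hsTwoCos.reps.getD x 0]
        (hsTwoCos.reps.getD (hsTwoCert.tab 0 x) 0 :: pickPath hsTwoLow.lev ((hsTwoCos.wit 0).getD x []))) (fun j hj => by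
    interval_cases j
    · exact wit0_0
    · exact wit0_1
    · exact wit0_2
    · exact wit0_3
    · exact wit0_4
    · exact wit0_5
    · exact wit0_6
    · exact wit0_7)
  have h1 := all_range_chunks (q := 8) (f := fun x => pathOk hsTwoLow.lev ((hsTwoCos.wit 1).getD x []) &&
      sameB 10 804 [hsTwoSub.gen 1, hsTwoCos.reps.getD x 0]
        (hsTwoCos.reps.getD (hsTwoCert.tab 1 x) 0 :: pickPath hsTwoLow.lev ((hsTwoCos.wit 1).getD x []))) (fun j hj => by
    interval_cases j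
    · exact wit1_0
    · exact wit1_1
    · exact wit1_2
    · exact wit1_3
    · exact wit1_4
    · exact wit1_5
    · exact wit1_6
    · exact wit1_7)
  have ht := tree_ok
  have hp := paths_ok
  simp only [Bool.and_eq_true] at ht hp
  unfold Cos.ok
  simp only [Bool.and_eq_true]
  refine ⟨⟨⟨⟨⟨⟨⟨ht.1, ht.2⟩, ?_⟩, hp.1.1.1.1⟩, hp.1.1.1.2⟩, hp.1.1.2⟩, hp.1.2⟩, hp.2⟩
  rw [List.all_eq_true]
  intro i hi
  rw [List.mem_range] at hi
  rw [cert_N]
  interval_cases i
  · exact h0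
  · exact h1

end Cfsg.Lib.PermAut.Hs
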