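import Cfsg.Agent.Lib.PermAut.HsTwo
import Cfsg.Agent.Lib.PermAut.HsCoverData

/-!
# The place of the subgroup of odd index in the double cover
-/

set_option autoImplicit false
set_option maxRecDepth 100000

namespace Cfsg.Lib.PermAut.Hs

theorem hsTwoTop_ok : (pathOk coverSub.lev (hsTwoTop.getD 0 []) && sameB 10 804 [hsTwoSub.g0] (pickPath coverSub.lev (hsTwoTop.getD 0 [])) &&
    pathOk coverSub.lev (hsTwoTop.getD 1 []) && sameB 10 804 [hsTwoSub.g1] (pickPath coverSub.lev (hsTwoTop.getD 1 []))) = true := by
  decide +kernel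

theorem fusePath_ok : (pathOk coverSub.lev fusePath && sameB 10 804 [fuseTab] (pickPath coverSub.lev fusePath)) = true := by
  decide +kernel

end Cfsg.Lib.PermAut.Hs
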