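import Cfsg.Agent.Lib.PermAut.Hs
import Cfsg.Agent.Lib.PermAut.CoverOf
import Cfsg.Agent.Lib.PermAut.HsCoverCheck
import Cfsg.Agent.Lib.PermAut.HsTwoCheck
import Cfsg.Agent.Lib.PermAut.HsTwoCosCheck
import Cfsg.Agent.Lib.PermAut.HsTwoTopCheck
import Cfsg.Agent.Lib.PermAut.HsThreeCheck
import Cfsg.Agent.Lib.PermAut.HsFiveCheck
import Cfsg.Agent.Lib.Concrete.SporHS
import Cfsg.Agent.Lib.Schur.CoverBound

/-!
# The Schur multiplier of the Higman–Sims group has order two
-/

set_option autoImplicit false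

namespace Cfsg.Lib.PermAut.Hs

open Cfsg MulAction Cfsg.Lib.Concrete
open scoped commutatorElement

instance : NeZero 804 := ⟨by norm_num⟩

/-- The double cover. -/
abbrev Cover : Type := ↥(coverSub.grp 10 804)

theorem cover_card : Nat.card Cover = 88704000 := by
  rw [(Sub.valid (b := 10) (N := 804) coverSub_ok).card]
  decide +kernel

theorem exists_cover : ∃ σ : Cover →* ↥cert.K, IsStemExtension σ ∧ Nat.card σ.ker = 2 := by
  have VC := Sub.valid (b := 10) (N := 804) coverSub_ok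
  have h := rest_ok
  simp only [Bool.and_eq_true] at h
  obtain ⟨⟨⟨⟨⟨⟨⟨hx, hy⟩, rx⟩, ry⟩, px⟩, sx⟩, py⟩, sy⟩ := h
  have hz := z_ok
  obtain ⟨ha, hc, hd⟩ := coverLift_ok
  simp only [Bool.and_eq_true] at ha hc hd hz
  exact exists_stem_two VC (Cert.gen_of_check gen_check) (by decide +kernel)
    (rep_of_invPairOk (N := cert.N) hx).1 (rep_of_invPairOk (N := cert.N) hy).1 rx ry px sx py sy ha hc hd
    (rep_of_invPairOk (N := 804) hz.1).1 hz.2 (by decide +kernel) hs_model.2

theorem perfect_hs : commutator ↥Spor.HS = ⊤ := by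
  obtain ⟨e⟩ := sporHS_equiv
  haveI : IsSimpleGroup ↥Spor.HS := e.isSimpleGroup_congr.2 isHS_five.1
  refine ((inferInstance : (commutator ↥Spor.HS).Normal).eq_bot_or_eq_top).resolve_left fun h => ?_
  let _ : CommGroup ↥Spor.HS := { (inferInstance : Group ↥Spor.HS) with
    mul_comm := fun a b => by
      have : ⁅a, b⁆ ∈ commutator ↥Spor.HS :=
        Subgroup.commutator_mem_commutator (Subgroup.mem_top a) (Subgroup.mem_top b)
      rw [h, Subgroup.mem_bot] at this
      exact commutatorElement_eq_one_iff_mul_comm.1 this }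
  have hp := IsSimpleGroup.prime_card (α := ↥Spor.HS)
  rw [card_hs_spor] at hp
  norm_num at hp

theorem multiplier_hs : Cfsg.HasCyclicSchurMultiplier ↥Spor.HS 2 := by
  obtain ⟨⟨e⟩, -⟩ := hs_model
  obtain ⟨σ, hσ, hcard⟩ := exists_cover
  haveI : Fact (Nat.Prime 2) := ⟨Nat.prime_two⟩
  let σ₀ : Cover →* ↥Spor.HS := e.symm.toMonoidHom.comp σ
  have hk : σ₀.ker = σ.ker := by ext x; simp [σ₀, MonoidHom.mem_ker]
  refine Cfsg.Lib.Schur.hasSchurMultiplier_of_cover perfect_hs (σ₀ := σ₀)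
    ⟨e.symm.surjective.comp hσ.1, hk ▸ hσ.2.1, hk ▸ hσ.2.2⟩ (fun p hp => ?_)
    (mulEquivOfPrimeCardEq (p := 2) (hk.symm ▸ hcard) (by simp))
  have VC := Sub.valid (b := 10) (N := 804) coverSub_ok
  by_cases h2 : p = 2
  · subst h2
    have VH := Sub.valid (b := 10) (N := 804) hsTwoSub_ok
    have VL := Sub.valid (b := 10) (N := 804) hsTwoLow_ok
    have ht := hsTwoTop_ok
    have hf := fuse_ok
    have hp' := fusePath_ok
    simp only [Bool.and_eq_true] at ht hf hp'
    obtain ⟨gR, -, -⟩ := rep_of_invPairOk (N := 804) hf.1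
    exact noStem_two_of_sub_fused (VH.le_of_paths VC ht.1.1.1 ht.1.1.2 ht.1.2 ht.2) (d := 4125)
      (by rw [cover_card]; decide +kernel) (by decide) VH VL hsTwoCos_ok _ hsTwoCert_ok hsTwoSize_ok
      (liftsAt_small Nat.prime_two VL (Cos.le VH VL hsTwoCos_ok) (by decide +kernel)) gR
      (VC.mem_of_same gR hp'.1 hp'.2) hf.2
  by_cases h3 : p = 3
  · subst h3
    haveI : Fact (Nat.Prime 3) := ⟨Nat.prime_three⟩
    have VH := Sub.valid (b := 10) (N := 804) hsThreeSub_ok
    have VL := Sub.valid (b := 10) (N := 804) hsThreeLow_ok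
    have ht := hsThreeTop_ok
    simp only [Bool.and_eq_true] at ht
    exact noStem_of_le VH Nat.prime_three (VH.le_of_paths VC ht.1.1.1 ht.1.1.2 ht.1.2 ht.2) (d := 308000)
      (by rw [cover_card]; decide +kernel) (by decide)
      (Cos.noStem VH VL hsThreeCos_ok _ hsThreeCert_ok hsThreeSize_ok
        (liftsAt_small Nat.prime_three VL (Cos.le VH VL hsThreeCos_ok) (by decide +kernel)))
  by_cases h5 : p = 5
  · subst h5
    haveI : Fact (Nat.Prime 5) := ⟨by norm_num⟩
    have VH := Sub.valid (b := 10) (N := 804) hsFiveSub_ok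
    have VL := Sub.valid (b := 10) (N := 804) hsFiveLow_ok
    have ht := hsFiveTop_ok
    simp only [Bool.and_eq_true] at ht
    exact noStem_of_le VH hp (VH.le_of_paths VC ht.1.1.1 ht.1.1.2 ht.1.2 ht.2) (d := 22176)
      (by rw [cover_card]; decide +kernel) (by decide)
      (Cos.noStem VH VL hsFiveCos_ok _ hsFiveCert_ok hsFiveSize_ok
        (liftsAt_small hp VL (Cos.le VH VL hsFiveCos_ok) (by decide +kernel)))
  refine noStem_of_not_sq_dvd hp ?_
  rw [cover_card, show (88704000 : ℕ) = 2 ^ 10 * 3 ^ 2 * 5 ^ 3 * (7 * 11) by norm_num]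
  intro h
  have hc : ∀ q k : ℕ, q.Prime → p ≠ q → Nat.Coprime (p ^ 2) (q ^ k) := fun q k hq hne =>
    Nat.Coprime.pow _ _ ((Nat.coprime_primes hp hq).2 hne)
  have h' := ((hc 2 10 Nat.prime_two h2).mul_right (hc 3 2 Nat.prime_three h3)).mul_right (hc 5 3 (by norm_num) h5)
  have hd := h'.dvd_of_dvd_mul_left h
  have hle : p ^ 2 ≤ 7 * 11 := Nat.le_of_dvd (by norm_num) hd
  have hp9 : p < 9 := by nlinarith
  interval_cases p <;> first | omega | exact absurd hp (by norm_num) | exact absurd hd (by norm_num)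

end Cfsg.Lib.PermAut.Hs
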