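import Cfsg.Agent.Lib.PermAut.HsCheck
import Cfsg.Agent.Lib.PermAut.LatticeMoves

/-!
# The outer automorphism group of the Higman–Sims group
-/

set_option autoImplicit false

namespace Cfsg.Lib.PermAut.Hs

open Cfsg MulAction Cfsg.Lib.Concrete

instance : NeZero cert.N := ⟨by decide⟩

theorem fix_keys : keyL 0x377777777777777777777777 = Spor.leechV ∧ keyL 0xc88888888888888888888884 = Spor.leechU' := by
  obtain ⟨-, h⟩ := keysOk_spec fix_key_check
  have hV : ∀ p : GolayPt, codeVec 0x377777777777777777777777 p = Spor.vecV p := by decide +kernel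
  have hU : ∀ p : GolayPt, codeVec 0xc88888888888888888888884 p = Spor.vecU' p := by decide +kernel
  exact ⟨Subtype.ext ((keyL_val (h _ (by simp)).2).trans (funext hV)),
    Subtype.ext ((keyL_val (h _ (by simp)).2).trans (funext hU))⟩

theorem card_hs_spor : Nat.card ↥Spor.HS = 44352000 := by
  have e : Spor.HS = (stabilizer Co0 Spor.leechV ⊓ stabilizer Co0 Spor.leechU').map Co0.subtype :=
    (map_stab_pair _ _).symm
  rw [e, card_sub_co0]
  have hz : Spor.leechU' = -(Spor.leechV + -(Spor.leechV + Spor.leechU')) := by abel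
  rw [inf_comm, hz, ← stab_pair_eq]
  refine card_hs _ _ (show sqNorm Spor.vecV = 48 by decide +kernel)
    (show sqNorm (-(Spor.vecV + Spor.vecU')) = 48 by decide +kernel)
    (show dotInt Spor.vecV (-(Spor.vecV + Spor.vecU')) = -32 by decide +kernel)

/-- The group as a certified group on 100 points. -/
theorem hs_model : Nonempty (↥Spor.HS ≃* cert.K) ∧ Nat.card cert.K = cert.size := by
  have hsz : cert.size = 44352000 := by decide +kernel
  have hfix : ∀ {m : List (List ℤ)} (h : matOk m = true),
      matOkB m [0x377777777777777777777777, 0xc88888888888888888888884] = true →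
      ((matCo0 m h : Co0) : Equiv.Perm leechLattice) ∈ Spor.HS := by
    intro m h hm
    refine ⟨⟨(matCo0 m h).2, ?_⟩, ?_⟩
    · show matCo0 m h • Spor.leechV = Spor.leechV
      rw [← fix_keys.1]; exact fix_of_check fix_key_check hm h (by simp)
    · show matCo0 m h • Spor.leechU' = Spor.leechU'
      rw [← fix_keys.2]; exact fix_of_check fix_key_check hm h (by simp)
  obtain ⟨hA, hC, hD⟩ := mat_check
  obtain ⟨hk, hlen⟩ := key_check
  haveI : Finite ↥Spor.HS := Nat.finite_of_card_ne_zero (by rw [card_hs_spor]; norm_num)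
  have G := Cert.gen_of_check gen_check
  let el : ∀ {m : List (List ℤ)}, matOkB m [0x377777777777777777777777, 0xc88888888888888888888884] = true →
      ↥Spor.HS := fun {m} hm => ⟨(matCo0 m (matOk_of hm) : Co0), hfix (matOk_of hm) hm⟩
  exact exists_equiv cert gen_check (card_hs_spor.trans hsz.symm)
    (fun x : Fin cert.N => keyL (ptKeys.getD x 0))
    (fun i j h => Fin.ext (keyL_inj hk (hlen.symm ▸ i.isLt) (hlen.symm ▸ j.isLt) h))
    (el hA) (el hC) (el hD)
    (fun x => moves_plain hk hlen hA move_check.1 G.a x)
    (fun x => moves_plain hk hlen hC move_check.2.1 G.c x)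
    (fun x => moves_plain hk hlen hD move_check.2.2 G.d x)

theorem card_out_hs : Nat.card (Cfsg.Out ↥Spor.HS) = 2 := by
  have hsz : cert.size = 44352000 := by decide +kernel
  obtain ⟨⟨e⟩, hK⟩ := hs_model
  rw [out_congr e]
  exact Cert.out_two outer gen_check hK (by decide +kernel) (by rw [hsz]; decide +kernel) norm_check second_check
    third_check outer_check

end Cfsg.Lib.PermAut.Hs
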