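import Mathlib

/-!
# Certified transversals for permutation groups given by packed tables
-/

set_option autoImplicit false

namespace Cfsg.Lib.PermAut

noncomputable section

open Equiv

/-- An entry of a packed table. -/
def ent (b T x : ℕ) : ℕ := Nat.land (Nat.shiftRight T (Nat.mul b x)) (Nat.sub (Nat.pow 2 b) 1)

/-- Evaluation of a product of packed tables. -/
noncomputable def ev (b : ℕ) (l : List ℕ) (x : ℕ) : ℕ := List.rec x (fun T _ ih => ent b T ih) l

/-- A test at all numbers below a bound. -/
noncomputable def allBelowB (n : ℕ) (f : ℕ → Bool) : Bool :=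
  Nat.rec true (fun x ih => Bool.rec false ih (f x)) n

theorem allBelowB_iff {n : ℕ} {f : ℕ → Bool} : allBelowB n f = true ↔ ∀ x < n, f x = true := by
  induction n with
  | zero => simp [allBelowB]
  | succ n ih =>
    show Bool.rec false (allBelowB n f) (f n) = true ↔ _
    cases hf : f n
    · simp only [Bool.false_eq_true, false_iff]
      intro h
      rw [h n (Nat.lt_succ_self n)] at hf
      exact Bool.noConfusion hf
    · show allBelowB n f = true ↔ _
      rw [ih]
      refine ⟨fun h x hx => ?_, fun h x hx => h x (Nat.lt_succ_of_lt hx)⟩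
      rcases Nat.lt_succ_iff_lt_or_eq.1 hx with hx | rfl
      · exact h x hx
      · exact hf

/-- Passing the evaluated number. -/
noncomputable def force (n : ℕ) (f : ℕ → Bool) : Bool := Nat.rec (f 0) (fun m _ => f (Nat.add m 1)) n

theorem force_eq (n : ℕ) (f : ℕ → Bool) : force n f = f n := by cases n <;> rfl

/-- Passing a list with evaluated entries. -/
noncomputable def forceL : List ℕ → (List ℕ → Bool) → Bool :=
  List.rec (fun f => f []) fun T _ ih => fun f => force T fun T' => ih fun l => f (T' :: l)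

theorem forceL_eq : ∀ (l : List ℕ) (f : List ℕ → Bool), forceL l f = f l
  | [], _ => rfl
  | T :: l, f => by
    show force T (fun T' => forceL l fun l' => f (T' :: l')) = _
    rw [force_eq, forceL_eq l]

/-- Two products of packed tables agree. -/
noncomputable def sameB (b N : ℕ) (l l' : List ℕ) : Bool :=
  forceL l fun a => forceL l' fun c => allBelowB N fun x => Nat.beq (ev b a x) (ev b c x)

theorem sameB_iff {b N : ℕ} {l l' : List ℕ} :
    sameB b N l l' = true ↔ ∀ x < N, Nat.beq (ev b l x) (ev b l' x) = true := by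
  rw [sameB, forceL_eq, forceL_eq]
  exact allBelowB_iff

theorem ev_cons (b T : ℕ) (l : List ℕ) (x : ℕ) : ev b (T :: l) x = ent b T (ev b l x) := rfl

theorem ev_append (b : ℕ) : ∀ (l l' : List ℕ) (x : ℕ), ev b (l ++ l') x = ev b l (ev b l' x)
  | [], _, _ => rfl
  | T :: l, l', x => by rw [List.cons_append, ev_cons, ev_cons, ev_append b l l' x]

variable {b N : ℕ} [NeZero N]

/-- A table represents a permutation. -/
def Rep (b : ℕ) (g : Perm (Fin N)) (T : ℕ) : Prop := ∀ x : Fin N, (g x : ℕ) = ent b T x

open scoped Classical in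
/-- The permutation of a table, the identity for a table without one. -/
noncomputable def toP (b N : ℕ) [NeZero N] (T : ℕ) : Perm (Fin N) :=
  if h : ∃ g : Perm (Fin N), Rep b g T then h.choose else 1

theorem Rep.toP_eq {g : Perm (Fin N)} {T : ℕ} (h : Rep b g T) : toP b N T = g := by
  have he : ∃ g : Perm (Fin N), Rep b g T := ⟨g, h⟩
  rw [toP, dif_pos he]
  exact Equiv.ext fun x => Fin.ext ((he.choose_spec x).trans (h x).symm)

theorem ev_rep {l : List ℕ} (h : ∀ T ∈ l, Rep b (toP b N T) T) (x : Fin N) :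
    ((l.map (toP b N)).prod x : ℕ) = ev b l x := by
  induction l with
  | nil => rfl
  | cons T l ih =>
    rw [List.map_cons, List.prod_cons, Perm.mul_apply]
    exact (h T (List.mem_cons_self ..) _).trans (congrArg (ent b T) (ih fun S hS => h S (List.mem_cons_of_mem _ hS)))

theorem eq_of_sameB {l l' : List ℕ} (h : ∀ T ∈ l, Rep b (toP b N T) T) (h' : ∀ T ∈ l', Rep b (toP b N T) T)
    (hs : sameB b N l l' = true) : (l.map (toP b N)).prod = (l'.map (toP b N)).prod := by
  refine Equiv.ext fun x => Fin.ext ?_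
  rw [ev_rep h, ev_rep h']
  simp only [sameB_iff] at hs
  exact Nat.eq_of_beq_eq_true (hs x x.isLt)

/-- A table and its inverse. -/
def invPairOk (b N T S : ℕ) : Bool :=
  (List.range N).all fun x => Nat.blt (ent b T x) N && Nat.blt (ent b S x) N && Nat.beq (ent b T (ent b S x)) x &&
    Nat.beq (ent b S (ent b T x)) x

theorem rep_of_invPairOk {T S : ℕ} (h : invPairOk b N T S = true) :
    Rep b (toP b N T) T ∧ Rep b (toP b N S) S ∧ toP b N S = (toP b N T)⁻¹ := by
  simp only [invPairOk, List.all_eq_true, List.mem_range, Bool.and_eq_true, Nat.blt, Nat.ble_eq, Nat.beq_eq] at h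
  let g : Perm (Fin N) :=
    { toFun := fun x => ⟨ent b T x, (h x x.isLt).1.1.1⟩
      invFun := fun x => ⟨ent b S x, (h x x.isLt).1.1.2⟩
      left_inv := fun x => Fin.ext (h x x.isLt).2
      right_inv := fun x => Fin.ext (h x x.isLt).1.2 }
  have hT : Rep b g T := fun _ => rfl
  have hS : Rep b g⁻¹ S := fun _ => rfl
  exact ⟨by rw [hT.toP_eq]; exact hT, by rw [hS.toP_eq]; exact hS, by rw [hT.toP_eq, hS.toP_eq]⟩

/-- Each new table is a product of two earlier ones. -/
def stepsOk (b N : ℕ) (E : List ℕ) (k : ℕ) (steps : List (ℕ × ℕ)) : Bool :=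
  Nat.beq (k + steps.length) E.length && (List.range steps.length).all fun r =>
    let s := steps.getD r (0, 0)
    Nat.blt s.1 (k + r) && Nat.blt s.2 (k + r) &&
      sameB b N [E.getD (k + r) 0] [E.getD s.1 0, E.getD s.2 0]

theorem mem_of_stepsOk {E : List ℕ} {k : ℕ} {steps : List (ℕ × ℕ)} {K : Subgroup (Perm (Fin N))}
    (h0 : ∀ i < k, Rep b (toP b N (E.getD i 0)) (E.getD i 0) ∧ toP b N (E.getD i 0) ∈ K)
    (h : stepsOk b N E k steps = true) : ∀ i < E.length,
    Rep b (toP b N (E.getD i 0)) (E.getD i 0) ∧ toP b N (E.getD i 0) ∈ K := by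
  simp only [stepsOk, Bool.and_eq_true, Nat.beq_eq, List.all_eq_true, List.mem_range, Nat.blt, Nat.ble_eq] at h
  obtain ⟨hlen, hs⟩ := h
  intro i
  induction i using Nat.strong_induction_on with
  | _ i ih =>
    intro hi
    by_cases hik : i < k
    · exact h0 i hik
    obtain ⟨r, rfl⟩ : ∃ r, i = k + r := ⟨i - k, by omega⟩
    obtain ⟨⟨h1, h2⟩, h3⟩ := hs r (by omega)
    obtain ⟨ra, ha⟩ := ih _ h1 (by omega)
    obtain ⟨rb, hb⟩ := ih _ h2 (by omega)
    set A := E.getD (steps.getD r (0, 0)).1 0
    set B := E.getD (steps.getD r (0, 0)).2 0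
    have hrep : Rep b (toP b N A * toP b N B) (E.getD (k + r) 0) := by
      intro x
      have e := ev_rep (b := b) (l := [A, B]) (by simp [ra, rb]) x
      rw [List.map_cons, List.map_cons, List.map_nil, List.prod_cons, List.prod_cons, List.prod_nil, mul_one] at e
      rw [e]
      simp only [sameB_iff] at h3
      exact (Nat.eq_of_beq_eq_true (h3 x x.isLt)).symm
    rw [hrep.toP_eq]
    exact ⟨hrep, K.mul_mem ha hb⟩

/-- The products along a list of levels. -/
noncomputable def prodSet (b N : ℕ) [NeZero N] : List (List ℕ) → Finset (Perm (Fin N))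
  | [] => {1}
  | l :: ls => Finset.image₂ (fun g h => g * h) (l.map (toP b N)).toFinset (prodSet b N ls)

/-- The levels fix the earlier points and separate their own. -/
def levelsOk (b : ℕ) : List (List ℕ) → List ℕ → Bool
  | [], _ => true
  | _ :: _, [] => false
  | l :: ls, x :: xs =>
    (l.all fun T => l.all fun S => Nat.beq T S || !(Nat.beq (ent b T x) (ent b S x))) &&
      ls.all (fun m => m.all fun T => Nat.beq (ent b T x) x) && levelsOk b ls xs

theorem card_prodSet : ∀ (tr : List (List ℕ)) (base : List ℕ), (∀ x ∈ base, x < N) →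
    (∀ l ∈ tr, ∀ T ∈ l, Rep b (toP b N T) T) → (∀ l ∈ tr, l.Nodup) → levelsOk b tr base = true →
    (prodSet b N tr).card = (tr.map List.length).prod := by
  intro tr
  induction tr with
  | nil => intros; simp [prodSet]
  | cons l ls ih =>
    intro base hb hrep hnd hok
    obtain _ | ⟨x, xs⟩ := base
    · simp [levelsOk] at hok
    simp only [levelsOk, Bool.and_eq_true, List.all_eq_true, Bool.or_eq_true, Nat.beq_eq, Bool.not_eq_true'] at hok
    obtain ⟨⟨hsep, hfix⟩, hrest⟩ := hok
    have hx : x < N := hb x (List.mem_cons_self ..)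
    have hl := hrep l (List.mem_cons_self ..)
    have hfix' : ∀ h ∈ prodSet b N ls, h (⟨x, hx⟩ : Fin N) = ⟨x, hx⟩ := by
      clear ih hrest hsep
      have hrep' : ∀ m ∈ ls, ∀ T ∈ m, Rep b (toP b N T) T := fun m hm => hrep m (List.mem_cons_of_mem _ hm)
      clear hrep hnd hl hb
      induction ls with
      | nil => simp [prodSet]
      | cons m ms ihm =>
        intro h hh
        simp only [prodSet, Finset.mem_image₂, List.mem_toFinset, List.mem_map] at hh
        obtain ⟨g, ⟨T, hT, rfl⟩, u, hu, rfl⟩ := hh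
        rw [Perm.mul_apply, ihm (fun m' hm' => hfix m' (List.mem_cons_of_mem _ hm'))
          (fun m' hm' => hrep' m' (List.mem_cons_of_mem _ hm')) u hu]
        exact Fin.ext ((hrep' m (List.mem_cons_self ..) T hT _).trans (hfix m (List.mem_cons_self ..) T hT))
    have hinj : ∀ T ∈ l, ∀ S ∈ l, toP b N T ⟨x, hx⟩ = toP b N S ⟨x, hx⟩ → T = S := by
      intro T hT S hS e
      refine (hsep T hT S hS).resolve_right fun hne => ?_
      have he : ent b T x = ent b S x := by
        rw [← hl T hT ⟨x, hx⟩, ← hl S hS ⟨x, hx⟩, e]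
      rw [he] at hne
      simp at hne
    have hi := ih xs (fun y hy => hb y (List.mem_cons_of_mem _ hy)) (fun m hm => hrep m (List.mem_cons_of_mem _ hm))
      (fun m hm => hnd m (List.mem_cons_of_mem _ hm)) hrest
    have hcl : ((l.map (toP b N)).toFinset).card = l.length := by
      rw [List.toFinset_card_of_nodup, List.length_map]
      exact (hnd l (List.mem_cons_self ..)).map_on fun T hT S hS e => hinj T hT S hS (by rw [e])
    rw [prodSet, List.map_cons, List.prod_cons, ← hi, ← hcl]
    refine Finset.card_image₂_iff.2 ?_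
    rintro ⟨g, h⟩ hgh ⟨g', h'⟩ hgh' e
    simp only [Set.mem_prod, Finset.mem_coe, List.mem_toFinset, List.mem_map] at hgh hgh'
    obtain ⟨⟨T, hT, rfl⟩, hh⟩ := hgh
    obtain ⟨⟨S, hS, rfl⟩, hh'⟩ := hgh'
    have e1 := congrArg (fun f : Perm (Fin N) => f ⟨x, hx⟩) e
    simp only [Perm.mul_apply, hfix' h hh, hfix' h' hh'] at e1
    obtain rfl := hinj T hT S hS e1
    exact Prod.ext rfl (mul_left_cancel e)

theorem prodSet_subset {K : Subgroup (Perm (Fin N))} : ∀ (tr : List (List ℕ)),
    (∀ l ∈ tr, ∀ T ∈ l, toP b N T ∈ K) → ∀ g ∈ prodSet b N tr, g ∈ K := by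
  intro tr
  induction tr with
  | nil => intro _ g hg; simp [prodSet] at hg; rw [hg]; exact K.one_mem
  | cons l ls ih =>
    intro h g hg
    simp only [prodSet, Finset.mem_image₂, List.mem_toFinset, List.mem_map] at hg
    obtain ⟨u, ⟨T, hT, rfl⟩, w, hw, rfl⟩ := hg
    exact K.mul_mem (h l (List.mem_cons_self ..) T hT) (ih (fun m hm => h m (List.mem_cons_of_mem _ hm)) w hw)

theorem exists_path : ∀ (tr : List (List ℕ)) (g : Perm (Fin N)), g ∈ prodSet b N tr →
    ∃ path : List ℕ, List.Forall₂ (fun T l => T ∈ l) path tr ∧ (path.map (toP b N)).prod = g := by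
  intro tr
  induction tr with
  | nil => intro g hg; exact ⟨[], List.Forall₂.nil, by simp [prodSet] at hg; simp [hg]⟩
  | cons l ls ih =>
    intro g hg
    simp only [prodSet, Finset.mem_image₂, List.mem_toFinset, List.mem_map] at hg
    obtain ⟨u, ⟨T, hT, rfl⟩, w, hw, rfl⟩ := hg
    obtain ⟨path, hp, hpw⟩ := ih w hw
    exact ⟨T :: path, List.Forall₂.cons hT hp, by rw [List.map_cons, List.prod_cons, hpw]⟩

end

end Cfsg.Lib.PermAut
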