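import Cfsg.Agent.Lib.PermAut.Cert

/-!
# Subgroups with a certified chain of transversals
-/

set_option autoImplicit false
set_option linter.unusedSectionVars false

namespace Cfsg.Lib.PermAut

noncomputable section

open Equiv

/-- A test on two lists of the same length. -/
def all2 {α β : Type} (f : α → β → Bool) : List α → List β → Bool
  | [], [] => true
  | a :: l, b :: l' => f a b && all2 f l l'
  | _, _ => false

theorem all2_forall {α β : Type} {f : α → β → Bool} : ∀ {l : List α} {l' : List β}, all2 f l l' = true →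
    ∀ a ∈ l, ∃ b, f a b = true
  | [], _, _, _, ha => by simp at ha
  | a :: l, [], h, _, _ => by simp [all2] at h
  | a :: l, b :: l', h, x, hx => by
    simp only [all2, Bool.and_eq_true] at h
    rcases List.mem_cons.1 hx with rfl | hx
    · exact ⟨b, h.1⟩
    · exact all2_forall h.2 x hx

/-- One index for each level. -/
def pickPath : List (List ℕ) → List ℕ → List ℕ
  | l :: ls, i :: is => l.getD i 0 :: pickPath ls is
  | _, _ => []

/-- The indices lie in the levels. -/
def pathOk : List (List ℕ) → List ℕ → Bool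
  | [], [] => true
  | l :: ls, i :: is => Nat.blt i l.length && pathOk ls is
  | _, _ => false

theorem forall₂_pick : ∀ {ls : List (List ℕ)} {is : List ℕ}, pathOk ls is = true →
    List.Forall₂ (fun T l => T ∈ l) (pickPath ls is) ls
  | [], [], _ => List.Forall₂.nil
  | [], _ :: _, h => by simp [pathOk] at h
  | _ :: _, [], h => by simp [pathOk] at h
  | l :: ls, i :: is, h => by
    simp only [pathOk, Bool.and_eq_true, Nat.blt, Nat.ble_eq] at h
    refine List.Forall₂.cons ?_ (forall₂_pick h.2)
    rw [List.getD_eq_getElem _ _ h.1]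
    exact List.getElem_mem _

variable {b N : ℕ} [NeZero N]

theorem Rep.mul_of_same {S T U : ℕ} (hS : Rep b (toP b N S) S) (hT : Rep b (toP b N T) T)
    (h : sameB b N [U] [S, T] = true) : Rep b (toP b N U) U ∧ toP b N U = toP b N S * toP b N T := by
  have hrep : Rep b (toP b N S * toP b N T) U := by
    intro x
    have e := ev_rep (b := b) (l := [S, T]) (by simp [hS, hT]) x
    rw [List.map_cons, List.map_cons, List.map_nil, List.prod_cons, List.prod_cons, List.prod_nil, mul_one] at e
    rw [e]
    simp only [sameB_iff] at h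
    exact (Nat.eq_of_beq_eq_true (h x x.isLt)).symm
  exact ⟨by rw [hrep.toP_eq]; exact hrep, hrep.toP_eq⟩

theorem Rep.one_of_same {U : ℕ} (h : sameB b N [U] [] = true) : Rep b (toP b N U) U ∧ toP b N U = 1 := by
  have hrep : Rep b (1 : Perm (Fin N)) U := by
    intro x
    simp only [sameB_iff] at h
    exact (Nat.eq_of_beq_eq_true (h x x.isLt)).symm
  exact ⟨by rw [hrep.toP_eq]; exact hrep, hrep.toP_eq⟩

theorem mem_prodSet_of_forall₂ : ∀ {path : List ℕ} {tr : List (List ℕ)},
    List.Forall₂ (fun T l => T ∈ l) path tr → (path.map (toP b N)).prod ∈ prodSet b N tr := by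
  intro path tr h
  induction h with
  | nil => simp [prodSet]
  | cons hT _ ih =>
    rw [List.map_cons, List.prod_cons, prodSet]
    exact Finset.mem_image₂_of_mem (List.mem_toFinset.2 (List.mem_map.2 ⟨_, hT, rfl⟩)) ih

theorem mem_of_forall₂ : ∀ {path : List ℕ} {tr : List (List ℕ)}, List.Forall₂ (fun T l => T ∈ l) path tr →
    ∀ T ∈ path, ∃ l ∈ tr, T ∈ l := by
  intro path tr h
  induction h with
  | nil => intro T hT; simp at hT
  | cons h _ ih =>
    intro T hT
    rcases List.mem_cons.1 hT with rfl | hT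
    · exact ⟨_, List.mem_cons_self .., h⟩
    · obtain ⟨l, hl, h'⟩ := ih T hT
      exact ⟨l, List.mem_cons_of_mem _ hl, h'⟩

/-- Each level is an orbit of the strong generators and the products are closed. -/
def closedB (b N : ℕ) : List (List ℕ) → List (List ℕ) → List (List (ℕ × ℕ)) → List (List (List (List ℕ))) → Bool
  | [], [], [], [] => true
  | l :: ls, s :: ss, pr :: prs, cl :: cls =>
    ((List.range l.length).all fun j =>
      bif Nat.beq j 0 then sameB b N [l.getD j 0] [] else
        Nat.blt (pr.getD j (0, 0)).1 s.length && Nat.blt (pr.getD j (0, 0)).2 j &&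
          sameB b N [l.getD j 0] [s.getD (pr.getD j (0, 0)).1 0, l.getD (pr.getD j (0, 0)).2 0]) &&
    Nat.blt 0 l.length &&
    (ss.headD []).all (fun x => s.any fun y => Nat.beq x y) &&
    all2 (fun sT row => all2 (fun t pth => pathOk (l :: ls) pth && sameB b N [sT, t] (pickPath (l :: ls) pth)) l row)
      s cl &&
    closedB b N ls ss prs cls
  | _, _, _, _ => false

/-- The subgroup generated by listed tables. -/
noncomputable def genBy (b N : ℕ) [NeZero N] (s : List ℕ) : Subgroup (Perm (Fin N)) :=
  Subgroup.closure {g | ∃ T ∈ s, g = toP b N T}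

theorem closed_spec : ∀ (levs sgs : List (List ℕ)) (prs : List (List (ℕ × ℕ))) (cls : List (List (List (List ℕ)))),
    closedB b N levs sgs prs cls = true → (∀ T ∈ sgs.headD [], Rep b (toP b N T) T) →
    (∀ l ∈ levs, ∀ T ∈ l, Rep b (toP b N T) T) ∧
      (↑(prodSet b N levs) : Set (Perm (Fin N))) = genBy b N (sgs.headD []) := by
  intro levs
  induction levs with
  | nil =>
    intro sgs prs cls h _
    cases sgs with
    | cons _ _ => simp [closedB] at h
    | nil =>
      refine ⟨by simp, ?_⟩
      simp [prodSet, genBy]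
  | cons l ls ih =>
    intro sgs prs cls h hrep
    match sgs, prs, cls, h with
    | [], _, _, h => simp [closedB] at h
    | _ :: _, [], _, h => simp [closedB] at h
    | _ :: _, _ :: _, [], h => simp [closedB] at h
    | s :: ss, pr :: prs, cl :: cls, h =>
    simp only [closedB, Bool.and_eq_true, List.all_eq_true, List.mem_range, Nat.blt, Nat.ble_eq,
      List.any_eq_true, Nat.beq_eq] at h
    obtain ⟨⟨⟨⟨htree, hl0⟩, hsub⟩, hclose⟩, hrest⟩ := h
    have hs : ∀ T ∈ s, Rep b (toP b N T) T := hrep
    have hsub' : ∀ T ∈ ss.headD [], T ∈ s := fun T hT => by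
      obtain ⟨y, hy, rfl⟩ := hsub T hT
      exact hy
    obtain ⟨hreps, heq⟩ := ih ss prs cls hrest fun T hT => hs T (hsub' T hT)
    have hgs : ∀ T ∈ s, toP b N T ∈ genBy b N s := fun T hT => Subgroup.subset_closure ⟨T, hT, rfl⟩
    have hl : ∀ j < l.length, Rep b (toP b N (l.getD j 0)) (l.getD j 0) ∧ toP b N (l.getD j 0) ∈ genBy b N s := by
      intro j
      induction j using Nat.strong_induction_on with
      | _ j ihj =>
        intro hj
        have hh := htree j hj
        by_cases hj0 : j = 0
        · subst hj0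
          simp only [show Nat.beq 0 0 = true from rfl, cond_true] at hh
          obtain ⟨r1, r2⟩ := Rep.one_of_same hh
          exact ⟨r1, r2 ▸ one_mem _⟩
        · have hb : Nat.beq j 0 = false := by
            rcases e : Nat.beq j 0
            · rfl
            · exact absurd (Nat.eq_of_beq_eq_true e) hj0
          rw [hb, cond_false] at hh
          simp only [Bool.and_eq_true, Nat.blt, Nat.ble_eq] at hh
          obtain ⟨⟨h1, h2⟩, h3⟩ := hh
          obtain ⟨r1, r2⟩ := ihj _ h2 (lt_trans h2 hj)
          have hm : s.getD (pr.getD j (0, 0)).1 0 ∈ s := by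
            rw [List.getD_eq_getElem _ _ h1]; exact List.getElem_mem _
          obtain ⟨q1, q2⟩ := Rep.mul_of_same (hs _ hm) r1 h3
          exact ⟨q1, q2 ▸ mul_mem (hgs _ hm) r2⟩
    have hmem : ∀ T ∈ l, Rep b (toP b N T) T ∧ toP b N T ∈ genBy b N s := fun T hT => by
      obtain ⟨j, hj, rfl⟩ := List.getElem_of_mem hT
      rw [← List.getD_eq_getElem _ 0 hj]
      exact hl j hj
    have hall : ∀ m ∈ l :: ls, ∀ T ∈ m, Rep b (toP b N T) T := fun m hm T hT =>
      (List.mem_cons.1 hm).elim (fun e => (hmem T (e ▸ hT)).1) (fun e => hreps m e T hT)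
    refine ⟨hall, Set.Subset.antisymm ?_ ?_⟩
    · intro g hg
      simp only [Finset.mem_coe, prodSet, Finset.mem_image₂, List.mem_toFinset, List.mem_map] at hg
      obtain ⟨u, ⟨T, hT, rfl⟩, w, hw, rfl⟩ := hg
      refine mul_mem (hmem T hT).2 ?_
      have hw' : w ∈ genBy b N (ss.headD []) := by
        have : w ∈ (↑(prodSet b N ls) : Set (Perm (Fin N))) := hw
        rwa [heq] at this
      refine Subgroup.closure_mono ?_ hw'
      rintro x ⟨S, hS, rfl⟩
      exact ⟨S, hsub' S hS, rfl⟩
    · have hgrp : ∀ u ∈ prodSet b N ls, ∀ w ∈ prodSet b N ls, u * w ∈ prodSet b N ls := fun u hu w hw => by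
        have hu' : u ∈ (↑(prodSet b N ls) : Set (Perm (Fin N))) := hu
        have hw' : w ∈ (↑(prodSet b N ls) : Set (Perm (Fin N))) := hw
        rw [heq] at hu' hw'
        have := (genBy b N (ss.headD [])).mul_mem hu' hw'
        rw [← SetLike.mem_coe, ← heq] at this
        exact this
      have hone : (1 : Perm (Fin N)) ∈ prodSet b N ls := by
        have := (genBy b N (ss.headD [])).one_mem
        rw [← SetLike.mem_coe, ← heq] at this
        exact this
      have h1 : (1 : Perm (Fin N)) ∈ prodSet b N (l :: ls) := by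
        have h0 := htree 0 hl0
        simp only [show Nat.beq 0 0 = true from rfl, cond_true] at h0
        rw [← one_mul (1 : Perm (Fin N))]
        nth_rewrite 1 [← (Rep.one_of_same h0).2]
        exact Finset.mem_image₂_of_mem (List.mem_toFinset.2 (List.mem_map.2 ⟨_, by
          rw [List.getD_eq_getElem _ _ hl0]; exact List.getElem_mem _, rfl⟩)) hone
      have hstep : ∀ S ∈ s, ∀ g ∈ prodSet b N (l :: ls), toP b N S * g ∈ prodSet b N (l :: ls) := by
        intro S hS g hg
        simp only [prodSet, Finset.mem_image₂, List.mem_toFinset, List.mem_map] at hg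
        obtain ⟨u, ⟨T, hT, rfl⟩, w, hw, rfl⟩ := hg
        obtain ⟨row, hrow⟩ := all2_forall hclose S hS
        obtain ⟨pth, hpth⟩ := all2_forall hrow T hT
        simp only [Bool.and_eq_true] at hpth
        have hF := forall₂_pick hpth.1
        have e := eq_of_sameB (l := [S, T]) (by simp [hs S hS, (hmem T hT).1])
          (fun U hU => by obtain ⟨m, hm, hU'⟩ := mem_of_forall₂ hF U hU; exact hall m hm U hU') hpth.2
        simp only [List.map_cons, List.map_nil, List.prod_cons, List.prod_nil, mul_one] at e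
        rw [← mul_assoc, e]
        cases pth with
        | nil => simp [pathOk] at hpth
        | cons i is =>
          simp only [pickPath, List.map_cons, List.prod_cons, mul_assoc]
          cases hF with
          | cons hh ht =>
            exact Finset.mem_image₂_of_mem (List.mem_toFinset.2 (List.mem_map.2 ⟨_, hh, rfl⟩))
              (hgrp _ (mem_prodSet_of_forall₂ ht) _ hw)
      intro g hg
      have hg' : g ∈ Submonoid.closure {g | ∃ T ∈ s, g = toP b N T} := by
        rw [← Subgroup.closure_toSubmonoid_of_finite]; exact hg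
      refine Submonoid.closure_induction_left ?_ ?_ hg'
      · exact h1
      · rintro x ⟨S, hS, rfl⟩ y _ hy
        exact hstep S hS y hy

/-- A two-generated subgroup with its chain. -/
structure Sub where
  g0 : ℕ
  g0i : ℕ
  g1 : ℕ
  g1i : ℕ
  E : List ℕ
  steps : List (ℕ × ℕ)
  sgI : List ℕ
  base : List ℕ
  lev : List (List ℕ)
  sg : List (List ℕ)
  par : List (List (ℕ × ℕ))
  close : List (List (List (List ℕ)))

/-- The check of a chain. -/
def Sub.ok (H : Sub) (b N : ℕ) : Bool :=
  invPairOk b N H.g0 H.g0i && invPairOk b N H.g1 H.g1i && Nat.beq (H.E.getD 0 0) H.g0 && Nat.beq (H.E.getD 1 0) H.g1 &&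
  Nat.beq (H.E.getD 2 0) H.g0i && Nat.beq (H.E.getD 3 0) H.g1i &&
  stepsOk b N H.E 4 H.steps &&
  all2 (fun T i => Nat.blt i H.E.length && Nat.beq (H.E.getD i 0) T) (H.sg.headD []) H.sgI &&
  (H.sg.headD []).any (fun T => Nat.beq T H.g0) && (H.sg.headD []).any (fun T => Nat.beq T H.g1) &&
  closedB b N H.lev H.sg H.par H.close && (H.base.all fun x => Nat.blt x N) && sepOk b H.lev H.base

/-- The size of a chain. -/
def Sub.size (H : Sub) : ℕ := (H.lev.map List.length).prod

/-- The subgroup of a chain. -/
noncomputable def Sub.grp (H : Sub) (b N : ℕ) [NeZero N] : Subgroup (Perm (Fin N)) :=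
  Subgroup.closure {toP b N H.g0, toP b N H.g1}

/-- What the check of a chain gives. -/
structure Sub.Valid (H : Sub) (b N : ℕ) [NeZero N] : Prop where
  g0 : Rep b (toP b N H.g0) H.g0
  g1 : Rep b (toP b N H.g1) H.g1
  lev : ∀ l ∈ H.lev, ∀ T ∈ l, Rep b (toP b N T) T
  eq : (↑(prodSet b N H.lev) : Set (Perm (Fin N))) = H.grp b N
  card : Nat.card (H.grp b N) = H.size

theorem Sub.valid {H : Sub} (h : H.ok b N = true) : H.Valid b N := by
  simp only [Sub.ok, Bool.and_eq_true, Nat.beq_eq, List.any_eq_true] at h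
  obtain ⟨⟨⟨⟨⟨⟨⟨⟨⟨⟨⟨⟨ha, hc⟩, e0⟩, e1⟩, e2⟩, e3⟩, hst⟩, hsg⟩, hm0⟩, hm1⟩, hcl⟩, hb⟩, hsep⟩ := h
  obtain ⟨a1, a2, a3⟩ := rep_of_invPairOk (N := N) ha
  obtain ⟨c1, c2, c3⟩ := rep_of_invPairOk (N := N) hc
  have hall := mem_of_stepsOk (b := b) (N := N) (K := H.grp b N) (fun i hi => by
    interval_cases i
    · rw [e0]; exact ⟨a1, Subgroup.subset_closure (by simp)⟩
    · rw [e1]; exact ⟨c1, Subgroup.subset_closure (by simp)⟩
    · rw [e2]; exact ⟨a2, a3 ▸ inv_mem (Subgroup.subset_closure (by simp))⟩
    · rw [e3]; exact ⟨c2, c3 ▸ inv_mem (Subgroup.subset_closure (by simp))⟩) hst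
  have hS : ∀ T ∈ H.sg.headD [], Rep b (toP b N T) T ∧ toP b N T ∈ H.grp b N := fun T hT => by
    obtain ⟨i, hi⟩ := all2_forall hsg T hT
    simp only [Bool.and_eq_true, Nat.blt, Nat.ble_eq, Nat.beq_eq] at hi
    obtain ⟨hi1, rfl⟩ := hi
    exact hall i hi1
  obtain ⟨hrep, heq⟩ := closed_spec H.lev H.sg H.par H.close hcl fun T hT => (hS T hT).1
  have hgen : genBy b N (H.sg.headD []) = H.grp b N := by
    refine le_antisymm ((Subgroup.closure_le _).2 ?_) ((Subgroup.closure_le _).2 ?_)
    · rintro x ⟨T, hT, rfl⟩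
      exact (hS T hT).2
    · rintro x (rfl | rfl)
      · obtain ⟨T, hT, rfl⟩ := hm0
        exact Subgroup.subset_closure ⟨_, hT, rfl⟩
      · obtain ⟨T, hT, rfl⟩ := hm1
        exact Subgroup.subset_closure ⟨_, hT, rfl⟩
  rw [hgen] at heq
  obtain ⟨hl, hn⟩ := sepOk_spec hsep
  refine ⟨a1, c1, hrep, heq, ?_⟩
  rw [show Nat.card (H.grp b N) = Nat.card ↥(↑(H.grp b N) : Set (Perm (Fin N))) from rfl, ← heq,
    Nat.card_coe_set_eq, Set.ncard_coe_finset]
  exact card_prodSet H.lev H.base (by simpa [Nat.blt] using hb) hrep hn hl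

/-- A product along a path lies in the subgroup. -/
theorem Sub.Valid.mem_of_path {H : Sub} (V : H.Valid b N) {is : List ℕ} (h : pathOk H.lev is = true) :
    ((pickPath H.lev is).map (toP b N)).prod ∈ H.grp b N := by
  rw [← SetLike.mem_coe, ← V.eq]
  exact mem_prodSet_of_forall₂ (forall₂_pick h)

theorem Sub.Valid.good_of_path {H : Sub} (V : H.Valid b N) {is : List ℕ} (h : pathOk H.lev is = true) :
    ∀ T ∈ pickPath H.lev is, Rep b (toP b N T) T := fun T hT => by
  obtain ⟨l, hl, hT'⟩ := mem_of_forall₂ (forall₂_pick h) T hT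
  exact V.lev l hl T hT'

/-- An element given by a table and a path lies in the subgroup. -/
theorem Sub.Valid.mem_of_same {H : Sub} (V : H.Valid b N) {T : ℕ} (hT : Rep b (toP b N T) T) {is : List ℕ}
    (h : pathOk H.lev is = true) (hs : sameB b N [T] (pickPath H.lev is) = true) : toP b N T ∈ H.grp b N := by
  have e := eq_of_sameB (l := [T]) (by simpa using hT) (V.good_of_path h) hs
  rw [List.map_singleton, List.prod_singleton] at e
  rw [e]; exact V.mem_of_path h

end

end Cfsg.Lib.PermAut
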