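import Cfsg.Agent.Lib.PermAut.Sub
import Cfsg.Agent.Lib.Concrete.StemPerm
import Cfsg.Agent.Lib.Schur.StemIndex

/-!
# Stem certificates on the cosets of certified subgroups
-/

set_option autoImplicit false
set_option linter.unusedSectionVars false

namespace Cfsg.Lib.PermAut

noncomputable section

open Equiv MulAction Cfsg.Lib.Concrete
open scoped commutatorElement

/-- The data of a coset table. -/
structure Cos where
  reps : List ℕ
  wit0 : List (List ℕ)
  wit1 : List (List ℕ)
  path0 : List ℕ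
  path1 : List ℕ

/-- The generator of a letter. -/
def Sub.gen (H : Sub) (i : ℕ) : ℕ := if Nat.beq i 0 then H.g0 else H.g1

/-- The witnesses of a letter. -/
def Cos.wit (k : Cos) (i : ℕ) : List (List ℕ) := if Nat.beq i 0 then k.wit0 else k.wit1

/-- The check of a coset table. -/
def Cos.ok (k : Cos) (b N : ℕ) (H L : Sub) (c : StemCert) : Bool :=
  sameB b N [k.reps.getD 0 0] [] &&
  ((List.range c.N).all fun x => Nat.beq x 0 ||
    sameB b N [k.reps.getD x 0] [H.gen (c.pi' x), k.reps.getD (c.px x) 0]) &&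
  ((List.range 2).all fun i => (List.range c.N).all fun x =>
    pathOk L.lev ((k.wit i).getD x []) &&
      sameB b N [H.gen i, k.reps.getD x 0] (k.reps.getD (c.tab i x) 0 :: pickPath L.lev ((k.wit i).getD x []))) &&
  pathOk H.lev k.path0 && sameB b N [L.g0] (pickPath H.lev k.path0) &&
  pathOk H.lev k.path1 && sameB b N [L.g1] (pickPath H.lev k.path1) &&
  c.rels.all fun W => sameB b N (W.map H.gen) []

variable {b N : ℕ} [NeZero N] {H L : Sub}

/-- The subgroup inside the group. -/
noncomputable abbrev inner (b N : ℕ) [NeZero N] (H L : Sub) : Subgroup ↥(H.grp b N) :=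
  (L.grp b N).subgroupOf (H.grp b N)

theorem Sub.Valid.gen_rep (V : H.Valid b N) (i : ℕ) : Rep b (toP b N (H.gen i)) (H.gen i) := by
  unfold Sub.gen
  split
  · exact V.g0
  · exact V.g1

theorem Sub.gen_mem (H : Sub) (b N : ℕ) [NeZero N] (i : ℕ) : toP b N (H.gen i) ∈ H.grp b N := by
  unfold Sub.gen
  split <;> exact Subgroup.subset_closure (by simp)

theorem Cos.le {k : Cos} {c : StemCert} (VH : H.Valid b N) (VL : L.Valid b N) (hk : k.ok b N H L c = true) :
    L.grp b N ≤ H.grp b N := by
  simp only [Cos.ok, Bool.and_eq_true] at hk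
  obtain ⟨⟨⟨⟨⟨-, p0⟩, s0⟩, p1⟩, s1⟩, -⟩ := hk
  rw [Sub.grp, Subgroup.closure_le]
  rintro x (rfl | rfl)
  · exact VH.mem_of_same VL.g0 p0 s0
  · exact VH.mem_of_same VL.g1 p1 s1

/-- A generator as an element of the subgroup. -/
def Sub.genElt (H : Sub) (b N : ℕ) [NeZero N] (i : ℕ) : ↥(H.grp b N) := ⟨toP b N (H.gen i), Sub.gen_mem H b N i⟩

/-- The cosets of a certificate with the facts that the certificate theorems need. -/
theorem Cos.frame {k : Cos} {c : StemCert} (VH : H.Valid b N) (VL : L.Valid b N)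
    (hk : k.ok b N H L c = true) (hsh : c.shapeOk = true) (hcard : H.size = c.N * L.size) :
    ∃ P : ℕ → ↥(H.grp b N) ⧸ inner b N H L, Subgroup.closure {g | g = H.genElt b N 0 ∨ g = H.genElt b N 1} = ⊤ ∧
      (∀ i < 2, ∀ x < c.N, H.genElt b N i • P x = P (c.tab i x)) ∧ (∀ y < c.N, P y = P 0 → y = 0) ∧
      (∀ W ∈ c.rels, Cfsg.Lib.Concrete.wordProd (H.genElt b N) W = 1) ∧
      stabilizer ↥(H.grp b N) (P 0) = inner b N H L := by
  have hle := Cos.le VH VL hk
  have hN : 0 < c.N := by
    have h := hsh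
    simp only [StemCert.shapeOk, Bool.and_eq_true, decide_eq_true_eq] at h
    exact h.1.1.1.1.1.1
  simp only [Cos.ok, Bool.and_eq_true, List.all_eq_true, List.mem_range, Bool.or_eq_true, Nat.beq_eq] at hk
  obtain ⟨⟨⟨⟨⟨⟨⟨hr0, hrs⟩, hwit⟩, -⟩, -⟩, -⟩, -⟩, hrels⟩ := hk
  have hgood : ∀ x < c.N, Rep b (toP b N (k.reps.getD x 0)) (k.reps.getD x 0) ∧
      toP b N (k.reps.getD x 0) ∈ H.grp b N := by
    intro x
    induction x using Nat.strong_induction_on with
    | _ x ih =>
      intro hx
      rcases Nat.eq_zero_or_pos x with rfl | hpos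
      · obtain ⟨r1, r2⟩ := Rep.one_of_same hr0
        exact ⟨r1, r2 ▸ one_mem _⟩
      obtain ⟨hlt, -⟩ := StemCert.shape_par hsh hpos hx
      obtain ⟨a1, a2⟩ := ih _ hlt (by omega)
      obtain ⟨q1, q2⟩ := Rep.mul_of_same (VH.gen_rep _) a1 ((hrs x hx).resolve_left (by omega))
      exact ⟨q1, q2 ▸ mul_mem (Sub.gen_mem H b N _) a2⟩
  let G := ↥(H.grp b N)
  let r : ℕ → G := fun x => if hx : x < c.N then ⟨_, (hgood x hx).2⟩ else 1
  let P : ℕ → G ⧸ inner b N H L := fun x => (r x : G ⧸ inner b N H L)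
  let s : ℕ → G := H.genElt b N
  have hgen : Subgroup.closure {g | g = s 0 ∨ g = s 1} = ⊤ := by
    refine top_le_iff.1 fun g _ => ?_
    have h1 : (g : Perm (Fin N)) ∈ (Subgroup.closure {g | g = s 0 ∨ g = s 1}).map (H.grp b N).subtype := by
      rw [MonoidHom.map_closure]
      refine Subgroup.closure_mono ?_ g.2
      rintro x (rfl | rfl)
      · exact ⟨s 0, Or.inl rfl, rfl⟩
      · exact ⟨s 1, Or.inr rfl, rfl⟩
    obtain ⟨y, hy, hyg⟩ := h1
    exact (Subtype.ext hyg : y = g) ▸ hy
  have hact : ∀ i < 2, ∀ x < c.N, s i • P x = P (c.tab i x) := by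
    intro i hi x hx
    have hy := StemCert.shape_lt hsh hi hx
    obtain ⟨hp1, hp2⟩ := hwit i hi x hx
    have e := eq_of_sameB (l := [H.gen i, k.reps.getD x 0]) (fun T hT => (List.mem_cons.1 hT).elim
      (fun e => e ▸ VH.gen_rep i) (fun h => (List.mem_singleton.1 h) ▸ (hgood x hx).1))
      (l' := k.reps.getD (c.tab i x) 0 :: pickPath L.lev ((k.wit i).getD x []))
      (fun T hT => (List.mem_cons.1 hT).elim (fun e => e ▸ (hgood _ hy).1) (VL.good_of_path hp1 T)) hp2
    simp only [List.map_cons, List.map_nil, List.prod_cons, List.prod_nil, mul_one] at e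
    show ((s i * r x : G) : G ⧸ inner b N H L) = ((r (c.tab i x) : G) : G ⧸ inner b N H L)
    rw [eq_comm, QuotientGroup.eq]
    show (((r (c.tab i x))⁻¹ * (s i * r x) : G) : Perm (Fin N)) ∈ L.grp b N
    simp only [r, dif_pos hx, dif_pos hy]
    show (toP b N (k.reps.getD (c.tab i x) 0))⁻¹ * (toP b N (H.gen i) * toP b N (k.reps.getD x 0)) ∈ L.grp b N
    rw [e, inv_mul_cancel_left]
    exact VL.mem_of_path hp1
  have hr : r 0 = 1 := by
    simp only [r, dif_pos hN]
    exact Subtype.ext (Rep.one_of_same hr0).2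
  have hstab : stabilizer G (P 0) = inner b N H L := by
    show stabilizer G ((r 0 : G) : G ⧸ inner b N H L) = _
    rw [hr]
    exact MulAction.stabilizer_quotient (inner b N H L)
  have hsep : ∀ y < c.N, P y = P 0 → y = 0 := by
    have horb := StemPerm.orbit_eq c hsh P s hgen hact
    have hidx : (stabilizer G (P 0)).index = c.N := by
      have h := (inner b N H L).card_mul_index
      rw [Nat.card_congr (Subgroup.subgroupOfEquivOfLe hle).toEquiv, VL.card, VH.card, hcard, Nat.mul_comm c.N] at h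
      rw [hstab]
      refine Nat.eq_of_mul_eq_mul_left ?_ h
      rw [← VL.card]
      exact Nat.card_pos
    rw [index_stabilizer, horb] at hidx
    have hset : {x | x < c.N} = (↑(Finset.range c.N) : Set ℕ) := by ext; simp
    have hinj : Set.InjOn P {x | x < c.N} := by
      rw [hset]
      refine Set.injOn_of_ncard_image_eq ?_ (Finset.finite_toSet _)
      rw [← hset, hidx, hset, Set.ncard_coe_finset, Finset.card_range]
    exact fun y hy e => hinj hy hN e
  refine ⟨P, hgen, hact, hsep, fun W hW => ?_, hstab⟩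
  have hgoodW : ∀ T ∈ W.map H.gen, Rep b (toP b N T) T := fun T hT => by
    obtain ⟨i, -, rfl⟩ := List.mem_map.1 hT
    exact VH.gen_rep i
  have e := eq_of_sameB hgoodW (l' := []) (by simp) (hrels W hW)
  refine Subtype.ext ?_
  simp only [Cfsg.Lib.Concrete.wordProd, SubmonoidClass.coe_list_prod, List.map_map, Function.comp_def, Sub.genElt]
  simpa [List.map_map, Function.comp_def] using e

/-- No stem extensions when the subgroup lifts and the coset certificate checks. -/
theorem Cos.noStem {p : ℕ} [Fact p.Prime] {k : Cos} {c : StemCert} (VH : H.Valid b N) (VL : L.Valid b N)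
    (hk : k.ok b N H L c = true) (A : SVec p c.m) (hc : c.check A = true) (hcard : H.size = c.N * L.size)
    (hlift : LiftsAt p (inner b N H L)) : NoStem p ↥(H.grp b N) := by
  obtain ⟨P, hgen, hact, hsep, hrel, hstab⟩ :=
    Cos.frame VH VL hk (StemPerm.shape_of_check A hc) hcard
  exact noStem_of_cert c A hc P (H.genElt b N) hgen hact hsep hrel (by rw [hstab]; exact hlift)

/-- The generators are commutators. -/
def Sub.perfB (L : Sub) (b N : ℕ) (u0 v0 u1 v1 : List ℕ) : Bool :=
  pathOk L.lev u0 && pathOk L.lev v0 && pathOk L.lev u1 && pathOk L.lev v1 &&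
  sameB b N (pickPath L.lev v0 ++ (pickPath L.lev u0 ++ [L.g0])) (pickPath L.lev u0 ++ pickPath L.lev v0) &&
  sameB b N (pickPath L.lev v1 ++ (pickPath L.lev u1 ++ [L.g1])) (pickPath L.lev u1 ++ pickPath L.lev v1)

theorem Sub.Valid.perfect (V : L.Valid b N) {u0 v0 u1 v1 : List ℕ} (h : L.perfB b N u0 v0 u1 v1 = true) :
    ⁅L.grp b N, L.grp b N⁆ = L.grp b N := by
  simp only [Sub.perfB, Bool.and_eq_true] at h
  obtain ⟨⟨⟨⟨⟨a0, b0⟩, a1⟩, b1⟩, s0⟩, s1⟩ := h
  refine le_antisymm (Subgroup.commutator_le_self _) ((Subgroup.closure_le _).2 ?_)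
  have key : ∀ {T : ℕ} {u v : List ℕ}, Rep b (toP b N T) T → pathOk L.lev u = true → pathOk L.lev v = true →
      sameB b N (pickPath L.lev v ++ (pickPath L.lev u ++ [T])) (pickPath L.lev u ++ pickPath L.lev v) = true →
      toP b N T ∈ ⁅L.grp b N, L.grp b N⁆ := by
    intro T u v hT hu hv hs
    have gu := V.good_of_path hu
    have gv := V.good_of_path hv
    have e := eq_of_sameB (fun S hS => by
      rcases List.mem_append.1 hS with hS | hS
      · exact gv S hS
      rcases List.mem_append.1 hS with hS | hS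
      · exact gu S hS
      · rw [List.mem_singleton.1 hS]; exact hT)
      (fun S hS => (List.mem_append.1 hS).elim (gu S) (gv S)) hs
    simp only [List.map_append, List.prod_append, List.map_singleton, List.prod_singleton] at e
    set U := ((pickPath L.lev u).map (toP b N)).prod with hU
    set V' := ((pickPath L.lev v).map (toP b N)).prod with hV
    have e2 : toP b N T = ⁅U⁻¹, V'⁻¹⁆ := by
      rw [commutatorElement_def, inv_inv, inv_inv, mul_assoc _ U V', ← e]
      group
    rw [e2]
    exact Subgroup.commutator_mem_commutator (inv_mem (V.mem_of_path hu)) (inv_mem (V.mem_of_path hv))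
  rintro x (rfl | rfl)
  · exact key V.g0 a0 b0 s0
  · exact key V.g1 a1 b1 s1

/-- A perfect subgroup without stem extensions lifts. -/
theorem liftsAt_perfect {p : ℕ} (hp : p.Prime) (hle : L.grp b N ≤ H.grp b N)
    (hperf : ⁅L.grp b N, L.grp b N⁆ = L.grp b N) (hno : NoStem p ↥(L.grp b N)) : LiftsAt p (inner b N H L) := by
  refine liftsAt_of_noStem hp ?_ (hno.of_equiv (Subgroup.subgroupOfEquivOfLe hle).symm)
  refine Subgroup.map_injective (H.grp b N).subtype_injective ?_
  rw [Subgroup.map_commutator, Subgroup.map_subgroupOf_eq_of_le hle, hperf]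

/-- A subgroup of order prime to `p` lifts. -/
theorem liftsAt_small {p : ℕ} (hp : p.Prime) (VL : L.Valid b N) (hle : L.grp b N ≤ H.grp b N) (h : ¬ p ∣ L.size) :
    LiftsAt p (inner b N H L) := by
  refine liftsAt_of_coprime (hp.coprime_iff_not_dvd.2 ?_)
  rwa [Nat.card_congr (Subgroup.subgroupOfEquivOfLe hle).toEquiv, VL.card]

/-- A certified subgroup of the group of a certificate, of index prime to `p`. -/
theorem noStem_of_sub {C : Cert} [NeZero C.N] {p : ℕ} (hp : p.Prime) (G : C.Gen) (hK : Nat.card C.K = C.size)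
    (V : H.Valid C.b C.N) {u0 u1 : List ℕ} (h0 : pathOk C.tr u0 = true)
    (s0 : sameB C.b C.N [H.g0] (pickPath C.tr u0) = true) (h1 : pathOk C.tr u1 = true)
    (s1 : sameB C.b C.N [H.g1] (pickPath C.tr u1) = true) {d : ℕ} (hd : C.size = H.size * d) (hpd : ¬ p ∣ d)
    (hno : NoStem p ↥(H.grp C.b C.N)) : NoStem p ↥C.K := by
  have hmem : ∀ {T : ℕ} {u : List ℕ}, Rep C.b (C.P T) T → pathOk C.tr u = true →
      sameB C.b C.N [T] (pickPath C.tr u) = true → C.P T ∈ C.K := by
    intro T u hT hu hs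
    have hg : ∀ S ∈ pickPath C.tr u, Rep C.b (C.P S) S ∧ C.P S ∈ C.K := fun S hS => by
      obtain ⟨l, hl, h'⟩ := mem_of_forall₂ (forall₂_pick hu) S hS
      exact G.rep l hl S h'
    have e := eq_of_sameB (l := [T]) (by simpa using hT) (fun S hS => (hg S hS).1) hs
    rw [List.map_singleton, List.prod_singleton] at e
    show toP C.b C.N T ∈ C.K
    rw [e]
    exact Subgroup.list_prod_mem _ fun x hx => by
      obtain ⟨S, hS, rfl⟩ := List.mem_map.1 hx
      exact (hg S hS).2
  have hle : H.grp C.b C.N ≤ C.K := by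
    rw [Sub.grp, Subgroup.closure_le]
    rintro x (rfl | rfl)
    · exact hmem V.g0 h0 s0
    · exact hmem V.g1 h1 s1
  refine Cfsg.Lib.Schur.noStem_of_index_prime hp ((H.grp C.b C.N).subgroupOf C.K)
    (hno.of_equiv (Subgroup.subgroupOfEquivOfLe hle).symm) ?_
  have h := ((H.grp C.b C.N).subgroupOf C.K).card_mul_index
  rw [Nat.card_congr (Subgroup.subgroupOfEquivOfLe hle).toEquiv, V.card, hK, hd] at h
  rw [Nat.eq_of_mul_eq_mul_left (by rw [← V.card]; exact Nat.card_pos) h]
  exact hpd

end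

end Cfsg.Lib.PermAut
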