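import Cfsg.Agent.Lib.PermAut.MclCheck
import Cfsg.Agent.Lib.PermAut.LatticeMoves

/-!
# The outer automorphism group of the McLaughlin group
-/

set_option autoImplicit false

namespace Cfsg.Lib.PermAut.Mcl

open Cfsg MulAction Cfsg.Lib.Concrete

instance : NeZero cert.N := ⟨by decide⟩

theorem fix_keys : keyL 0x377777777777777777777777 = Spor.leechV ∧ keyL 0xc8888888888888888888888c = Spor.leechU := by
  obtain ⟨-, h⟩ := keysOk_spec fix_key_check
  have hV : ∀ p : GolayPt, codeVec 0x377777777777777777777777 p = Spor.vecV p := by decide +kernel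
  have hU : ∀ p : GolayPt, codeVec 0xc8888888888888888888888c p = Spor.vecU p := by decide +kernel
  exact ⟨Subtype.ext ((keyL_val (h _ (by simp)).2).trans (funext hV)),
    Subtype.ext ((keyL_val (h _ (by simp)).2).trans (funext hU))⟩

theorem card_mcl_spor : Nat.card ↥Spor.McL = 898128000 := by
  have e : Spor.McL = (stabilizer Co0 Spor.leechV ⊓ stabilizer Co0 Spor.leechU).map Co0.subtype :=
    (map_stab_pair _ _).symm
  rw [e, card_sub_co0]
  have hn : sqNorm ((-(Spor.leechU + Spor.leechV) : leechLattice) : GolayPt → ℤ) = 32 :=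
    show sqNorm (-(Spor.vecU + Spor.vecV)) = 32 by decide +kernel
  have hd : dotInt ((Spor.leechU : leechLattice) : GolayPt → ℤ)
      ((-(Spor.leechU + Spor.leechV) : leechLattice) : GolayPt → ℤ) = -8 :=
    show dotInt Spor.vecU (-(Spor.vecU + Spor.vecV)) = -8 by decide +kernel
  have he : stabilizer Co0 Spor.leechU ⊓ stabilizer Co0 (-(Spor.leechU + Spor.leechV)) =
      stabilizer Co0 Spor.leechV ⊓ stabilizer Co0 Spor.leechU := by
    rw [stab_pair_eq, neg_add, neg_neg, ← add_assoc, neg_add_cancel, zero_add]
  have := card_mcl Spor.leechU _ (show sqNorm Spor.vecU = 32 by decide +kernel) hn hd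
  rwa [he] at this

/-- The group as a certified group on 275 points. -/
theorem mcl_model : Nonempty (↥Spor.McL ≃* cert.K) ∧ Nat.card cert.K = cert.size := by
  have hsz : cert.size = 898128000 := by decide +kernel
  have hfix : ∀ {m : List (List ℤ)} (h : matOk m = true),
      matOkB m [0x377777777777777777777777, 0xc8888888888888888888888c] = true →
      ((matCo0 m h : Co0) : Equiv.Perm leechLattice) ∈ Spor.McL := by
    intro m h hm
    refine ⟨⟨(matCo0 m h).2, ?_⟩, ?_⟩
    · show matCo0 m h • Spor.leechV = Spor.leechV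
      rw [← fix_keys.1]; exact fix_of_check fix_key_check hm h (by simp)
    · show matCo0 m h • Spor.leechU = Spor.leechU
      rw [← fix_keys.2]; exact fix_of_check fix_key_check hm h (by simp)
  obtain ⟨hA, hC, hD⟩ := mat_check
  obtain ⟨hk, hlen⟩ := key_check
  haveI : Finite ↥Spor.McL := Nat.finite_of_card_ne_zero (by rw [card_mcl_spor]; norm_num)
  have G := Cert.gen_of_check gen_check
  let el : ∀ {m : List (List ℤ)}, matOkB m [0x377777777777777777777777, 0xc8888888888888888888888c] = true →
      ↥Spor.McL := fun {m} hm => ⟨(matCo0 m (matOk_of hm) : Co0), hfix (matOk_of hm) hm⟩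
  exact exists_equiv cert gen_check (card_mcl_spor.trans hsz.symm)
    (fun x : Fin cert.N => keyL (ptKeys.getD x 0))
    (fun i j h => Fin.ext (keyL_inj hk (hlen.symm ▸ i.isLt) (hlen.symm ▸ j.isLt) h))
    (el hA) (el hC) (el hD)
    (fun x => moves_plain hk hlen hA move_check.1 G.a x)
    (fun x => moves_plain hk hlen hC move_check.2.1 G.c x)
    (fun x => moves_plain hk hlen hD move_check.2.2 G.d x)

theorem card_out_mcl : Nat.card (Cfsg.Out ↥Spor.McL) = 2 := by
  have hsz : cert.size = 898128000 := by decide +kernel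
  obtain ⟨⟨e⟩, hK⟩ := mcl_model
  rw [out_congr e]
  exact Cert.out_two outer gen_check hK (by decide +kernel) (by rw [hsz]; decide +kernel) norm_check second_check
    third_check outer_check

end Cfsg.Lib.PermAut.Mcl
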