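import Cfsg.Agent.Lib.PermAut.MclPsuData
import Cfsg.Agent.Lib.PermAut.RestrictAt
import Cfsg.Agent.Lib.PermAut.Split
import Cfsg.Agent.Lib.PermAut.MclData

/-!
# Checks of the point stabiliser of the McLaughlin group
-/

set_option autoImplicit false
set_option maxRecDepth 100000
set_option Elab.async false

namespace Cfsg.Lib.PermAut.MclPsu

theorem stab_ok : stabSub.ok 9 275 = true := by decide +kernel

theorem pair_rows0_0 :
    Split.rowsB 10 555 pairSub.lev
      ((pairSub.sg.headD []).take 3)
      ((pairSub.close.headD []).take 3) = true := by decide +kernel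

theorem pair_rows0_1 :
    Split.rowsB 10 555 pairSub.lev
      (((pairSub.sg.headD []).drop 3).take 3)
      (((pairSub.close.headD []).drop 3).take 3) = true := by decide +kernel

theorem pair_rows0_2 :
    Split.rowsB 10 555 pairSub.lev
      ((pairSub.sg.headD []).drop 6)
      ((pairSub.close.headD []).drop 6) = true := by decide +kernel

theorem pair_rows0 : Split.rowsB 10 555 pairSub.lev (pairSub.sg.headD []) (pairSub.close.headD []) = true := by
  refine Split.all2_take_drop 3 pair_rows0_0 ?_
  refine Split.all2_take_drop 3 pair_rows0_1 ?_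
  simp only [List.drop_drop, Nat.reduceAdd]
  exact pair_rows0_2

theorem pair_rows1_0 :
    Split.rowsB 10 555 pairSub.lev.tail
      ((pairSub.sg.tail.headD []).take 3)
      ((pairSub.close.tail.headD []).take 3) = true := by decide +kernel

theorem pair_rows1_1 :
    Split.rowsB 10 555 pairSub.lev.tail
      ((pairSub.sg.tail.headD []).drop 3)
      ((pairSub.close.tail.headD []).drop 3) = true := by decide +kernel

theorem pair_rows1 : Split.rowsB 10 555 pairSub.lev.tail (pairSub.sg.tail.headD []) (pairSub.close.tail.headD []) = true := by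
  refine Split.all2_take_drop 3 pair_rows1_0 ?_
  exact pair_rows1_1

theorem pair_tree : (Split.treeB 10 555 pairSub.lev pairSub.sg pairSub.par pairSub.close &&
    Split.treeB 10 555 pairSub.lev.tail pairSub.sg.tail pairSub.par.tail pairSub.close.tail) = true := by decide +kernel

theorem pair_low : closedB 10 555 pairSub.lev.tail.tail pairSub.sg.tail.tail
    pairSub.par.tail.tail pairSub.close.tail.tail = true := by decide +kernel

theorem pair_pre : Split.preB pairSub 10 555 = true := by decide +kernel

theorem pair_base : Split.baseB pairSub 10 555 = true := by decide +kernel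

theorem pair_ok : pairSub.ok 10 555 = true := by
  have h := pair_tree
  rw [Bool.and_eq_true] at h
  exact Split.ok_of_parts pair_pre (Split.closedB_of h.1 pair_rows0 (Split.closedB_of h.2 pair_rows1 pair_low)) pair_base

theorem rest_ok : (restAtB 10 9 275 0 pairSub.g0 stabSub.g0 && restAtB 10 9 275 0 pairSub.g1 stabSub.g1) = true := by
  decide +kernel

theorem place_ok : (pathOk Mcl.cert.tr (stabTop.getD 0 []) &&
    sameB 9 275 [stabSub.g0] (pickPath Mcl.cert.tr (stabTop.getD 0 [])) &&
    pathOk Mcl.cert.tr (stabTop.getD 1 []) && sameB 9 275 [stabSub.g1] (pickPath Mcl.cert.tr (stabTop.getD 1 [])) &&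
    Nat.beq (ent 9 stabSub.g0 38) 38 && Nat.beq (ent 9 stabSub.g1 38) 38) = true := by decide +kernel

theorem cover_ok : ((List.range 275).all fun x =>
    (Mcl.cert.tr.headD []).any fun T => Nat.beq (ent 9 T 38) x) = true := by decide +kernel

end Cfsg.Lib.PermAut.MclPsu
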