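import Mathlib
import Cfsg.Agent.Lib.PermAut.Basic

/-!
# The field with nine elements and tables of unitary matrices on isotropic points
-/

set_option autoImplicit false

namespace Cfsg.Lib.PermAut.MclPsu

open Matrix

/-- The field with nine elements, as `F₃[i]` with `i² = -1`. -/
abbrev R9 := QuadraticAlgebra (ZMod 3) 2 0

instance : Fintype R9 := Fintype.ofEquiv _ (QuadraticAlgebra.equivProd (2 : ZMod 3) 0).symm

instance : Fact (∀ r : ZMod 3, r ^ 2 ≠ 2 + 0 * r) := ⟨by decide⟩

theorem card_r9 : Fintype.card R9 = 9 := by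
  rw [Fintype.card_congr (QuadraticAlgebra.equivProd (2 : ZMod 3) 0), Fintype.card_prod, ZMod.card]

/-- The element with code `c`. -/
def el (c : ℕ) : R9 := ⟨(c % 3 : ℕ), (c / 3 % 3 : ℕ)⟩

/-- The vector with code `k`. -/
def vec (k : ℕ) : Fin 4 → R9 := fun i => el (k / 9 ^ (i : ℕ))

/-- A matrix from rows of codes. -/
def mat (m : List (List ℕ)) : Matrix (Fin 4) (Fin 4) R9 := fun i j => el ((m.getD i []).getD j 0)

/-- The matrix maps the listed vectors to multiples of each other by the table. -/
noncomputable def actB (m : List (List ℕ)) (pts scal : List ℕ) (b T : ℕ) : Bool :=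
  (List.range pts.length).all fun j =>
    decide (el (scal.getD j 0) ≠ 0) && decide (∀ i : Fin 4, ∑ k, mat m i k * vec (pts.getD j 0) k =
      el (scal.getD j 0) * vec (pts.getD (ent b T j) 0) i)

/-- The listed vectors are normalised and have increasing codes. -/
noncomputable def ptsB (pts : List ℕ) : Bool :=
  (pts.all fun k => Nat.blt k 6561 && decide (∃ i : Fin 4, vec k i = 1 ∧ ∀ j : Fin 4, j < i → vec k j = 0)) &&
    (List.range (pts.length - 1)).all fun j => Nat.blt (pts.getD j 0) (pts.getD (j + 1) 0)

theorem el_inj : ∀ c < 9, ∀ d < 9, el c = el d → c = d := by decide +kernel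

end Cfsg.Lib.PermAut.MclPsu
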