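import Cfsg.Agent.Lib.PermAut.MclPsuData
import Cfsg.Agent.Lib.PermAut.MclPsuField
import Cfsg.Agent.Lib.PermAut.RestrictAt
import Cfsg.Agent.Lib.PermAut.Split

/-!
# Checks of the unitary group on isotropic points
-/

set_option autoImplicit false
set_option maxRecDepth 100000
set_option Elab.async false

namespace Cfsg.Lib.PermAut.MclPsu

open Matrix

theorem line_rows0_0 :
    Split.rowsB 9 280 lineSub.lev
      ((lineSub.sg.headD []).take 3)
      ((lineSub.close.headD []).take 3) = true := by decide +kernel

theorem line_rows0_1 :
    Split.rowsB 9 280 lineSub.lev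
      (((lineSub.sg.headD []).drop 3).take 3)
      (((lineSub.close.headD []).drop 3).take 3) = true := by decide +kernel

theorem line_rows0_2 :
    Split.rowsB 9 280 lineSub.lev
      ((lineSub.sg.headD []).drop 6)
      ((lineSub.close.headD []).drop 6) = true := by decide +kernel

theorem line_rows0 : Split.rowsB 9 280 lineSub.lev (lineSub.sg.headD []) (lineSub.close.headD []) = true := by
  refine Split.all2_take_drop 3 line_rows0_0 ?_
  refine Split.all2_take_drop 3 line_rows0_1 ?_
  simp only [List.drop_drop, Nat.reduceAdd]
  exact line_rows0_2

theorem line_rows1_0 :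
    Split.rowsB 9 280 lineSub.lev.tail
      ((lineSub.sg.tail.headD []).take 3)
      ((lineSub.close.tail.headD []).take 3) = true := by decide +kernel

theorem line_rows1_1 :
    Split.rowsB 9 280 lineSub.lev.tail
      ((lineSub.sg.tail.headD []).drop 3)
      ((lineSub.close.tail.headD []).drop 3) = true := by decide +kernel

theorem line_rows1 : Split.rowsB 9 280 lineSub.lev.tail (lineSub.sg.tail.headD []) (lineSub.close.tail.headD []) = true := by
  refine Split.all2_take_drop 3 line_rows1_0 ?_
  exact line_rows1_1

theorem line_tree : (Split.treeB 9 280 lineSub.lev lineSub.sg lineSub.par lineSub.close &&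
    Split.treeB 9 280 lineSub.lev.tail lineSub.sg.tail lineSub.par.tail lineSub.close.tail) = true := by decide +kernel

theorem line_low : closedB 9 280 lineSub.lev.tail.tail lineSub.sg.tail.tail
    lineSub.par.tail.tail lineSub.close.tail.tail = true := by decide +kernel

theorem line_pre : Split.preB lineSub 9 280 = true := by decide +kernel

theorem line_base : Split.baseB lineSub 9 280 = true := by decide +kernel

theorem line_ok : lineSub.ok 9 280 = true := by
  have h := line_tree
  rw [Bool.and_eq_true] at h
  exact Split.ok_of_parts line_pre (Split.closedB_of h.1 line_rows0 (Split.closedB_of h.2 line_rows1 line_low)) line_base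

theorem sizes : stabSub.size = 3265920 ∧ pairSub.size = 3265920 ∧ lineSub.size = 3265920 := by decide +kernel

theorem rest_line_ok : (restAtB 10 9 280 275 pairSub.g0 lineSub.g0 && restAtB 10 9 280 275 pairSub.g1 lineSub.g1) = true := by
  decide +kernel

theorem pts_ok : (ptsB ptsCode && Nat.beq ptsCode.length 280) = true := by decide +kernel

theorem act_x : actB matX ptsCode scalX 9 lineSub.g0 = true := by decide +kernel

theorem act_y : actB matY ptsCode scalY 9 lineSub.g1 = true := by decide +kernel

theorem unit_x : (mat matX).det = 1 ∧ (mat matX)ᵀ * (mat matX).map (fun x => x ^ 3) = 1 := by decide +kernel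

theorem unit_y : (mat matY).det = 1 ∧ (mat matY)ᵀ * (mat matY).map (fun x => x ^ 3) = 1 := by decide +kernel

end Cfsg.Lib.PermAut.MclPsu
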