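import Cfsg.Agent.Lib.PermAut.Mcl
import Cfsg.Agent.Lib.PermAut.MclPsuCheck
import Cfsg.Agent.Lib.PermAut.MclPsuLineCheck
import Cfsg.Agent.Lib.Linear.PSUFourSeven
import Cfsg.Agent.Lib.MinusSix.Main
import Cfsg.Agent.Lib.Concrete.LeechMcl275
import Cfsg.Agent.S1575
import Cfsg.Agent.S1580

/-!
# The point stabiliser of the McLaughlin group is the unitary group
-/

set_option autoImplicit false
set_option maxRecDepth 100000

namespace Cfsg.Lib.PermAut.MclPsu

open Cfsg Cfsg.Lib.PermAut Equiv MulAction Cfsg.Lib.Concrete Mcl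
open scoped Matrix
open Cfsg.Lib.Linear.PSUFourSeven (toEnd toEnd_apply center_scalar mem_center_of_scalar card_PSU)

instance : NeZero 275 := ⟨by norm_num⟩
instance : NeZero 280 := ⟨by norm_num⟩
instance : NeZero 555 := ⟨by norm_num⟩

theorem exists_equiv_act {G Ω : Type*} [Group G] [Finite G] [MulAction G Ω] (c : Cert) [NeZero c.N]
    (hg : c.genB = true) (hG : Nat.card G = c.size) (P : Fin c.N → Ω) (hP : Function.Injective P) (sA sC sD : G)
    (hA : ∀ x, sA • P x = P (c.P c.a x)) (hC : ∀ x, sC • P x = P (c.P c.c x))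
    (hD : ∀ x, sD • P x = P (c.P c.d x)) :
    ∃ e : G ≃* c.K, ∀ g x, g • P x = P ((e g : Perm (Fin c.N)) x) := by
  let T : Subgroup (G × Perm (Fin c.N)) := Subgroup.closure {(sA, c.P c.a), (sC, c.P c.c), (sD, c.P c.d)}
  have hT : T ≤ actPairs P := by
    rw [Subgroup.closure_le]
    rintro u (rfl | rfl | rfl)
    exacts [hA, hC, hD]
  let p1 : T →* G := (MonoidHom.fst G _).comp T.subtype
  let p2 : T →* Perm (Fin c.N) := (MonoidHom.snd G _).comp T.subtype
  have h1 : Function.Injective p1 := (injective_iff_map_eq_one p1).2 fun u hu => by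
    refine Subtype.ext (Prod.ext hu (Equiv.ext fun x => hP ?_))
    have := hT u.2 x
    rw [show (u : G × Perm (Fin c.N)).1 = 1 from hu, one_smul] at this
    exact this.symm
  have hr : p2.range = c.K := by
    rw [MonoidHom.range_comp, Subgroup.range_subtype,
      MonoidHom.map_closure, Cert.K]
    simp [Set.image_insert_eq]
  haveI : Finite T := Finite.of_injective p1 h1
  have hle : Nat.card c.K ≤ Nat.card T := by
    rw [← hr]
    exact Nat.card_le_card_of_surjective p2.rangeRestrict p2.rangeRestrict_surjective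
  have hTG : Nat.card T ≤ Nat.card G := Nat.card_le_card_of_injective p1 h1
  have hlow := Cert.size_le (Cert.gen_of_check hg)
  have b1 : Function.Bijective p1 := (Nat.bijective_iff_injective_and_card _).2 ⟨h1, by omega⟩
  have b2 : Function.Bijective p2.rangeRestrict := by
    refine (Nat.bijective_iff_surjective_and_card _).2 ⟨p2.rangeRestrict_surjective, ?_⟩
    rw [hr]; omega
  refine ⟨(MulEquiv.ofBijective p1 b1).symm.trans
    ((MulEquiv.ofBijective p2.rangeRestrict b2).trans (MulEquiv.subgroupCongr hr)), fun g x => ?_⟩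
  obtain ⟨u, rfl⟩ := b1.2 g
  rw [MulEquiv.trans_apply, show (MulEquiv.ofBijective p1 b1).symm (p1 u) = u from
    (MulEquiv.ofBijective p1 b1).symm_apply_apply u]
  exact hT u.2 x

/-- The vectors of the first pair. -/
noncomputable def vV : leechLattice := Spor.leechV

/-- The pair stabiliser. -/
noncomputable def GG : Subgroup ↥Co0 := stabilizer ↥Co0 Spor.leechV ⊓ stabilizer ↥Co0 Spor.leechU

theorem card_GG : Nat.card ↥GG = cert.size := by
  have e : Spor.McL = GG.map Co0.subtype := (map_stab_pair _ _).symm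
  have h := card_mcl_spor
  rw [e, card_sub_co0] at h
  rw [h]
  decide +kernel

/-- The points. -/
noncomputable def pt (x : Fin cert.N) : leechLattice := keyL (ptKeys.getD x 0)

theorem gg_model : ∃ e : ↥GG ≃* cert.K, ∀ g x, g • pt x = pt ((e g : Perm (Fin cert.N)) x) := by
  obtain ⟨hA, hC, hD⟩ := mat_check
  obtain ⟨hk, hlen⟩ := key_check
  haveI : Finite ↥GG := Nat.finite_of_card_ne_zero (by rw [card_GG]; decide +kernel)
  have G := Cert.gen_of_check Mcl.gen_check
  let el : ∀ {m : List (List ℤ)}, matOkB m [0x377777777777777777777777, 0xc8888888888888888888888c] = true →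
      ↥GG := fun {m} hm => ⟨matCo0 m (matOk_of hm), by
    refine ⟨?_, ?_⟩
    · show matCo0 m _ • Spor.leechV = Spor.leechV
      rw [← fix_keys.1]; exact fix_of_check fix_key_check hm (matOk_of hm) (by simp)
    · show matCo0 m _ • Spor.leechU = Spor.leechU
      rw [← fix_keys.2]; exact fix_of_check fix_key_check hm (matOk_of hm) (by simp)⟩
  exact exists_equiv_act cert Mcl.gen_check card_GG pt
    (fun i j h => Fin.ext (keyL_inj hk (hlen.symm ▸ i.isLt) (hlen.symm ▸ j.isLt) h))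
    (el hA) (el hC) (el hD)
    (fun x => moves_plain hk hlen hA move_check.1 G.a x)
    (fun x => moves_plain hk hlen hC move_check.2.1 G.c x)
    (fun x => moves_plain hk hlen hD move_check.2.2 G.d x)

theorem stab_valid : stabSub.Valid 9 275 := Sub.valid stab_ok

/-- The point stabiliser of the certified group. -/
noncomputable def KS : Subgroup (Perm (Fin 275)) := (cert.K : Subgroup (Perm (Fin 275))) ⊓ stabilizer _ (38 : Fin 275)

theorem ks_eq : KS = stabSub.grp 9 275 := by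
  have G := Cert.gen_of_check Mcl.gen_check
  have h := place_ok
  simp only [Bool.and_eq_true, Nat.beq_eq] at h
  obtain ⟨⟨⟨⟨⟨p0, s0⟩, p1⟩, s1⟩, f0⟩, f1⟩ := h
  have key : ∀ {T : ℕ} {u : List ℕ}, Rep 9 (toP 9 275 T) T → pathOk cert.tr u = true →
      sameB 9 275 [T] (pickPath cert.tr u) = true → ent 9 T 38 = 38 → toP 9 275 T ∈ KS := fun {T u} hT hu hs hf => by
    have hg : ∀ S ∈ pickPath cert.tr u, Rep 9 (toP 9 275 S) S ∧ toP 9 275 S ∈ (cert.K : Subgroup (Perm (Fin 275))) :=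
      fun S hS => by
        obtain ⟨l, hl, h'⟩ := mem_of_forall₂ (forall₂_pick hu) S hS
        exact G.rep l hl S h'
    have e := eq_of_sameB (b := 9) (N := 275) (l := [T]) (by simpa using hT) (fun S hS => (hg S hS).1) hs
    rw [List.map_singleton, List.prod_singleton] at e
    refine ⟨?_, Fin.ext ((hT _).trans hf)⟩
    rw [e]
    exact Subgroup.list_prod_mem _ fun x hx => by
      obtain ⟨S, hS, rfl⟩ := List.mem_map.1 hx
      exact (hg S hS).2
  have hle : stabSub.grp 9 275 ≤ KS := by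
    rw [Sub.grp, Subgroup.closure_le]
    rintro x (rfl | rfl)
    · exact key stab_valid.g0 p0 s0 f0
    · exact key stab_valid.g1 p1 s1 f1
  refine (Subgroup.eq_of_le_of_card_ge hle ?_).symm
  let K : Subgroup (Perm (Fin 275)) := cert.K
  have hKc : Nat.card K = 275 * 3265920 := by
    obtain ⟨e, -⟩ := gg_model
    rw [show Nat.card K = Nat.card ↥GG from (Nat.card_congr e.toEquiv).symm, card_GG]
    decide +kernel
  have htr : cert.tr.headD [] ∈ cert.tr := by
    have hh : cert.tr = cert.tr.headD [] :: cert.tr.tail := by decide +kernel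
    rw [hh]
    exact List.mem_cons_self ..
  have horb : orbit ↥K (38 : Fin 275) = Set.univ := by
    refine Set.eq_univ_of_forall fun x => ?_
    have hc := cover_ok
    simp only [List.all_eq_true, List.mem_range, List.any_eq_true, Nat.beq_eq] at hc
    obtain ⟨T, hT, hTx⟩ := hc x x.isLt
    obtain ⟨hR, hK⟩ := G.rep _ htr T hT
    exact ⟨⟨toP 9 275 T, hK⟩, Fin.ext ((hR _).trans hTx)⟩
  have hst : Nat.card ↥KS = Nat.card ↥(stabilizer ↥K (38 : Fin 275)) :=
    Nat.card_congr ⟨fun g => ⟨⟨g.1, g.2.1⟩, g.2.2⟩, fun g => ⟨g.1.1, g.1.2, g.2⟩, fun _ => rfl, fun _ => rfl⟩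
  have hi := (stabilizer ↥K (38 : Fin 275)).card_mul_index
  rw [index_stabilizer, horb, Set.ncard_univ, Nat.card_fin, hKc, ← hst] at hi
  rw [stab_valid.card, sizes.1]
  omega

/-! ### The unitary group on isotropic points -/

theorem cube_add : ∀ x y : R9, (x + y) ^ 3 = x ^ 3 + y ^ 3 := by decide +kernel

theorem herm_of {M : Matrix (Fin 4) (Fin 4) R9} (h : Mᵀ * M.map (fun x => x ^ 3) = 1) (u v : Fin 4 → R9) :
    hermForm 4 R9 3 (M *ᵥ u) (M *ᵥ v) = hermForm 4 R9 3 u v := by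
  have hm : (fun i => (M *ᵥ v) i ^ 3) = M.map (fun x => x ^ 3) *ᵥ fun i => v i ^ 3 := by
    ext1 i
    simp only [Matrix.mulVec, dotProduct, Fin.sum_univ_four, Matrix.map_apply, cube_add, mul_pow]
  show (M *ᵥ u) ⬝ᵥ (fun i => (M *ᵥ v) i ^ 3) = u ⬝ᵥ fun i => v i ^ 3
  rw [hm, Matrix.dotProduct_mulVec, Matrix.vecMul_mulVec, h, Matrix.vecMul_one]

/-- The matrix of an element. -/
noncomputable def mm : ↥(SU 4 R9 3) →* Matrix (Fin 4) (Fin 4) R9 := (slToMat 4 R9).comp (SU 4 R9 3).subtype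

/-- The first unitary matrix. -/
noncomputable def suX : ↥(SU 4 R9 3) := ⟨⟨mat matX, unit_x.1⟩, herm_of unit_x.2⟩

/-- The second unitary matrix. -/
noncomputable def suY : ↥(SU 4 R9 3) := ⟨⟨mat matY, unit_y.1⟩, herm_of unit_y.2⟩

/-- The isotropic points. -/
def ip (j : Fin 280) : Fin 4 → R9 := vec (ptsCode.getD j 0)

theorem ip_norm (j : Fin 280) : ptsCode.getD j 0 < 6561 ∧ ∃ i, ip j i = 1 ∧ ∀ k, k < i → ip j k = 0 := by
  have h := pts_ok
  simp only [ptsB, Bool.and_eq_true, List.all_eq_true, Nat.blt, Nat.ble_eq, Nat.beq_eq, decide_eq_true_eq] at h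
  obtain ⟨⟨h1, -⟩, hl⟩ := h
  refine h1 _ ?_
  rw [List.getD_eq_getElem _ _ (hl.symm ▸ j.isLt)]
  exact List.getElem_mem _

theorem code_inj {j k : Fin 280} (h : ptsCode.getD j 0 = ptsCode.getD k 0) : j = k := by
  have hp := pts_ok
  simp only [ptsB, Bool.and_eq_true, List.all_eq_true, List.mem_range, Nat.blt, Nat.ble_eq, Nat.beq_eq] at hp
  obtain ⟨⟨-, h2⟩, hl⟩ := hp
  have mono : ∀ a b, a < b → b < 280 → ptsCode.getD a 0 < ptsCode.getD b 0 := by
    intro a b hab
    induction b with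
    | zero => exact absurd hab (Nat.not_lt_zero _)
    | succ b ih =>
      intro hb
      have hs := h2 b (by omega)
      rcases Nat.lt_or_eq_of_le (Nat.le_of_lt_succ hab) with h' | rfl
      · exact (ih h' (by omega)).trans hs
      · exact hs
  rcases lt_trichotomy (j : ℕ) k with h' | h' | h'
  · exact absurd h (mono _ _ h' k.isLt).ne
  · exact Fin.ext h'
  · exact absurd h (mono _ _ h' j.isLt).ne'

theorem vec_inj {a b : ℕ} (ha : a < 6561) (hb : b < 6561) (h : vec a = vec b) : a = b := by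
  have key : ∀ i : Fin 4, a / 9 ^ (i : ℕ) % 9 = b / 9 ^ (i : ℕ) % 9 := fun i => by
    refine el_inj _ (Nat.mod_lt _ (by norm_num)) _ (Nat.mod_lt _ (by norm_num)) ?_
    have e : ∀ c, el (c % 9) = el c := fun c => by
      simp only [el, show c % 9 % 3 = c % 3 by omega, show c % 9 / 3 % 3 = c / 3 % 3 by omega]
    rw [e, e]
    exact congrFun h i
  have h0 := key 0; have h1 := key 1; have h2 := key 2; have h3 := key 3
  simp only [Fin.val_zero, Fin.val_one, Fin.val_two, show ((3 : Fin 4) : ℕ) = 3 from rfl] at h0 h1 h2 h3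
  omega

theorem ip_smul {j k : Fin 280} {c : R9} (h : ip j = c • ip k) : j = k := by
  obtain ⟨hj, i, hi, hi0⟩ := ip_norm j
  obtain ⟨hk, i', hi', hi0'⟩ := ip_norm k
  have hc : c = 1 := by
    rcases lt_trichotomy i i' with hlt | rfl | hlt
    · rw [h, Pi.smul_apply, hi0' i hlt, smul_zero] at hi
      exact absurd hi zero_ne_one
    · rwa [h, Pi.smul_apply, hi', smul_eq_mul, mul_one] at hi
    · have := hi0 i' hlt
      rw [h, Pi.smul_apply, hi', smul_eq_mul, mul_one] at this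
      rw [h, this, zero_smul] at hi
      exact absurd hi zero_ne_one
  rw [hc, one_smul] at h
  exact code_inj (vec_inj hj hk h)

theorem ip_ne (j : Fin 280) : ip j ≠ 0 := fun h => by
  obtain ⟨-, i, hi, -⟩ := ip_norm j
  rw [h] at hi
  exact zero_ne_one hi

/-- The pairs of a matrix and its permutation of the points. -/
noncomputable def linePairs : Subgroup (↥(SU 4 R9 3) × Perm (Fin 280)) where
  carrier := {u | ∀ j, ∃ c : R9, c ≠ 0 ∧ mm u.1 *ᵥ ip j = c • ip (u.2 j)}
  one_mem' := fun j => ⟨1, one_ne_zero, by simp⟩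
  mul_mem' {u v} hu hv := fun j => by
    obtain ⟨c, hc, e⟩ := hv j
    obtain ⟨d, hd, e'⟩ := hu (v.2 j)
    exact ⟨c * d, mul_ne_zero hc hd, by
      rw [Prod.fst_mul, Prod.snd_mul, map_mul, ← Matrix.mulVec_mulVec, e, Matrix.mulVec_smul, e', smul_smul,
        Perm.mul_apply]⟩
  inv_mem' {u} hu := fun j => by
    obtain ⟨c, hc, e⟩ := hu (u.2⁻¹ j)
    refine ⟨c⁻¹, inv_ne_zero hc, ?_⟩
    rw [show u.2 (u.2⁻¹ j) = j from Equiv.apply_symm_apply _ _] at e
    have h := congrArg (mm u.1⁻¹ *ᵥ ·) e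
    simp only [Matrix.mulVec_mulVec, ← map_mul, inv_mul_cancel, map_one, Matrix.one_mulVec, Matrix.mulVec_smul] at h
    rw [Prod.fst_inv, Prod.snd_inv, h, smul_smul, inv_mul_cancel₀ hc, one_smul]

theorem pairs_of_act {g : ↥(SU 4 R9 3)} {m : List (List ℕ)} {scal : List ℕ} {T : ℕ} (hg : mm g = mat m)
    (h : actB m ptsCode scal 9 T = true) (hT : Rep 9 (toP 9 280 T) T) : (g, toP 9 280 T) ∈ linePairs := by
  have hl : ptsCode.length = 280 := by
    have := pts_ok
    simp only [Bool.and_eq_true, Nat.beq_eq] at this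
    exact this.2
  simp only [actB, List.all_eq_true, List.mem_range, Bool.and_eq_true, decide_eq_true_eq, hl] at h
  intro j
  obtain ⟨hne, he⟩ := h j j.isLt
  refine ⟨el (scal.getD j 0), hne, funext fun i => ?_⟩
  rw [hg, Pi.smul_apply, smul_eq_mul, ip, ip, hT]
  exact he i

/-- The frame. -/
def frameP : Matrix (Fin 4) (Fin 4) R9 := Matrix.of fun i k => vec ([37, 73, 2997, 5913].getD k 0) i

/-- The inverse of the frame. -/
def frameQ : Matrix (Fin 4) (Fin 4) R9 := mat [[2, 7, 0, 0], [2, 5, 0, 0], [0, 0, 2, 7], [0, 0, 2, 5]]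

theorem frame_facts : frameP * frameQ = 1 ∧ frameQ * frameP = 1 ∧ (∀ i, (frameQ *ᵥ vec 91) i ≠ 0) ∧
    [37, 73, 2997, 5913, 91].map some = [0, 3, 114, 247, 4].map fun j => ptsCode[j]? := by decide +kernel

theorem scalar_of_fix (M : Matrix (Fin 4) (Fin 4) R9) (h : ∀ j, ∃ c : R9, M *ᵥ ip j = c • ip j) :
    ∃ c : R9, M = Matrix.scalar (Fin 4) c := by
  obtain ⟨hPQ, hQP, hw, hix⟩ := frame_facts
  simp only [List.map_cons, List.map_nil, List.cons.injEq, and_true] at hix
  obtain ⟨i0, i1, i2, i3, i4⟩ := hix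
  have hv : ∀ (j : Fin 280) (k : ℕ), ptsCode[(j : ℕ)]? = some k → ∃ c : R9, M *ᵥ vec k = c • vec k := fun j k hk => by
    obtain ⟨c, hc⟩ := h j
    rw [ip, List.getD_eq_getElem?_getD, hk] at hc
    exact ⟨c, hc⟩
  obtain ⟨c5, h5⟩ := hv 4 91 i4.symm
  have hcol : ∀ k : Fin 4, ∃ c : R9, M *ᵥ vec ([37, 73, 2997, 5913].getD k 0) = c • vec ([37, 73, 2997, 5913].getD k 0) := by
    intro k
    fin_cases k
    exacts [hv 0 37 i0.symm, hv 3 73 i1.symm, hv 114 2997 i2.symm, hv 247 5913 i3.symm]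
  choose d hd using hcol
  have hMP : M * frameP = frameP * Matrix.diagonal d := by
    refine Matrix.ext fun i k => ?_
    rw [Matrix.mul_diagonal]
    exact ((congrFun (hd k) i).trans (mul_comm _ _) : (M *ᵥ _) i = _)
  have hdiag : Matrix.diagonal d *ᵥ (frameQ *ᵥ vec 91) = c5 • (frameQ *ᵥ vec 91) := by
    have e : frameP *ᵥ (Matrix.diagonal d *ᵥ (frameQ *ᵥ vec 91)) = c5 • vec 91 := by
      rw [Matrix.mulVec_mulVec, ← hMP, ← Matrix.mulVec_mulVec, Matrix.mulVec_mulVec (vec 91) frameP, hPQ,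
        Matrix.one_mulVec, h5]
    have e' := congrArg (frameQ *ᵥ ·) e
    simpa only [Matrix.mulVec_mulVec, Matrix.mulVec_smul, ← Matrix.mul_assoc, hQP, Matrix.one_mul] using e'
  have hdc : d = fun _ => c5 := funext fun i => by
    have := congrFun hdiag i
    rw [Matrix.mulVec_diagonal, Pi.smul_apply, smul_eq_mul] at this
    exact mul_right_cancel₀ (hw i) this
  refine ⟨c5, ?_⟩
  calc M = M * frameP * frameQ := by rw [Matrix.mul_assoc, hPQ, Matrix.mul_one]
    _ = frameP * Matrix.scalar (Fin 4) c5 * frameQ := by rw [hMP, hdc]; rfl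
    _ = Matrix.scalar (Fin 4) c5 * (frameP * frameQ) := by
      rw [← (Matrix.scalar_commute c5 (fun r => Commute.all c5 r) frameP).eq, Matrix.mul_assoc]
    _ = _ := by rw [hPQ, Matrix.mul_one]

theorem line_equiv : Nonempty (↥(lineSub.grp 9 280) ≃* PSU 4 R9 3) := by
  have V := Sub.valid (b := 9) (N := 280) line_ok
  let T : Subgroup (↥(SU 4 R9 3) × Perm (Fin 280)) :=
    Subgroup.closure {(suX, toP 9 280 lineSub.g0), (suY, toP 9 280 lineSub.g1)}
  have hT : T ≤ linePairs := by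
    rw [Subgroup.closure_le]
    rintro u (rfl | rfl)
    · exact pairs_of_act (g := suX) rfl act_x V.g0
    · exact pairs_of_act (g := suY) rfl act_y V.g1
  let p1 : T →* ↥(SU 4 R9 3) := (MonoidHom.fst _ _).comp T.subtype
  let p2 : T →* Perm (Fin 280) := (MonoidHom.snd _ _).comp T.subtype
  let q : T →* PSU 4 R9 3 := (QuotientGroup.mk' (Subgroup.center ↥(SU 4 R9 3))).comp p1
  have hend : ∀ (g : ↥(SU 4 R9 3)) (x : Fin 4 → R9), toEnd g x = mm g *ᵥ x := fun g x => toEnd_apply g x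
  have hker : q.ker = p2.ker := by
    ext u
    rw [MonoidHom.mem_ker, MonoidHom.mem_ker,
      show q u = (QuotientGroup.mk (p1 u) : PSU 4 R9 3) from rfl, QuotientGroup.eq_one_iff]
    constructor
    · intro hz
      obtain ⟨c, hc4, hc⟩ := center_scalar card_r9 hz
      refine Equiv.ext fun j => ?_
      obtain ⟨d, hd, e⟩ := hT u.2 j
      have e1 : mm (p1 u) *ᵥ ip j = c • ip j := by rw [← hend, hc]; rfl
      have e2 : c • ip j = d • ip (p2 u j) := e1.symm.trans e
      have e3 : ip (p2 u j) = (d⁻¹ * c) • ip j := by rw [← smul_smul, e2, inv_smul_smul₀ hd]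
      exact ip_smul e3
    · intro hp
      obtain ⟨c, hc⟩ := scalar_of_fix (mm (p1 u)) fun j => by
        obtain ⟨d, -, e⟩ := hT u.2 j
        rw [show (u : ↥(SU 4 R9 3) × Perm (Fin 280)).2 = 1 from hp] at e
        exact ⟨d, e⟩
      refine mem_center_of_scalar (a := c) (LinearMap.ext fun x => ?_)
      rw [hend, hc]
      funext i
      simp [Matrix.mulVec_diagonal]
  have hr : p2.range = lineSub.grp 9 280 := by
    rw [MonoidHom.range_comp, Subgroup.range_subtype, MonoidHom.map_closure, Sub.grp]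
    simp [Set.image_insert_eq]
  let e : ↥p2.range ≃* ↥q.range := (QuotientGroup.quotientKerEquivRange p2).symm.trans
    ((QuotientGroup.quotientMulEquivOfEq hker.symm).trans (QuotientGroup.quotientKerEquivRange q))
  have hc : Nat.card ↥q.range = Nat.card (PSU 4 R9 3) := by
    rw [← Nat.card_congr e.toEquiv, hr, V.card, sizes.2.2, card_PSU card_r9]
  haveI : Finite (PSU 4 R9 3) := Nat.finite_of_card_ne_zero (by rw [card_PSU card_r9]; norm_num)
  have htop : q.range = ⊤ := Subgroup.eq_top_of_card_eq _ hc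
  exact ⟨(MulEquiv.subgroupCongr hr.symm).trans (e.trans ((MulEquiv.subgroupCongr htop).trans Subgroup.topEquiv))⟩

theorem ks_equiv : Nonempty (↥KS ≃* PSU 4 R9 3) := by
  obtain ⟨eL⟩ := line_equiv
  have VP := Sub.valid (b := 10) (N := 555) pair_ok
  have VS := stab_valid
  have VL := Sub.valid (b := 9) (N := 280) line_ok
  have h := rest_ok
  have h' := rest_line_ok
  rw [Bool.and_eq_true] at h h'
  obtain ⟨ψ, -, hψ, -⟩ := exists_restrict_at VP (M := 275) (off := 0) (by norm_num) VS.g0 VS.g1 h.1 h.2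
  obtain ⟨φ, -, hφ, -⟩ := exists_restrict_at VP (M := 280) (off := 275) (by norm_num) VL.g0 VL.g1 h'.1 h'.2
  have hinj : ∀ {M : ℕ} [NeZero M] (f : ↥(pairSub.grp 10 555) →* Perm (Fin M)),
      Nat.card f.range = 3265920 → Function.Injective f := fun {M} _ f hf => by
    have h := f.ker.card_mul_index
    rw [Subgroup.index_ker, hf, VP.card, sizes.2.1] at h
    rw [← MonoidHom.ker_eq_bot_iff, ← Subgroup.card_eq_one]
    omega
  have hψc : Nat.card ψ.range = 3265920 := by
    rw [hψ, ← Sub.grp, VS.card, sizes.1]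
  have hφc : Nat.card φ.range = 3265920 := by
    rw [hφ, ← Sub.grp, VL.card, sizes.2.2]
  let e1 : ↥(pairSub.grp 10 555) ≃* ↥(stabSub.grp 9 275) :=
    (MonoidHom.ofInjective (hinj ψ hψc)).trans (MulEquiv.subgroupCongr hψ)
  let e2 : ↥(pairSub.grp 10 555) ≃* ↥(lineSub.grp 9 280) :=
    (MonoidHom.ofInjective (hinj φ hφc)).trans (MulEquiv.subgroupCongr hφ)
  exact ⟨(MulEquiv.subgroupCongr ks_eq).trans (e1.symm.trans (e2.trans eL))⟩

/-- The standard point. -/
noncomputable def x0 : leechLattice := pt ⟨38, by decide +kernel⟩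

theorem std_equiv : Nonempty (↥(stabilizer ↥Co0 (-Spor.leechV) ⊓ stabilizer ↥Co0 Spor.leechU ⊓
    stabilizer ↥Co0 x0) ≃* PSU 4 R9 3) := by
  obtain ⟨e0⟩ := ks_equiv
  obtain ⟨e, he⟩ := gg_model
  obtain ⟨hk, hlen⟩ := key_check
  have hinj : Function.Injective pt := fun i j h =>
    Fin.ext (keyL_inj hk (hlen.symm ▸ i.isLt) (hlen.symm ▸ j.isLt) h)
  have hz : ∀ g : ↥Co0, g • (0 : leechLattice) = 0 := fun g => by
    have h := co0_add g 0 0
    rw [add_zero] at h
    simpa using h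
  have hneg : ∀ g : ↥Co0, g • (-Spor.leechV) = -Spor.leechV ↔ g • Spor.leechV = Spor.leechV := fun g => by
    have h := co0_add g (-Spor.leechV) Spor.leechV
    rw [neg_add_cancel, hz] at h
    rw [eq_neg_of_add_eq_zero_left h.symm, neg_inj]
  have hG : stabilizer ↥Co0 (-Spor.leechV) ⊓ stabilizer ↥Co0 Spor.leechU = GG := by
    ext g
    simp only [GG, Subgroup.mem_inf, mem_stabilizer_iff, hneg]
  rw [hG]
  let p : Fin cert.N := ⟨38, by decide +kernel⟩
  have hfix : ∀ g : ↥GG, (g : ↥Co0) • x0 = x0 ↔ (e g : Perm (Fin cert.N)) p = p := fun g =>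
    ⟨fun h => hinj ((he g p).symm.trans h), fun h => (he g p).trans (congrArg pt h)⟩
  let E : ↥(GG ⊓ stabilizer ↥Co0 x0) ≃* ↥KS :=
    { toFun := fun g => ⟨(e ⟨g.1, g.2.1⟩).1, (e ⟨g.1, g.2.1⟩).2, (hfix ⟨g.1, g.2.1⟩).1 g.2.2⟩
      invFun := fun h => ⟨(e.symm ⟨h.1, h.2.1⟩).1, (e.symm ⟨h.1, h.2.1⟩).2,
        (hfix _).2 (by rw [MulEquiv.apply_symm_apply]; exact h.2.2)⟩
      left_inv := fun g => Subtype.ext (congrArg (fun z : ↥GG => (z : ↥Co0)) (e.symm_apply_apply ⟨g.1, g.2.1⟩))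
      right_inv := fun h => Subtype.ext (congrArg (fun z : ↥cert.K => (z : Perm (Fin cert.N))) (e.apply_symm_apply ⟨h.1, h.2.1⟩))
      map_mul' := fun a b => Subtype.ext (congrArg (fun z : ↥cert.K => (z : Perm (Fin cert.N))) (e.map_mul ⟨a.1, a.2.1⟩ ⟨b.1, b.2.1⟩)) }
  exact ⟨E.trans e0⟩

theorem std_vals : sqNorm ((-Spor.leechV : leechLattice) : GolayPt → ℤ) = 48 ∧
    sqNorm (Spor.leechU : GolayPt → ℤ) = 32 ∧
    dotInt ((-Spor.leechV : leechLattice) : GolayPt → ℤ) (Spor.leechU : GolayPt → ℤ) = 24 ∧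
    x0 ∈ mclSet (-Spor.leechV) Spor.leechU := by
  obtain ⟨hk, hlen⟩ := key_check
  have hx : ((x0 : leechLattice) : GolayPt → ℤ) = codeVec (ptKeys.getD 38 0) := keyL_val (by
    refine ((keysOk_spec hk).2 _ ?_).2
    rw [List.getD_eq_getElem _ _ (show 38 < ptKeys.length by rw [hlen]; decide +kernel)]
    exact List.getElem_mem _)
  have hn : sqNorm (-Spor.vecV) = 48 ∧ sqNorm Spor.vecU = 32 ∧ dotInt (-Spor.vecV) Spor.vecU = 24 ∧
      sqNorm (codeVec (ptKeys.getD 38 0)) = 32 ∧ sqNorm (-Spor.vecV - codeVec (ptKeys.getD 38 0)) = 32 ∧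
      dotInt Spor.vecU (codeVec (ptKeys.getD 38 0)) = 16 := by decide +kernel
  refine ⟨hn.1, hn.2.1, hn.2.2.1, ?_⟩
  simp only [mclSet, Set.mem_setOf_eq, AddSubgroup.coe_sub, hx]
  exact ⟨hn.2.2.2.1, hn.2.2.2.2.1, hn.2.2.2.2.2⟩

theorem stabilizer_smul (c : ↥Co0) (a : leechLattice) :
    stabilizer ↥Co0 (c • a) = (stabilizer ↥Co0 a).map (MulAut.conj c).toMonoidHom :=
  stabilizer_smul_eq_stabilizer_map_conj c a

theorem mcl_point_stabilizer (u v x : ↥leechLattice) (hu : sqNorm (u : GolayPt → ℤ) = 48)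
    (hv : sqNorm (v : GolayPt → ℤ) = 32 ∧ sqNorm ((u - v) : GolayPt → ℤ) = 32)
    (hx : x ∈ mclSet u v) (F : Type) [Field F] [Fintype F] (hF : Fintype.card F = 9) :
    Nonempty (↥(stabilizer ↥Co0 u ⊓ stabilizer ↥Co0 v ⊓ stabilizer ↥Co0 x) ≃* PSU 4 F 3) := by
  obtain ⟨hv1, hv2⟩ := hv
  obtain ⟨hu0, hv0, huv0, hx0⟩ := std_vals
  set U0 : leechLattice := -Spor.leechV
  set V0 : leechLattice := Spor.leechU
  have hdots : ∀ a b : ↥leechLattice, sqNorm (a : GolayPt → ℤ) = 48 → sqNorm (b : GolayPt → ℤ) = 32 →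
      sqNorm ((a - b) : GolayPt → ℤ) = 32 →
      dotInt (b : GolayPt → ℤ) ((a - b : ↥leechLattice) : GolayPt → ℤ) = -8 := fun a b h1 h2 h3 => by
    have h4 := h3
    rw [sqNorm_sub', h1, h2, dotInt_comm] at h4
    rw [AddSubgroup.coe_sub, sub_eq_add_neg, dotInt_add_right, dotInt_neg_right, dotInt_self, h2]
    omega
  have huv1 : sqNorm ((U0 : GolayPt → ℤ) - (V0 : GolayPt → ℤ)) = 32 := by
    rw [sqNorm_sub', hu0, hv0, huv0]; norm_num
  obtain ⟨g, hg⟩ := exists_smul_eq_of_moves (moves32 V0.2 hv0) (moves32 v.2 hv1)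
  have hd : dotInt (v : GolayPt → ℤ) ((g • (U0 - V0) : leechLattice) : GolayPt → ℤ) = -8 := by
    rw [← hg, co0_dot]
    exact hdots _ _ hu0 hv0 huv1
  obtain ⟨k, k1, k2⟩ := Cfsg.Agent.S1575.result v (g • (U0 - V0)) (u - v) hv1
    ((co0_sqNorm g _).trans (by rw [AddSubgroup.coe_sub]; exact huv1)) (by rw [AddSubgroup.coe_sub]; exact hv2)
    hd (hdots u v hu hv1 hv2)
  have kV : (k * g) • V0 = v := by rw [mul_smul, hg, k1]
  have kU : (k * g) • U0 = u := by
    have h3 : (k * g) • V0 + (k * g) • (U0 - V0) = v + (u - v) := by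
      rw [kV, mul_smul, k2]
    rwa [← co0_add, add_sub_cancel, add_sub_cancel] at h3
  have hX : (k * g) • x0 ∈ mclSet u v := by
    rw [← kU, ← kV]
    exact (mclSet_smul _).2 hx0
  obtain ⟨l, l1, l2, l3⟩ := (Cfsg.Agent.S1580.result u v hu ⟨hv1, hv2⟩).2 _ hX x hx
  obtain ⟨c, hc1, hc2, hc3⟩ : ∃ c : ↥Co0, c • U0 = u ∧ c • V0 = v ∧ c • x0 = x :=
    ⟨l * (k * g), by rw [mul_smul, kU, l1], by rw [mul_smul, kV, l2], by rw [mul_smul, l3]⟩
  subst hc1 hc2 hc3
  have hinj : Function.Injective (MulAut.conj c).toMonoidHom := (MulAut.conj c).injective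
  rw [stabilizer_smul, stabilizer_smul, stabilizer_smul, ← Subgroup.map_inf _ _ _ hinj,
    ← Subgroup.map_inf _ _ _ hinj]
  obtain ⟨e0⟩ := std_equiv
  obtain ⟨e1⟩ := Cfsg.Lib.MinusSix.psu_congr
    (FiniteField.ringEquivOfCardEq (K := R9) (K' := F) (by rw [card_r9, hF])) 4 3
  exact ⟨((Subgroup.equivMapOfInjective _ _ hinj).symm).trans (e0.trans e1)⟩

end Cfsg.Lib.PermAut.MclPsu
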