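import Cfsg.Agent.Lib.PermAut.Search

/-!
# Certificates for automorphisms of a permutation group on tables
-/

set_option autoImplicit false

namespace Cfsg.Lib.PermAut

noncomputable section

open Equiv

/-- The data of a certificate. -/
structure Cert where
  N : ℕ
  b : ℕ
  p : ℕ
  q : ℕ
  t : ℕ
  a : ℕ
  ai : ℕ
  c : ℕ
  ci : ℕ
  d : ℕ
  di : ℕ
  E : List ℕ
  steps : List (ℕ × ℕ)
  base : List ℕ
  trI : List (List ℕ)
  tr : List (List ℕ)
  chA : List (List (ℕ × ℕ × ℕ))
  chC : List (List (ℕ × ℕ × ℕ))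
  rels : List (List ℕ × ℕ)

/-- Distinctness of a list of numbers. -/
def nodupB : List ℕ → Bool
  | [] => true
  | x :: l => (l.all fun y => !(Nat.beq x y)) && nodupB l

theorem nodup_of_nodupB : ∀ {l : List ℕ}, nodupB l = true → l.Nodup
  | [], _ => List.nodup_nil
  | x :: l, h => by
    simp only [nodupB, Bool.and_eq_true, List.all_eq_true, Bool.not_eq_true'] at h
    exact List.nodup_cons.2 ⟨fun hx => by simpa using h.1 x hx, nodup_of_nodupB h.2⟩

/-- The values listed are the tables with the given indices. -/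
def trOk : List ℕ → List (List ℕ) → List (List ℕ) → Bool
  | _, [], [] => true
  | E, li :: is, l :: ls =>
    Nat.beq li.length l.length && ((List.range l.length).all fun k =>
      Nat.blt (li.getD k 0) E.length && Nat.beq (E.getD (li.getD k 0) 0) (l.getD k 0)) && trOk E is ls
  | _, _, _ => false

/-- Every level separates its point. -/
def sepOk (b : ℕ) : List (List ℕ) → List ℕ → Bool
  | [], _ => true
  | _ :: _, [] => false
  | l :: ls, x :: xs =>
    nodupB (l.map fun T => ent b T x) && ls.all (fun m => m.all fun T => Nat.beq (ent b T x) x) && sepOk b ls xs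

/-- The size counted by the levels. -/
def Cert.size (c : Cert) : ℕ := (c.tr.map List.length).prod

/-- The generators and the levels. -/
def Cert.genB (c : Cert) : Bool :=
  Nat.blt 0 c.N && invPairOk c.b c.N c.a c.ai && invPairOk c.b c.N c.c c.ci && invPairOk c.b c.N c.d c.di &&
  invPairOk c.b c.N (c.E.getD 0 0) (c.E.getD 0 0) && sameB c.b c.N [c.E.getD 0 0] [] &&
  Nat.beq (c.E.getD 1 0) c.a && Nat.beq (c.E.getD 2 0) c.c && Nat.beq (c.E.getD 3 0) c.d &&
  Nat.beq (c.E.getD 4 0) c.ai && Nat.beq (c.E.getD 5 0) c.ci && Nat.beq (c.E.getD 6 0) c.di &&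
  stepsOk c.b c.N c.E 7 c.steps && trOk c.E c.trI c.tr && (c.base.all fun x => Nat.blt x c.N) &&
  sepOk c.b c.tr c.base

theorem trOk_spec {E : List ℕ} : ∀ {is ls : List (List ℕ)}, trOk E is ls = true →
    ∀ l ∈ ls, ∀ T ∈ l, ∃ i < E.length, E.getD i 0 = T := by
  intro is
  induction is with
  | nil =>
    intro ls h l hl
    cases ls with
    | nil => simp at hl
    | cons _ _ => simp [trOk] at h
  | cons li is ih =>
    intro ls h
    cases ls with
    | nil => simp [trOk] at h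
    | cons m ms =>
      simp only [trOk, Bool.and_eq_true, List.all_eq_true, List.mem_range, Nat.blt, Nat.ble_eq, Nat.beq_eq] at h
      intro l hl T hT
      rcases List.mem_cons.1 hl with rfl | hl
      · obtain ⟨k, hk, rfl⟩ := List.getElem_of_mem hT
        obtain ⟨h1, h2⟩ := h.1.2 k hk
        exact ⟨_, h1, h2.trans (List.getD_eq_getElem _ _ hk)⟩
      · exact ih h.2 l hl T hT

theorem sepOk_spec {b : ℕ} : ∀ {tr : List (List ℕ)} {base : List ℕ}, sepOk b tr base = true →
    levelsOk b tr base = true ∧ ∀ l ∈ tr, l.Nodup := by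
  intro tr
  induction tr with
  | nil => intros; simp [levelsOk]
  | cons l ls ih =>
    intro base h
    obtain _ | ⟨x, xs⟩ := base
    · simp [sepOk] at h
    simp only [sepOk, Bool.and_eq_true] at h
    obtain ⟨⟨h1, h2⟩, h3⟩ := h
    obtain ⟨i1, i2⟩ := ih h3
    have hn := nodup_of_nodupB h1
    refine ⟨?_, fun m hm => (List.mem_cons.1 hm).elim (fun e => e ▸ hn.of_map _) (i2 m)⟩
    simp only [levelsOk, Bool.and_eq_true, List.all_eq_true, Bool.or_eq_true, Nat.beq_eq, Bool.not_eq_true']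
    refine ⟨⟨fun T hT S hS => ?_, by simpa [List.all_eq_true] using h2⟩, i1⟩
    by_cases e : T = S
    · exact Or.inl e
    · refine Or.inr (Bool.eq_false_iff.2 fun he => e (List.inj_on_of_nodup_map hn hT hS (Nat.eq_of_beq_eq_true he)))

variable (c : Cert) [NeZero c.N]

/-- The permutation of a table of the certificate. -/
noncomputable abbrev Cert.P (T : ℕ) : Perm (Fin c.N) := toP c.b c.N T

/-- The group of the certificate. -/
noncomputable def Cert.K : Subgroup (Perm (Fin c.N)) := Subgroup.closure {c.P c.a, c.P c.c, c.P c.d}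

variable {c}

/-- The facts supplied by the first check. -/
structure Cert.Gen (C : Cert) [NeZero C.N] : Prop where
  a : Rep C.b (C.P C.a) C.a
  ai : Rep C.b (C.P C.ai) C.ai
  ainv : C.P C.ai = (C.P C.a)⁻¹
  c : Rep C.b (C.P C.c) C.c
  ci : Rep C.b (C.P C.ci) C.ci
  cinv : C.P C.ci = (C.P C.c)⁻¹
  d : Rep C.b (C.P C.d) C.d
  rep : ∀ l ∈ C.tr, ∀ T ∈ l, Rep C.b (C.P T) T ∧ C.P T ∈ C.K
  card : (prodSet C.b C.N C.tr).card = C.size

theorem Cert.gen_of_check (h : c.genB = true) : c.Gen := by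
  simp only [Cert.genB, Bool.and_eq_true, Nat.beq_eq] at h
  obtain ⟨⟨⟨⟨⟨⟨⟨⟨⟨⟨⟨⟨⟨⟨⟨-, ha⟩, hc⟩, hd⟩, h0⟩, h0'⟩, e1⟩, e2⟩, e3⟩, e4⟩, e5⟩, e6⟩, hs⟩, htr⟩, hb⟩, hsep⟩ := h
  obtain ⟨a1, a2, a3⟩ := rep_of_invPairOk (N := c.N) ha
  obtain ⟨c1, c2, c3⟩ := rep_of_invPairOk (N := c.N) hc
  obtain ⟨d1, d2, d3⟩ := rep_of_invPairOk (N := c.N) hd
  obtain ⟨i1, -, -⟩ := rep_of_invPairOk (N := c.N) h0
  have hid : c.P (c.E.getD 0 0) = 1 := by
    have := eq_of_sameB (l := [c.E.getD 0 0]) (l' := []) (by simpa using i1) (by simp) h0'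
    simpa using this
  have kA : c.P c.a ∈ c.K := Subgroup.subset_closure (by simp)
  have kC : c.P c.c ∈ c.K := Subgroup.subset_closure (by simp)
  have kD : c.P c.d ∈ c.K := Subgroup.subset_closure (by simp)
  have hall := mem_of_stepsOk (b := c.b) (N := c.N) (K := c.K) (fun i hi => by
    interval_cases i
    · exact ⟨i1, (show c.P (c.E.getD 0 0) ∈ c.K by rw [hid]; exact one_mem _)⟩
    · rw [e1]; exact ⟨a1, kA⟩
    · rw [e2]; exact ⟨c1, kC⟩
    · rw [e3]; exact ⟨d1, kD⟩
    · rw [e4]; exact ⟨a2, a3 ▸ inv_mem kA⟩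
    · rw [e5]; exact ⟨c2, c3 ▸ inv_mem kC⟩
    · rw [e6]; exact ⟨d2, d3 ▸ inv_mem kD⟩) hs
  have hrep : ∀ l ∈ c.tr, ∀ T ∈ l, Rep c.b (c.P T) T ∧ c.P T ∈ c.K := fun l hl T hT => by
    obtain ⟨i, hi, rfl⟩ := trOk_spec htr l hl T hT
    exact hall i hi
  obtain ⟨hl, hn⟩ := sepOk_spec hsep
  exact ⟨a1, a2, a3, c1, c2, c3, d1, hrep, card_prodSet c.tr c.base (by simpa [Nat.blt] using hb)
    (fun l hl T hT => (hrep l hl T hT).1) hn hl⟩

theorem Cert.size_le (G : c.Gen) : c.size ≤ Nat.card c.K := by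
  rw [← G.card, ← Nat.card_eq_finsetCard]
  exact Nat.card_le_card_of_injective
    (fun x : prodSet c.b c.N c.tr => (⟨x.1, prodSet_subset c.tr (fun l hl T hT => (G.rep l hl T hT).2) _ x.2⟩ : c.K))
    fun x y e => Subtype.ext (congrArg (fun z : c.K => (z : Perm (Fin c.N))) e)

/-- Every element of the group is the product along a path. -/
theorem Cert.exists_rep_path (G : c.Gen) (hK : Nat.card c.K = c.size) {g : Perm (Fin c.N)} (hg : g ∈ c.K) :
    ∃ path : List ℕ, List.Forall₂ (fun T l => T ∈ l) path c.tr ∧ (path.map c.P).prod = g ∧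
      ∀ T ∈ path, Rep c.b (c.P T) T := by
  classical
  have heq : (↑(prodSet c.b c.N c.tr) : Set (Perm (Fin c.N))) = c.K := Set.eq_of_subset_of_ncard_le
    (fun x hx => prodSet_subset c.tr (fun l hl T hT => (G.rep l hl T hT).2) x hx)
    (by rw [Set.ncard_coe_finset, G.card, ← Nat.card_coe_set_eq]; exact hK.le)
  obtain ⟨path, hp, hpg⟩ := exists_path c.tr g (show g ∈ (↑(prodSet c.b c.N c.tr) : Set _) from heq ▸ hg)
  refine ⟨path, hp, hpg, ?_⟩
  intro T hT
  obtain ⟨l, hl, hTl⟩ : ∃ l ∈ c.tr, T ∈ l := by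
    clear hpg heq hg hK G
    generalize c.tr = tr at hp ⊢
    induction hp with
    | nil => simp at hT
    | cons h _ ih =>
      rcases List.mem_cons.1 hT with rfl | hT
      · exact ⟨_, List.mem_cons_self .., h⟩
      · obtain ⟨l, hl, h'⟩ := ih hT
        exact ⟨l, List.mem_cons_of_mem _ hl, h'⟩
  exact (G.rep l hl T hTl).1

/-- The solutions of a conjugation equation in the group are found by the search. -/
theorem Cert.found (G : c.Gen) (hK : Nat.card c.K = c.size) {P Q : ℕ} {g p q : Perm (Fin c.N)} (hP : Rep c.b p P)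
    (hQ : Rep c.b q Q) (hg : g ∈ c.K) (hgpq : g * p = q * g) {cs : List (List (ℕ × ℕ × ℕ))}
    (hcs : checksOk c.b c.N P c.tr cs = true) :
    ∃ path ∈ search c.b c.N P Q c.tr cs [], (path.map c.P).prod = g ∧ ∀ T ∈ path, Rep c.b (c.P T) T := by
  obtain ⟨path, hp, hpg, hrep⟩ := Cert.exists_rep_path G hK hg
  refine ⟨path, ?_, hpg, hrep⟩
  have := search_complete hP hQ hgpq c.tr cs [] path hp hcs fun x => by
    rw [← hpg]; exact ev_rep hrep x
  simpa using this

end

end Cfsg.Lib.PermAut
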