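import Cfsg.Agent.Lib.PermAut.Sub
import Cfsg.Agent.Lib.PermAut.Cert

/-!
# Centralisers of involutions in a certified group
-/

set_option autoImplicit false
set_option linter.unusedSectionVars false

namespace Cfsg.Lib.PermAut

open Equiv

/-- The mixed radix digits of a number. -/
def digitsOf : List (List ℕ) → ℕ → List ℕ
  | [], _ => []
  | l :: ls, i => i % l.length :: digitsOf ls (i / l.length)

theorem exists_digits : ∀ {ls : List (List ℕ)} {path : List ℕ}, List.Forall₂ (fun T l => T ∈ l) path ls →
    ∃ i < (ls.map List.length).prod, pickPath ls (digitsOf ls i) = path ∧ pathOk ls (digitsOf ls i) = true := by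
  intro ls path h
  induction h with
  | nil => exact ⟨0, by simp, rfl, rfl⟩
  | @cons T l path ls hT _ ih =>
    obtain ⟨i, hi, hp, hok⟩ := ih
    obtain ⟨j, hj, rfl⟩ := List.getElem_of_mem hT
    refine ⟨j + l.length * i, ?_, ?_, ?_⟩
    · rw [List.map_cons, List.prod_cons]
      calc j + l.length * i < l.length + l.length * i := Nat.add_lt_add_right hj _
        _ = l.length * (i + 1) := by ring
        _ ≤ l.length * (ls.map List.length).prod := Nat.mul_le_mul_left _ hi
    · simp only [digitsOf, Nat.add_mul_mod_self_left, Nat.mod_eq_of_lt hj,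
        Nat.add_mul_div_left _ _ (Nat.zero_lt_of_lt hj), Nat.div_eq_of_lt hj, Nat.zero_add, pickPath, hp]
      rw [List.getD_eq_getElem _ _ hj]
    · simp only [digitsOf, Nat.add_mul_mod_self_left, Nat.mod_eq_of_lt hj,
        Nat.add_mul_div_left _ _ (Nat.zero_lt_of_lt hj), Nat.div_eq_of_lt hj, Nat.zero_add, pathOk, hok]
      simp [Nat.blt, Nat.succ_le_iff.2 hj]

variable {b N : ℕ} [NeZero N]

/-- The path through an element of the first level. -/
def headPath (lev : List (List ℕ)) (j : ℕ) : List ℕ := j :: List.replicate (lev.length - 1) 0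

/-- Each fixed point of the table is an image of the point under a path through the first level. -/
noncomputable def coversFixed (b N : ℕ) (lev : List (List ℕ)) (t p0 : ℕ) : Bool :=
  (List.range N).all fun x => !(Nat.beq (ent b t x) x) || (List.range (lev.headD []).length).any fun j =>
    pathOk lev (headPath lev j) && Nat.beq (ev b (pickPath lev (headPath lev j)) p0) x

/-- Every element centralising the table is a first level element times an element found by the search. -/
theorem centralizer_le {C : Cert} [NeZero C.N] (G : C.Gen) (hK : Nat.card C.K = C.size) {t : ℕ}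
    (ht : Rep C.b (C.P t) t) {H : Sub} (VH : H.Valid C.b C.N) (hHK : H.grp C.b C.N ≤ C.K)
    (hHt : ∀ h ∈ H.grp C.b C.N, h * C.P t = C.P t * h) {p0 : ℕ} {l0 : List ℕ} {ls : List (List ℕ)}
    (htr : C.tr = l0 :: ls) (hp0 : p0 < C.N) (hls : (ls.all fun l => l.all fun T => Nat.beq (ent C.b T p0) p0) = true)
    (hfix : Nat.beq (ent C.b t p0) p0 = true) (hcov : coversFixed C.b C.N H.lev t p0 = true)
    {cs : List (List (ℕ × ℕ × ℕ))}
    (hcs : checksOk C.b C.N t (l0.filter (fun T => Nat.beq (ent C.b T p0) p0) :: ls) cs = true)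
    (hcount : (H.lev.headD []).length *
      (search C.b C.N t t (l0.filter (fun T => Nat.beq (ent C.b T p0) p0) :: ls) cs []).length ≤ H.size)
    (g : Perm (Fin C.N)) (hg : g ∈ C.K) (hgt : g * C.P t = C.P t * g) : g ∈ H.grp C.b C.N := by
  classical
  set L := search C.b C.N t t (l0.filter (fun T => Nat.beq (ent C.b T p0) p0) :: ls) cs []
  let cen : Set (Perm (Fin C.N)) := {g | g ∈ C.K ∧ g * C.P t = C.P t * g}
  let D : Finset (Perm (Fin C.N)) := Finset.image₂ (fun x y => x * y) ((List.range (H.lev.headD []).length).map fun j =>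
    ((pickPath H.lev (headPath H.lev j)).map C.P).prod).toFinset
    (L.map fun path => (path.map C.P).prod).toFinset
  have hsub : cen ⊆ ↑D := by
    rintro g ⟨hg, hgt⟩
    let x0 : Fin C.N := ⟨p0, hp0⟩
    have ht0 : C.P t x0 = x0 := Fin.ext ((ht x0).trans (Nat.eq_of_beq_eq_true hfix))
    have hgx : C.P t (g x0) = g x0 := by
      have := DFunLike.congr_fun hgt x0
      rw [Perm.mul_apply, Perm.mul_apply, ht0] at this
      exact this.symm
    simp only [coversFixed, List.all_eq_true, List.mem_range, Bool.or_eq_true, List.any_eq_true, Bool.and_eq_true,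
      Bool.not_eq_true', Nat.beq_eq] at hcov
    obtain ⟨j, hj, hjok, hjx⟩ := (hcov (g x0) (g x0).isLt).resolve_left fun h => by
      rw [← ht (g x0), hgx, Nat.beq_refl] at h
      exact Bool.noConfusion h
    set r := ((pickPath H.lev (headPath H.lev j)).map C.P).prod with hr
    have hrH : r ∈ H.grp C.b C.N := VH.mem_of_path hjok
    set g' := r⁻¹ * g with hg'
    have hg'K : g' ∈ C.K := mul_mem (inv_mem (hHK hrH)) hg
    have hg't : g' * C.P t = C.P t * g' := by
      have h1 := hHt _ (inv_mem hrH)
      rw [hg', mul_assoc, hgt, ← mul_assoc, h1, mul_assoc]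
    have hg'0 : g' x0 = x0 := by
      rw [hg', Perm.mul_apply, Perm.inv_eq_iff_eq]
      exact Fin.ext ((ev_rep (VH.good_of_path hjok) x0).trans hjx).symm
    obtain ⟨path, hp, hpg, hrep⟩ := Cert.exists_rep_path G hK hg'K
    rw [htr] at hp
    cases hp with
    | @cons U _ rest _ hU hrest =>
    have hrest0 : ev C.b rest p0 = p0 := ev_fixed _ _ hrest fun m hm S hS => by
      simp only [List.all_eq_true, Nat.beq_eq] at hls
      exact hls m hm S hS
    have hU0 : Nat.beq (ent C.b U p0) p0 = true := by
      have e := ev_rep hrep x0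
      rw [hpg, hg'0, ev_cons, hrest0] at e
      rw [Nat.beq_eq]
      exact e.symm
    have hmem := search_complete (g := g') (p := C.P t) (q := C.P t) ht ht hg't _ cs [] (U :: rest)
      (List.Forall₂.cons (List.mem_filter.2 ⟨hU, hU0⟩) hrest) hcs fun x => by
        rw [← hpg]; exact ev_rep hrep x
    refine Finset.mem_image₂.2 ⟨r, List.mem_toFinset.2 (List.mem_map.2 ⟨j, List.mem_range.2 hj, rfl⟩), g', ?_, ?_⟩
    · rw [List.nil_append] at hmem
      exact List.mem_toFinset.2 (List.mem_map.2 ⟨_, hmem, hpg⟩)
    · rw [hg', mul_inv_cancel_left]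
  have hD : D.card ≤ H.size := by
    refine le_trans (Finset.card_image₂_le _ _ _) (le_trans (Nat.mul_le_mul ?_ ?_) hcount)
    · exact (List.toFinset_card_le _).trans (by rw [List.length_map, List.length_range])
    · exact (List.toFinset_card_le _).trans (by rw [List.length_map])
  have heq : (↑(H.grp C.b C.N) : Set (Perm (Fin C.N))) = cen := by
    refine Set.eq_of_subset_of_ncard_le (fun h hh => ⟨hHK hh, hHt h hh⟩) ?_
    have hc : (↑(H.grp C.b C.N) : Set (Perm (Fin C.N))).ncard = H.size := by
      rw [← VH.card, ← Nat.card_coe_set_eq]; rfl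
    rw [hc]
    exact le_trans (Set.ncard_le_ncard hsub (Set.toFinite _)) (by rw [Set.ncard_coe_finset]; exact hD)
  show g ∈ (↑(H.grp C.b C.N) : Set (Perm (Fin C.N)))
  rw [heq]
  exact ⟨hg, hgt⟩

end Cfsg.Lib.PermAut
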