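import Cfsg.Agent.Lib.PermAut.SubStem

/-!
# A check of a coset table that reads its lists once
-/

set_option autoImplicit false

namespace Cfsg.Lib.PermAut

open Cfsg.Lib.Concrete

/-- A binary table of numbers. -/
inductive NumTree : Type where
  | leaf (v : ℕ)
  | node (k : ℕ) (l r : NumTree)

namespace NumTree

/-- The entry at a position. -/
noncomputable def look (t : NumTree) : ℕ → ℕ :=
  NumTree.rec (fun v _ => v) (fun k _ _ fl fr i => Bool.rec (fr (Nat.sub i k)) (fl i) (Nat.blt i k)) t

/-- A list agrees with a tree from a position on. -/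
noncomputable def agreeB (t : NumTree) : List ℕ → ℕ → Bool
  | [], _ => true
  | a :: l, i => Nat.beq a (t.look i) && agreeB t l (i + 1)

theorem agreeB_spec {t : NumTree} : ∀ {l : List ℕ} {i : ℕ}, agreeB t l i = true →
    ∀ x < l.length, l.getD x 0 = t.look (i + x)
  | [], _, _, x, hx => absurd hx (Nat.not_lt_zero x)
  | a :: l, i, h, x, hx => by
    simp only [agreeB, Bool.and_eq_true, Nat.beq_eq] at h
    cases x with
    | zero => simpa using h.1
    | succ x =>
      rw [List.getD_cons_succ, agreeB_spec h.2 x (by simpa using hx)]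
      congr 1
      omega

end NumTree

/-- A test along two lists with the position. -/
def walk2 {α β : Type} (f : ℕ → α → β → Bool) : List α → List β → ℕ → Bool
  | a :: l, c :: l', i => f i a c && walk2 f l l' (i + 1)
  | [], [], _ => true
  | _, _, _ => false

theorem walk2_spec {α β : Type} {f : ℕ → α → β → Bool} (d : α) (d' : β) : ∀ {l : List α} {l' : List β} {i : ℕ},
    walk2 f l l' i = true → ∀ x < l.length, f (i + x) (l.getD x d) (l'.getD x d') = true
  | [], _, _, _, x, hx => absurd hx (Nat.not_lt_zero x)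
  | _ :: _, [], _, h, _, _ => by simp [walk2] at h
  | a :: l, c :: l', i, h, x, hx => by
    simp only [walk2, Bool.and_eq_true] at h
    cases x with
    | zero => simpa using h.1
    | succ x =>
      rw [List.getD_cons_succ, List.getD_cons_succ, show i + (x + 1) = (i + 1) + x by omega]
      exact walk2_spec d d' h.2 x (by simpa using hx)

/-- A step of the tree of cosets. -/
noncomputable def cosTreeB (t : NumTree) (b N : ℕ) (H : Sub) (c : StemCert) (x r : ℕ) : Bool :=
  Nat.beq x 0 || sameB b N [r] [H.gen (c.pi' x), t.look (c.px x)]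

/-- A witness of a letter at a coset. -/
noncomputable def cosWitB (t : NumTree) (b N : ℕ) (H L : Sub) (c : StemCert) (i x r : ℕ) (w : List ℕ) : Bool :=
  pathOk L.lev w && sameB b N [H.gen i, r] (t.look (c.tab i x) :: pickPath L.lev w)

/-- The quick check of a coset table. -/
noncomputable def Cos.fastOk (k : Cos) (t : NumTree) (b N : ℕ) (H L : Sub) (c : StemCert) : Bool :=
  Nat.beq k.reps.length c.N && t.agreeB k.reps 0 &&
  walk2 (fun x r _ => cosTreeB t b N H c x r) k.reps k.wit0 0 &&
  walk2 (cosWitB t b N H L c 0) k.reps k.wit0 0 &&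
  walk2 (cosWitB t b N H L c 1) k.reps k.wit1 0

/-- The remaining checks of a coset table. -/
noncomputable def Cos.restOk (k : Cos) (b N : ℕ) (H L : Sub) (c : StemCert) : Bool :=
  sameB b N [k.reps.getD 0 0] [] &&
  pathOk H.lev k.path0 && sameB b N [L.g0] (pickPath H.lev k.path0) &&
  pathOk H.lev k.path1 && sameB b N [L.g1] (pickPath H.lev k.path1) &&
  c.rels.all fun W => sameB b N (W.map H.gen) []

theorem Cos.ok_of_fast {k : Cos} {t : NumTree} {b N : ℕ} {H L : Sub} {c : StemCert} (hsh : c.shapeOk = true)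
    (h : k.fastOk t b N H L c = true) (h' : k.restOk b N H L c = true) : k.ok b N H L c = true := by
  simp only [Cos.fastOk, Cos.restOk, Bool.and_eq_true, Nat.beq_eq] at h h'
  obtain ⟨⟨⟨⟨hlen, hag⟩, ht⟩, hw0⟩, hw1⟩ := h
  obtain ⟨⟨⟨⟨⟨h0, p0⟩, s0⟩, p1⟩, s1⟩, hr⟩ := h'
  have hlook : ∀ x < c.N, k.reps.getD x 0 = t.look x := fun x hx => by
    rw [NumTree.agreeB_spec hag x (hlen ▸ hx), Nat.zero_add]
  simp only [Cos.ok, Bool.and_eq_true, List.all_eq_true, List.mem_range, Bool.or_eq_true]
  refine ⟨⟨⟨⟨⟨⟨⟨h0, fun x hx => ?_⟩, fun i hi x hx => ?_⟩, p0⟩, s0⟩, p1⟩, s1⟩, List.all_eq_true.1 hr⟩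
  · have := walk2_spec 0 [] ht x (hlen ▸ hx)
    rw [Nat.zero_add, cosTreeB, Bool.or_eq_true] at this
    rcases Nat.eq_zero_or_pos x with rfl | hpos
    · exact Or.inl rfl
    rcases this with h | h
    · exact Or.inl h
    · refine Or.inr ?_
      rw [hlook (c.px x) (lt_trans (StemCert.shape_par hsh hpos hx).1 hx)]
      exact h
  · have hy : c.tab i x < c.N := StemCert.shape_lt hsh hi hx
    rw [hlook _ hy]
    interval_cases i
    · have := walk2_spec 0 [] hw0 x (hlen ▸ hx)
      rw [Nat.zero_add, cosWitB, Bool.and_eq_true] at this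
      exact this
    · have := walk2_spec 0 [] hw1 x (hlen ▸ hx)
      rw [Nat.zero_add, cosWitB, Bool.and_eq_true] at this
      exact this

end Cfsg.Lib.PermAut
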