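import Cfsg.Agent.Lib.Schur.StemFused
import Cfsg.Agent.Lib.PermAut.CosFast
import Cfsg.Agent.Lib.PermAut.Split

/-!
# Checking stem certificates and coset tables in pieces
-/

set_option autoImplicit false

namespace Cfsg.Lib.PermAut

open Cfsg.Lib.Concrete

variable (c : StemCert)

/-- The checks of the shape apart from the relators. -/
noncomputable def shapeTabB : Bool :=
  decide (0 < c.N) && decide (c.rels.length ≤ c.m) &&
  ((List.range c.N).all fun x => decide (c.tab 0 x < c.N) && decide (c.tab 1 x < c.N)) &&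
  ((List.range (c.N - 1)).all fun x => decide (c.px (x + 1) < x + 1) &&
    Nat.beq (c.tab (c.pi' (x + 1)) (c.px (x + 1))) (x + 1)) &&
  decide (c.spec.1 < 2 * c.N) && decide (c.spec.2 < 2 * c.N)

/-- The listed relators close at every point. -/
noncomputable def relsB (l : List (List ℕ)) : Bool :=
  l.all fun W => (W.all fun i => decide (i < 2)) && (List.range c.N).all fun x => Nat.beq (c.endPt W x) x

theorem relsB_split {l : List (List ℕ)} (k : ℕ) (h1 : relsB c (l.take k) = true) (h2 : relsB c (l.drop k) = true) :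
    relsB c l = true := by
  rw [relsB, ← List.take_append_drop k l, List.all_append, Bool.and_eq_true]
  exact ⟨h1, h2⟩

theorem shapeOk_of_parts (h1 : shapeTabB c = true) (h2 : relsB c c.rels = true) : c.shapeOk = true := by
  simp only [shapeTabB, relsB, StemCert.shapeOk, Bool.and_eq_true] at h1 h2 ⊢
  exact ⟨⟨⟨h1.1.1, h2⟩, h1.1.2⟩, h1.2⟩

variable {q : ℕ} (A : SVec q c.m)

/-- A segment of the steps is valid. -/
noncomputable def segB : List (ℕ × ℕ × ℕ) → ℕ → Bool
  | [], _ => true
  | st :: rest, K =>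
    let P := c.edges (c.rels.getD st.2.1 []) st.2.2
    decide (st.2.1 < c.rels.length) && decide (st.2.2 < c.N) &&
      (P.all fun e => K.testBit e || Nat.beq e st.1 || Nat.beq ((P.count e) % q) 0) &&
      !(Nat.beq ((P.count st.1) % q) 0) &&
      Nat.beq (A.sum (P.map c.val)) (A.unit st.2.1) &&
      segB rest (StemCert.mark K st.1)

/-- The edges known after a segment. -/
def markL (l : List (ℕ × ℕ × ℕ)) (K : ℕ) : ℕ := l.foldl (fun K st => StemCert.mark K st.1) K

theorem stepsOk_append : ∀ (l r : List (ℕ × ℕ × ℕ)) (K : ℕ), segB c A l K = true →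
    c.stepsOk A r (markL l K) = true → c.stepsOk A (l ++ r) K = true
  | [], _, _, _, h => h
  | st :: l, r, K, h, h' => by
    simp only [segB, Bool.and_eq_true] at h
    simp only [List.cons_append, StemCert.stepsOk, Bool.and_eq_true]
    exact ⟨h.1, stepsOk_append l r _ h.2 h'⟩

theorem stepsOk_split {l : List (ℕ × ℕ × ℕ)} {K : ℕ} (k : ℕ) (h1 : segB c A (l.take k) K = true)
    (h2 : c.stepsOk A (l.drop k) (markL (l.take k) K) = true) : c.stepsOk A l K = true := by
  rw [← List.take_append_drop k l]
  exact stepsOk_append c A _ _ _ h1 h2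

theorem checkZero_of_parts {zs : List ℕ} (h1 : c.shapeOk = true) (h2 : (c.specOk q && c.initOk A) = true)
    (h3 : c.stepsOk A c.steps c.known0 = true)
    (h4 : (Cfsg.Lib.Schur.Zero.zeroOk c q zs && Cfsg.Lib.Schur.Zero.combsZero c A zs) = true) :
    Cfsg.Lib.Schur.Zero.checkZero c A zs = true := by
  rw [Bool.and_eq_true] at h2 h4
  simp only [Cfsg.Lib.Schur.Zero.checkZero, h1, h2.1, h2.2, h3, h4.1, h4.2, Bool.and_self]

theorem walk2_split {α β : Type} {f : ℕ → α → β → Bool} : ∀ (k : ℕ) {l : List α} {l' : List β} {i : ℕ},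
    walk2 f (l.take k) (l'.take k) i = true → walk2 f (l.drop k) (l'.drop k) (i + k) = true → walk2 f l l' i = true
  | 0, _, _, i, _, h => by simpa using h
  | _ + 1, [], [], _, _, _ => rfl
  | _ + 1, [], _ :: _, _, h, _ => by simp [walk2] at h
  | _ + 1, _ :: _, [], _, h, _ => by simp [walk2] at h
  | k + 1, a :: l, d :: l', i, h, h' => by
    simp only [List.take_succ_cons, List.drop_succ_cons, walk2, Bool.and_eq_true] at h h' ⊢
    exact ⟨h.1, walk2_split k h.2 (by rwa [show i + 1 + k = i + (k + 1) by omega])⟩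

theorem Cos.fastOk_of_parts {k : Cos} {t : NumTree} {b N : ℕ} {H L : Sub} {c : StemCert}
    (h0 : (Nat.beq k.reps.length c.N && t.agreeB k.reps 0) = true)
    (h1 : walk2 (fun x r _ => cosTreeB t b N H c x r) k.reps k.wit0 0 = true)
    (h2 : walk2 (cosWitB t b N H L c 0) k.reps k.wit0 0 = true)
    (h3 : walk2 (cosWitB t b N H L c 1) k.reps k.wit1 0 = true) : k.fastOk t b N H L c = true := by
  simp only [Cos.fastOk, h0, h1, h2, h3, Bool.and_self, Bool.true_and]

theorem Split.rowsB_cut {b N : ℕ} {L : List (List ℕ)} (k : ℕ) {s : List ℕ} {cl : List (List (List ℕ))}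
    (h1 : Split.rowsB b N L (s.take k) (cl.take k) = true) (h2 : Split.rowsB b N L (s.drop k) (cl.drop k) = true) :
    Split.rowsB b N L s cl = true := Split.all2_take_drop k h1 h2

end Cfsg.Lib.PermAut
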