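import Cfsg.Agent.Lib.PermAut.CoThreeFive
import Cfsg.Agent.Lib.PermAut.CoThreeData

/-!
# Checks of one subgroup
-/

set_option autoImplicit false
set_option maxRecDepth 100000

namespace Cfsg.Lib.PermAut.CoThree

open Cfsg.Lib.Concrete

instance fact_lt_h5 : Fact (1 < 5) := ⟨by norm_num⟩

theorem h5Sub_ok : h5Sub.ok 9 276 = true := by decide +kernel

theorem h5Low_ok : h5Low.ok 9 276 = true := by decide +kernel

theorem h5Cert_ok : h5Cert.check (digitVec 5 h5Cert.m) = true := by decide +kernel

theorem h5Cos_ok : h5Cos.ok 9 276 h5Sub h5Low h5Cert = true := by decide +kernel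

theorem h5Size_ok : h5Sub.size = h5Cert.N * h5Low.size := by decide +kernel

theorem h5Top0_ok : pathOk cert.tr (h5Top.getD 0 []) = true ∧ sameB 9 276 [h5Sub.g0] (pickPath cert.tr (h5Top.getD 0 [])) = true := by decide +kernel

theorem h5Top1_ok : pathOk cert.tr (h5Top.getD 1 []) = true ∧ sameB 9 276 [h5Sub.g1] (pickPath cert.tr (h5Top.getD 1 [])) = true := by decide +kernel

end Cfsg.Lib.PermAut.CoThree
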