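import Cfsg.Agent.Lib.PermAut.CoThreeMEleven
import Cfsg.Agent.Lib.PermAut.CoThreeData
import Cfsg.Agent.Lib.Schur.TriVec

/-!
# Checks of one subgroup
-/

set_option autoImplicit false
set_option maxRecDepth 100000

namespace Cfsg.Lib.PermAut.CoThree

open Cfsg.Lib.Concrete

theorem m11Sub_ok : m11Sub.ok 9 276 = true := by decide +kernel

theorem m11Low_ok : m11Low.ok 9 276 = true := by decide +kernel

theorem m11Cert_ok : m11Cert.check (Cfsg.Lib.Schur.triVec m11Cert.m) = true := by decide +kernel

theorem m11Cos_ok : m11Cos.ok 9 276 m11Sub m11Low m11Cert = true := by decide +kernel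

theorem m11Size_ok : m11Sub.size = m11Cert.N * m11Low.size := by decide +kernel

end Cfsg.Lib.PermAut.CoThree
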