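import Cfsg.Agent.Lib.PermAut.CoThreeThree
import Cfsg.Agent.Lib.PermAut.CoThreeData
import Cfsg.Agent.Lib.Schur.TriVec

/-!
# Checks of one subgroup
-/

set_option autoImplicit false
set_option maxRecDepth 100000

namespace Cfsg.Lib.PermAut.CoThree

open Cfsg.Lib.Concrete

theorem h3Sub_ok : h3Sub.ok 9 276 = true := by decide +kernel

theorem h3Low_ok : h3Low.ok 9 276 = true := by decide +kernel

theorem h3Cert_ok : h3Cert.check (Cfsg.Lib.Schur.triVec h3Cert.m) = true := by decide +kernel

theorem h3Cos_ok : h3Cos.ok 9 276 h3Sub h3Low h3Cert = true := by decide +kernel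

theorem h3Size_ok : h3Sub.size = h3Cert.N * h3Low.size := by decide +kernel

theorem h3Com_ok : h3Low.perfB 9 276 (h3Com.getD 0 []) (h3Com.getD 1 []) (h3Com.getD 2 []) (h3Com.getD 3 []) = true := by decide +kernel

theorem h3Top0_ok : pathOk cert.tr (h3Top.getD 0 []) = true ∧ sameB 9 276 [h3Sub.g0] (pickPath cert.tr (h3Top.getD 0 [])) = true := by decide +kernel

theorem h3Top1_ok : pathOk cert.tr (h3Top.getD 1 []) = true ∧ sameB 9 276 [h3Sub.g1] (pickPath cert.tr (h3Top.getD 1 [])) = true := by decide +kernel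

end Cfsg.Lib.PermAut.CoThree
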