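import Cfsg.Agent.Lib.PermAut.CoThreeTwo
import Cfsg.Agent.Lib.PermAut.CoThreeData

/-!
# Checks of one subgroup
-/

set_option autoImplicit false
set_option maxRecDepth 100000

namespace Cfsg.Lib.PermAut.CoThree

open Cfsg.Lib.Concrete

theorem h2Sub_ok : h2Sub.ok 9 276 = true := by decide +kernel

theorem h2Low_ok : h2Low.ok 9 276 = true := by decide +kernel

theorem h2Cert_ok : h2Cert.check (xorVec h2Cert.m) = true := by decide +kernel

theorem h2Cos_ok : h2Cos.ok 9 276 h2Sub h2Low h2Cert = true := by decide +kernel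

theorem h2Size_ok : h2Sub.size = h2Cert.N * h2Low.size := by decide +kernel

theorem h2Com_ok : h2Low.perfB 9 276 (h2Com.getD 0 []) (h2Com.getD 1 []) (h2Com.getD 2 []) (h2Com.getD 3 []) = true := by decide +kernel

theorem h2Top0_ok : pathOk cert.tr (h2Top.getD 0 []) = true ∧ sameB 9 276 [h2Sub.g0] (pickPath cert.tr (h2Top.getD 0 [])) = true := by decide +kernel

theorem h2Top1_ok : pathOk cert.tr (h2Top.getD 1 []) = true ∧ sameB 9 276 [h2Sub.g1] (pickPath cert.tr (h2Top.getD 1 [])) = true := by decide +kernel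

end Cfsg.Lib.PermAut.CoThree
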