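import Cfsg.Agent.Lib.PermAut.CoThreeUThree
import Cfsg.Agent.Lib.PermAut.CoThreeData

/-!
# Checks of one subgroup
-/

set_option autoImplicit false
set_option maxRecDepth 100000

namespace Cfsg.Lib.PermAut.CoThree

open Cfsg.Lib.Concrete

theorem u33Sub_ok : u33Sub.ok 9 276 = true := by decide +kernel

theorem u33Low_ok : u33Low.ok 9 276 = true := by decide +kernel

theorem u33Cert_ok : u33Cert.check (xorVec u33Cert.m) = true := by decide +kernel

theorem u33Cos_ok : u33Cos.ok 9 276 u33Sub u33Low u33Cert = true := by decide +kernel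

theorem u33Size_ok : u33Sub.size = u33Cert.N * u33Low.size := by decide +kernel

end Cfsg.Lib.PermAut.CoThree
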