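import Cfsg.Agent.Lib.PermAut.CoThree
import Cfsg.Agent.Lib.PermAut.CoThreeFiveCheck
import Cfsg.Agent.Lib.PermAut.CoThreeThreeCheck
import Cfsg.Agent.Lib.PermAut.CoThreeMElevenCheck
import Cfsg.Agent.Lib.PermAut.CoThreeTwoCheck
import Cfsg.Agent.Lib.PermAut.CoThreeUThreeCheck

/-!
# The Schur multiplier of the third Conway group is trivial
-/

set_option autoImplicit false

namespace Cfsg.Lib.PermAut.CoThree

open Cfsg.Lib.Concrete

instance : NeZero 276 := ⟨by norm_num⟩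

theorem noStem_m11 : NoStem 3 ↥(m11Sub.grp 9 276) := by
  haveI : Fact (Nat.Prime 3) := ⟨Nat.prime_three⟩
  have VH := Sub.valid (b := 9) (N := 276) m11Sub_ok
  have VL := Sub.valid (b := 9) (N := 276) m11Low_ok
  exact Cos.noStem VH VL m11Cos_ok _ m11Cert_ok m11Size_ok
    (liftsAt_small Nat.prime_three VL (Cos.le VH VL m11Cos_ok) (by decide +kernel))

theorem noStem_u33 : NoStem 2 ↥(u33Sub.grp 9 276) := by
  haveI : Fact (Nat.Prime 2) := ⟨Nat.prime_two⟩
  have VH := Sub.valid (b := 9) (N := 276) u33Sub_ok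
  have VL := Sub.valid (b := 9) (N := 276) u33Low_ok
  exact Cos.noStem VH VL u33Cos_ok _ u33Cert_ok u33Size_ok
    (liftsAt_small Nat.prime_two VL (Cos.le VH VL u33Cos_ok) (by decide +kernel))

theorem noStem_five : NoStem 5 ↥(h5Sub.grp 9 276) := by
  haveI : Fact (Nat.Prime 5) := ⟨by norm_num⟩
  have VH := Sub.valid (b := 9) (N := 276) h5Sub_ok
  have VL := Sub.valid (b := 9) (N := 276) h5Low_ok
  exact Cos.noStem VH VL h5Cos_ok _ h5Cert_ok h5Size_ok
    (liftsAt_small (by norm_num) VL (Cos.le VH VL h5Cos_ok) (by decide +kernel))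

theorem noStem_three : NoStem 3 ↥(h3Sub.grp 9 276) := by
  haveI : Fact (Nat.Prime 3) := ⟨Nat.prime_three⟩
  have VH := Sub.valid (b := 9) (N := 276) h3Sub_ok
  have VL := Sub.valid (b := 9) (N := 276) h3Low_ok
  have e : m11Sub.grp 9 276 = h3Low.grp 9 276 := rfl
  exact Cos.noStem VH VL h3Cos_ok _ h3Cert_ok h3Size_ok
    (liftsAt_perfect Nat.prime_three (Cos.le VH VL h3Cos_ok) (VL.perfect h3Com_ok) (e ▸ noStem_m11))

theorem noStem_two : NoStem 2 ↥(h2Sub.grp 9 276) := by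
  haveI : Fact (Nat.Prime 2) := ⟨Nat.prime_two⟩
  have VH := Sub.valid (b := 9) (N := 276) h2Sub_ok
  have VL := Sub.valid (b := 9) (N := 276) h2Low_ok
  have e : u33Sub.grp 9 276 = h2Low.grp 9 276 := rfl
  exact Cos.noStem VH VL h2Cos_ok _ h2Cert_ok h2Size_ok
    (liftsAt_perfect Nat.prime_two (Cos.le VH VL h2Cos_ok) (VL.perfect h2Com_ok) (e ▸ noStem_u33))

theorem multiplier_co3 : Cfsg.HasCyclicSchurMultiplier ↥Cfsg.Spor.Co3 1 := by
  have hsz : cert.size = 495766656000 := by decide +kernel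
  obtain ⟨⟨e⟩, hK⟩ := co3_model
  have G := Cert.gen_of_check gen_check
  haveI : Finite ↥Cfsg.Spor.Co3 := Finite.of_equiv _ e.symm.toEquiv
  refine Cfsg.Lib.Concrete.hasTrivialMultiplier fun p hp => NoStem.of_equiv e.symm ?_
  by_cases h2 : p = 2
  · subst h2
    exact noStem_of_sub hp G hK (Sub.valid h2Sub_ok) h2Top0_ok.1 h2Top0_ok.2 h2Top1_ok.1 h2Top1_ok.2
      (d := 170775) (by decide +kernel) (by decide) noStem_two
  by_cases h3 : p = 3
  · subst h3
    exact noStem_of_sub hp G hK (Sub.valid h3Sub_ok) h3Top0_ok.1 h3Top0_ok.2 h3Top1_ok.1 h3Top1_ok.2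
      (d := 257600) (by decide +kernel) (by decide) noStem_three
  by_cases h5 : p = 5
  · subst h5
    exact noStem_of_sub hp G hK (Sub.valid h5Sub_ok) h5Top0_ok.1 h5Top0_ok.2 h5Top1_ok.1 h5Top1_ok.2
      (d := 82627776) (by decide +kernel) (by decide) noStem_five
  refine noStem_of_not_sq_dvd hp ?_
  rw [hK, hsz, show (495766656000 : ℕ) = 2 ^ 10 * 3 ^ 7 * 5 ^ 3 * (7 * (11 * 23)) by norm_num]
  intro h
  have hc : ∀ q k : ℕ, q.Prime → p ≠ q → Nat.Coprime (p ^ 2) (q ^ k) := fun q k hq hne =>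
    Nat.Coprime.pow _ _ ((Nat.coprime_primes hp hq).2 hne)
  have h' := ((hc 2 10 Nat.prime_two h2).mul_right (hc 3 7 Nat.prime_three h3)).mul_right (hc 5 3 (by norm_num) h5)
  have hd := h'.dvd_of_dvd_mul_left h
  have hle : p ^ 2 ≤ 7 * (11 * 23) := Nat.le_of_dvd (by norm_num) hd
  have hp43 : p < 43 := by nlinarith
  interval_cases p <;> first | omega | exact absurd hp (by norm_num) | exact absurd hd (by norm_num)

end Cfsg.Lib.PermAut.CoThree
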