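import Cfsg.Agent.Lib.Schur.CoverBound

/-!
# A cover from two covers with kernels of coprime order
-/

set_option autoImplicit false
set_option linter.style.haveILetI false

namespace Cfsg.Lib.PermAut

open Subgroup Cfsg.Lib.Concrete
open scoped commutatorElement

/-- A central kernel of order prime to `p` does not create stem extensions of degree `p`. -/
theorem noStem_of_coprime_quot {P C : Type} [Group P] [Group C] [Finite P] {p : ℕ} (hp : p.Prime) (π : P →* C)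
    (hπ : Function.Surjective π) (hc : π.ker ≤ center P) (hn : ¬ p ∣ Nat.card π.ker) (h : NoStem p C) :
    NoStem p P := by
  intro Γ _ _ τ hs hcen hcard hle
  set n := Nat.card π.ker
  let f : Γ →* C := π.comp τ
  have hcop : Nat.Coprime p n := hp.coprime_iff_not_dvd.2 hn
  have hpow : ∀ z ∈ τ.ker, z ^ p = 1 := fun z hz =>
    congrArg Subtype.val (hcard ▸ pow_card_eq_one' : (⟨z, hz⟩ : τ.ker) ^ p = 1)
  have hfn : ∀ a ∈ f.ker, a ^ n ∈ τ.ker := fun a ha => by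
    rw [MonoidHom.mem_ker, map_pow]
    exact congrArg Subtype.val
      (pow_card_eq_one' : (⟨τ a, show π (τ a) = 1 from ha⟩ : π.ker) ^ Nat.card π.ker = 1)
  have hA : f.ker ≤ center Γ := fun a ha => mem_center_iff.2 fun g => by
    set w := g * a * g⁻¹ * a⁻¹ with hw
    have hwk : w ∈ τ.ker := by
      rw [MonoidHom.mem_ker, hw, map_mul, map_mul, map_mul, map_inv, map_inv,
        mem_center_iff.1 (hc (show τ a ∈ π.ker from ha)) (τ g), mul_inv_cancel_right, mul_inv_cancel]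
    have hwc := mem_center_iff.1 (hcen hwk)
    have h1 : ∀ k : ℕ, g * a ^ k * g⁻¹ = w ^ k * a ^ k := by
      intro k
      rw [← conj_pow, show g * a * g⁻¹ = w * a from by rw [hw]; group, (show Commute w a from (hwc a).symm).mul_pow]
    have h2 : w ^ n = 1 := by
      have := h1 n
      rw [mem_center_iff.1 (hcen (hfn a ha)) g, mul_inv_cancel_right] at this
      exact (mul_eq_right.1 this.symm)
    have h3 : w = 1 := by
      have := pow_gcd_eq_one.2 ⟨hpow w hwk, h2⟩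
      rwa [hcop.gcd_eq_one, pow_one] at this
    rw [hw, mul_inv_eq_one, mul_inv_eq_iff_eq_mul] at h3
    exact h3
  let B : Subgroup Γ :=
    { carrier := {a | a ∈ f.ker ∧ a ^ n = 1}
      one_mem' := ⟨one_mem _, one_pow _⟩
      mul_mem' := fun {a b} ha hb => ⟨mul_mem ha.1 hb.1, by
        rw [(show Commute a b from (mem_center_iff.1 (hA ha.1) b).symm).mul_pow, ha.2, hb.2, one_mul]⟩
      inv_mem' := fun {a} ha => ⟨inv_mem ha.1, by rw [inv_pow, ha.2, inv_one]⟩ }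
  have hBn : B.Normal := ⟨fun b hb g => by
    rw [mem_center_iff.1 (hA hb.1) g, mul_inv_cancel_right]; exact hb⟩
  let μ : Γ ⧸ B →* C := QuotientGroup.lift B f fun b hb => hb.1
  have hmk : ∀ a ∈ f.ker, ∃ z ∈ τ.ker, (z : Γ ⧸ B) = (a : Γ ⧸ B) := fun a ha => by
    refine ⟨(a ^ n) ^ Nat.gcdB p n, zpow_mem (hfn a ha) _, ?_⟩
    rw [QuotientGroup.eq]
    have e : ((a ^ n) ^ Nat.gcdB p n)⁻¹ * a = (a ^ p) ^ Nat.gcdA p n := by
      have hb := Nat.gcd_eq_gcd_ab p n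
      rw [hcop.gcd_eq_one] at hb
      push_cast at hb
      rw [← zpow_natCast a n, ← zpow_natCast a p, ← zpow_mul, ← zpow_mul, inv_mul_eq_iff_eq_mul, ← zpow_add,
        add_comm, ← hb, zpow_one]
    rw [e]
    refine zpow_mem (show a ^ p ∈ B from ⟨pow_mem ha _, ?_⟩) _
    rw [← pow_mul, mul_comm, pow_mul, hpow _ (hfn a ha)]
  have hμk : μ.ker = τ.ker.map (QuotientGroup.mk' B) := by
    refine le_antisymm (fun x hx => ?_) (map_le_iff_le_comap.2 fun z hz => ?_)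
    · induction x using QuotientGroup.induction_on with
      | H a =>
        obtain ⟨z, hz, e⟩ := hmk a (show f a = 1 from hx)
        exact ⟨z, hz, e⟩
    · show π (τ z) = 1
      rw [MonoidHom.mem_ker.1 hz, map_one]
  have hdisj : ∀ z ∈ τ.ker, z ∈ B → z = 1 := fun z hz hzB => by
    have := pow_gcd_eq_one.2 ⟨hpow z hz, hzB.2⟩
    rwa [hcop.gcd_eq_one, pow_one] at this
  refine h (Γ ⧸ B) μ ?_ ?_ ?_ ?_
  · intro c
    obtain ⟨q, hq⟩ := hπ c
    obtain ⟨g, hg⟩ := hs q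
    exact ⟨(g : Γ ⧸ B), show π (τ g) = c by rw [hg, hq]⟩
  · rw [hμk]
    rintro x ⟨z, hz, rfl⟩
    refine mem_center_iff.2 fun y => ?_
    induction y using QuotientGroup.induction_on with
    | H g => exact congrArg _ (mem_center_iff.1 (hcen hz) g)
  · rw [hμk]
    have hb : Function.Bijective (fun z : τ.ker => (⟨((z : Γ) : Γ ⧸ B), mem_map_of_mem _ z.2⟩ :
        ↥(τ.ker.map (QuotientGroup.mk' B)))) := by
      refine ⟨fun z w e => ?_, fun x => ?_⟩
      · have e' : ((z : Γ) : Γ ⧸ B) = ((w : Γ) : Γ ⧸ B) := congrArg Subtype.val e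
        rw [QuotientGroup.eq] at e'
        exact Subtype.ext (inv_mul_eq_one.1 (hdisj _ (mul_mem (inv_mem z.2) w.2) e'))
      · obtain ⟨z, hz, e⟩ := x.2
        exact ⟨⟨z, hz⟩, Subtype.ext e⟩
    rw [← Nat.card_eq_of_bijective _ hb, hcard]
  · rw [hμk]
    refine (Subgroup.map_mono hle).trans ?_
    rw [_root_.commutator_def, map_commutator, _root_.commutator_def]
    exact commutator_mono le_top le_top

/-- Two covers with cyclic kernels of coprime order give the multiplier. -/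
theorem hasCyclic_of_two {G C₁ C₂ : Type} [Group G] [Finite G] [Group C₁] [Group C₂] [Finite C₁] [Finite C₂]
    (hG : commutator G = ⊤) {σ₁ : C₁ →* G} {σ₂ : C₂ →* G} (h₁ : IsStemExtension σ₁) (h₂ : IsStemExtension σ₂)
    (c₁ : IsCyclic σ₁.ker) (c₂ : IsCyclic σ₂.ker) {a b : ℕ} [NeZero a] [NeZero b] (ha : Nat.card σ₁.ker = a)
    (hb : Nat.card σ₂.ker = b) (hab : Nat.Coprime a b)
    (hno : ∀ p : ℕ, p.Prime → (¬ p ∣ b ∧ NoStem p C₁) ∨ (¬ p ∣ a ∧ NoStem p C₂)) :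
    HasCyclicSchurMultiplier G (a * b) := by
  let P : Subgroup (C₁ × C₂) := (σ₁.comp (MonoidHom.fst C₁ C₂)).eqLocus (σ₂.comp (MonoidHom.snd C₁ C₂))
  let p₁ : P →* C₁ := (MonoidHom.fst C₁ C₂).comp P.subtype
  let p₂ : P →* C₂ := (MonoidHom.snd C₁ C₂).comp P.subtype
  have s₁ : Function.Surjective p₁ := fun c => by
    obtain ⟨d, hd⟩ := h₂.1 (σ₁ c)
    exact ⟨⟨(c, d), hd.symm⟩, rfl⟩
  have s₂ : Function.Surjective p₂ := fun d => by
    obtain ⟨c, hc⟩ := h₁.1 (σ₂ d)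
    exact ⟨⟨(c, d), hc⟩, rfl⟩
  have hk : ∀ x : P, σ₁ (p₁ x) = σ₂ (p₂ x) := fun x => x.2
  have hext : ∀ x y : P, p₁ x = p₁ y → p₂ x = p₂ y → x = y := fun x y e f => Subtype.ext (Prod.ext e f)
  let σ : P →* G := σ₁.comp p₁
  have hm₁ : ∀ x : σ.ker, p₁ x ∈ σ₁.ker := fun x => x.2
  have hm₂ : ∀ x : σ.ker, p₂ x ∈ σ₂.ker := fun x => by
    rw [MonoidHom.mem_ker, ← hk]
    exact x.2
  let e : σ.ker ≃* ↥σ₁.ker × ↥σ₂.ker :=
    { toFun := fun x => (⟨p₁ x, hm₁ x⟩, ⟨p₂ x, hm₂ x⟩)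
      invFun := fun y => ⟨⟨((y.1 : C₁), (y.2 : C₂)),
        (MonoidHom.mem_ker.1 y.1.2).trans (MonoidHom.mem_ker.1 y.2.2).symm⟩, y.1.2⟩
      left_inv := fun x => rfl
      right_inv := fun y => rfl
      map_mul' := fun x y => rfl }
  have hcard : Nat.card σ.ker = a * b := by rw [Nat.card_congr e.toEquiv, Nat.card_prod, ha, hb]
  haveI : IsCyclic σ.ker := by
    haveI : IsCyclic (↥σ₁.ker × ↥σ₂.ker) := Group.isCyclic_prod_iff.2 ⟨c₁, c₂, by rw [ha, hb]; exact hab⟩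
    exact isCyclic_of_surjective e.symm.toMonoidHom e.symm.surjective
  have hcen : σ.ker ≤ center P := fun x hx => mem_center_iff.2 fun y => hext _ _ (by
      rw [map_mul, map_mul]; exact mem_center_iff.1 (h₁.2.1 (hm₁ ⟨x, hx⟩)) (p₁ y)) (by
      rw [map_mul, map_mul]; exact mem_center_iff.1 (h₂.2.1 (hm₂ ⟨x, hx⟩)) (p₂ y))
  have hlift : ∀ {C : Type} [Group C] (q : P →* C), Function.Surjective q → ∀ x ∈ commutator C,
      ∃ w ∈ commutator P, q w = x := fun {C} _ q hq x hx => by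
    rw [_root_.commutator_def, ← map_top_of_surjective q hq, ← map_commutator, ← _root_.commutator_def] at hx
    exact hx
  have hpow : ∀ (x : σ.ker), (x : P) ∈ commutator P := by
    intro x
    obtain ⟨w, hw, hwx⟩ := hlift p₁ s₁ _ (h₁.2.2 (hm₁ x))
    obtain ⟨v, hv, hvx⟩ := hlift p₂ s₂ _ (h₂.2.2 (hm₂ x))
    have hwk : σ w = 1 := by
      show σ₁ (p₁ w) = 1
      rw [hwx]; exact hm₁ x
    have hvk : σ v = 1 := by
      show σ₁ (p₁ v) = 1
      rw [hk, hvx]; exact hm₂ x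
    obtain ⟨k, k1, k2⟩ := (Nat.chineseRemainder hab 1 0)
    obtain ⟨l, l1, l2⟩ := (Nat.chineseRemainder hab 0 1)
    have pa : ∀ y : σ.ker, (p₁ y) ^ a = 1 := fun y => by
      have := congrArg Subtype.val (ha ▸ pow_card_eq_one' : (⟨p₁ y, hm₁ y⟩ : σ₁.ker) ^ a = 1)
      simpa using this
    have pb : ∀ y : σ.ker, (p₂ y) ^ b = 1 := fun y => by
      have := congrArg Subtype.val (hb ▸ pow_card_eq_one' : (⟨p₂ y, hm₂ y⟩ : σ₂.ker) ^ b = 1)
      simpa using this
    have hx' : (x : P) = w ^ k * v ^ l := by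
      refine hext _ _ ?_ ?_
      · rw [map_mul, map_pow, map_pow, pow_eq_pow_of_modEq k1 (pa ⟨w, hwk⟩), pow_one,
          pow_eq_pow_of_modEq l1 (pa ⟨v, hvk⟩), pow_zero, mul_one, hwx]
      · rw [map_mul, map_pow, map_pow, pow_eq_pow_of_modEq k2 (pb ⟨w, hwk⟩), pow_zero,
          pow_eq_pow_of_modEq l2 (pb ⟨v, hvk⟩), pow_one, one_mul, hvx]
    rw [hx']
    exact mul_mem (pow_mem hw _) (pow_mem hv _)
  haveI : Finite P := inferInstance
  refine Cfsg.Lib.Schur.hasSchurMultiplier_of_cover hG (σ₀ := σ)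
    ⟨h₁.1.comp s₁, hcen, fun x hx => hpow ⟨x, hx⟩⟩ (fun p hp => ?_)
    (mulEquivOfCyclicCardEq (G := σ.ker) (G' := Multiplicative (ZMod (a * b))) (by
      rw [hcard]
      simp))
  have k₁ : p₁.ker ≤ σ.ker := fun x hx => show σ₁ (p₁ x) = 1 by rw [MonoidHom.mem_ker.1 hx, map_one]
  have k₂ : p₂.ker ≤ σ.ker := fun x hx => show σ₁ (p₁ x) = 1 by rw [hk, MonoidHom.mem_ker.1 hx, map_one]
  rcases hno p hp with ⟨hb', h⟩ | ⟨ha', h⟩
  · refine noStem_of_coprime_quot hp p₁ s₁ (k₁.trans hcen) (fun hd => hb' (hd.trans ?_)) h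
    rw [← hb]
    exact Subgroup.card_dvd_of_injective 
      ((p₂.comp p₁.ker.subtype).codRestrict σ₂.ker fun x => hm₂ ⟨x, k₁ x.2⟩)
      (fun x y e => Subtype.ext (hext _ _ (x.2.trans y.2.symm) (congrArg Subtype.val e)))
  · refine noStem_of_coprime_quot hp p₂ s₂ (k₂.trans hcen) (fun hd => ha' (hd.trans ?_)) h
    rw [← ha]
    exact Subgroup.card_dvd_of_injective 
      ((p₁.comp p₂.ker.subtype).codRestrict σ₁.ker fun x => hm₁ ⟨x, k₂ x.2⟩)
      (fun x y e => Subtype.ext (hext _ _ (congrArg Subtype.val e) (x.2.trans y.2.symm)))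

end Cfsg.Lib.PermAut
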