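import Cfsg.Agent.Lib.PermAut.HsPsuCheck
import Cfsg.Agent.Lib.MinusSix.Main
import Cfsg.Agent.Lib.Linear.UnitaryCenter
import Cfsg.Agent.S2149

/-!
# The Higman–Sims group on 352 vectors, with the unitary group as point stabiliser
-/

set_option autoImplicit false
set_option maxRecDepth 100000

namespace Cfsg.Lib.PermAut.HsPsu

open Cfsg Cfsg.Lib.PermAut Cfsg.Lib.Concrete Equiv MulAction
open scoped Matrix
open Cfsg.Lib.U35 (R)

local notation "zP" => (some 0 : GolayPt)

instance : NeZero 100 := ⟨by norm_num⟩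
instance : NeZero 126 := ⟨by norm_num⟩
instance : NeZero 226 := ⟨by norm_num⟩

/-- The 352 vectors of a pair. -/
def orbSet (v w : leechLattice) : Set leechLattice :=
  {x | sqNorm (x : GolayPt → ℤ) = 32 ∧ dotInt (v : GolayPt → ℤ) (x : GolayPt → ℤ) = 16 ∧
    dotInt (w : GolayPt → ℤ) (x : GolayPt → ℤ) = -24}

theorem smul_orbSet {v w : leechLattice} (k : ↥Co0) {y : leechLattice} :
    k • y ∈ orbSet (k • v) (k • w) ↔ y ∈ orbSet v w := by
  simp only [orbSet, Set.mem_setOf_eq, co0_sqNorm, co0_dot]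

theorem flip_orbSet {v w x : leechLattice} (hw : sqNorm (w : GolayPt → ℤ) = 48)
    (hvw : dotInt (v : GolayPt → ℤ) (w : GolayPt → ℤ) = -32) (hx : x ∈ orbSet v w) : -w - x ∈ orbSet v w := by
  obtain ⟨h1, h2, h3⟩ := hx
  have e : ((-w - x : leechLattice) : GolayPt → ℤ) = -((w : GolayPt → ℤ) + (x : GolayPt → ℤ)) := by
    rw [AddSubgroup.coe_sub, AddSubgroup.coe_neg]; abel
  refine ⟨?_, ?_, ?_⟩
  · rw [e, sqNorm_neg', sqNorm_add, hw, h1, h3]; norm_num
  · rw [e, dotInt_neg_right, dotInt_add_right, hvw, h2]; norm_num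
  · rw [e, dotInt_neg_right, dotInt_add_right, dotInt_self, hw, h3]; norm_num

/-! ### The size of the set -/

/-- The even members. -/
def evens : List (GolayPt → ℤ) := (octList.filter fun m => m.testBit 0 && !m.testBit 23).map fun m => twoPt (mset m)

/-- All members. -/
def cands : List (GolayPt → ℤ) := evens ++ evens.map fun f => -(fiveVecNeg + f)

theorem even_mem {x : leechLattice} (hx : x ∈ orbSet fiveL fiveNegL) (he : (x : GolayPt → ℤ) none % 2 = 0) :
    (x : GolayPt → ℤ) ∈ evens := by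
  obtain ⟨h1, h2, h3⟩ := hx
  generalize hf : (x : GolayPt → ℤ) = f at h1 h2 h3 he
  have hs : f ∈ shell 32 := hf ▸ mem_shell.2 ⟨x.2, hf.symm ▸ h1⟩
  have d1 : dotInt fiveVec f = 4 * f none + ∑ p, f p := by
    rw [dotInt, ← Finset.sum_erase_add _ _ (Finset.mem_univ none), ← Finset.sum_erase_add _ f (Finset.mem_univ none),
      Finset.sum_congr rfl fun p hp => show fiveVec p * f p = f p by
        rw [fiveVec, if_neg (Finset.ne_of_mem_erase hp), one_mul]]
    simp only [fiveVec, if_true]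
    ring
  have d2 : dotInt fiveVecNeg f = -(4 * f zP + ∑ p, f p) := by
    rw [dotInt, ← Finset.sum_erase_add _ _ (Finset.mem_univ zP), ← Finset.sum_erase_add _ f (Finset.mem_univ zP),
      Finset.sum_congr rfl fun p hp => show fiveVecNeg p * f p = -f p by
        rw [fiveVecNeg, if_neg (Finset.ne_of_mem_erase hp)]; ring,
      Finset.sum_neg_distrib]
    simp only [fiveVecNeg, if_true]
    ring
  have e1 : dotInt fiveVec f = 16 := h2
  have e2 : dotInt fiveVecNeg f = -24 := h3
  rcases even_shape32 hs he with ⟨hall, -⟩ | ⟨hall, ho⟩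
  · rcases hall none with a | a | a <;> rcases hall zP with b | b | b <;> omega
  · set o := absSet f 2
    have hout : ∀ p, p ∉ o → f p = 0 := fun p hp => by
      rcases hall p with a | a | a
      · exact a
      all_goals exact absurd (mem_absSet.2 (by rw [a]; norm_num)) hp
    have hsum : ∑ p, f p = ∑ p ∈ o, f p := (Finset.sum_subset (Finset.subset_univ o) fun p _ hp => hout p hp).symm
    have hle : ∀ p ∈ o, f p ≤ 2 := fun p _ => by rcases hall p with a | a | a <;> omega
    have hb : ∑ p ∈ o, f p ≤ 16 := by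
      refine (Finset.sum_le_sum hle).trans ?_
      rw [Finset.sum_const, ho.2]; norm_num
    have hz : f zP = 2 ∧ f none = 0 := by
      rcases hall none with a | a | a <;> rcases hall zP with b | b | b <;> omega
    have heq : ∑ p ∈ o, f p = ∑ _p ∈ o, (2 : ℤ) := by
      rw [Finset.sum_const, ho.2, nsmul_eq_mul]
      push_cast
      omega
    have hf2 : f = twoPt o := funext fun p => by
      by_cases hp : p ∈ o
      · rw [twoPt, if_pos hp]; exact (Finset.sum_eq_sum_iff_of_le hle).1 heq p hp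
      · rw [twoPt, if_neg hp]; exact hout p hp
    obtain ⟨m, hm, hmo⟩ := mem_octads_iff.1 ho
    have hA : none ∉ o := fun h => by
      have := hz.2; rw [hf2, twoPt, if_pos h] at this; omega
    have hB : zP ∈ o := by
      by_contra h; have := hz.1; rw [hf2, twoPt, if_neg h] at this; omega
    rw [← hmo, mem_mset] at hA hB
    simp only [evens, List.mem_map, List.mem_filter, Bool.and_eq_true, Bool.not_eq_true']
    exact ⟨m, ⟨hm, by simpa [gidx] using hB, by simpa [gidx] using hA⟩, by rw [hmo, hf2]⟩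

theorem mem_cands {x : leechLattice} (hx : x ∈ orbSet fiveL fiveNegL) : (x : GolayPt → ℤ) ∈ cands := by
  by_cases he : (x : GolayPt → ℤ) none % 2 = 0
  · exact List.mem_append_left _ (even_mem hx he)
  refine List.mem_append_right _ (List.mem_map.2 ⟨_, even_mem (flip_orbSet fiveNegL_norm five_dot hx) ?_, ?_⟩)
  · show (-fiveVecNeg none - (x : GolayPt → ℤ) none) % 2 = 0
    simp only [fiveVecNeg, show (none : GolayPt) ≠ zP from nofun, if_false]
    omega
  · rw [AddSubgroup.coe_sub, AddSubgroup.coe_neg]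
    show -(fiveVecNeg + (-fiveVecNeg - (x : GolayPt → ℤ))) = _
    abel

theorem key_mem {k : ℕ} (hk : k ∈ keys) : keyL k ∈ orbSet fiveL fiveNegL := by
  have h : sqNorm (codeVec k) = 32 ∧ dotInt fiveVec (codeVec k) = 16 ∧ dotInt fiveVecNeg (codeVec k) = -24 := by
    have hA := valsA
    have hB := valsB
    simp only [List.all_eq_true, Bool.and_eq_true, beq_iff_eq] at hA hB
    rcases List.mem_append.1 hk with h | h
    · exact ⟨(hA k h).1.1, (hA k h).1.2, (hA k h).2⟩
    · exact ⟨(hB k h).1.1, (hB k h).1.2, (hB k h).2⟩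
  have e := keyL_val ((keysOk_spec keys_ok.1).2 k hk).2
  exact ⟨by rw [e]; exact h.1, by rw [e]; exact h.2.1, by rw [e]; exact h.2.2⟩

/-- The index of a key as a vector. -/
noncomputable def orbPt (i : Fin 352) : leechLattice := keyL (keys.getD i 0)

theorem orbPt_mem_keys (i : Fin 352) : keys.getD i 0 ∈ keys := by
  rw [List.getD_eq_getElem _ _ (keys_ok.2.1.symm ▸ i.isLt)]
  exact List.getElem_mem _

theorem orbSet_eq : orbSet fiveL fiveNegL = Set.range orbPt ∧ (orbSet fiveL fiveNegL).ncard = 352 := by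
  classical
  have hinj : Function.Injective orbPt := fun i j h =>
    Fin.ext (keyL_inj keys_ok.1 (keys_ok.2.1.symm ▸ i.isLt) (keys_ok.2.1.symm ▸ j.isLt) h)
  have hsub : Set.range orbPt ⊆ orbSet fiveL fiveNegL := by
    rintro _ ⟨i, rfl⟩; exact key_mem (orbPt_mem_keys i)
  have hcand : Subtype.val '' orbSet fiveL fiveNegL ⊆ (↑cands.toFinset : Set (GolayPt → ℤ)) := by
    rintro _ ⟨x, hx, rfl⟩; exact List.mem_toFinset.2 (mem_cands hx)
  have hle : (orbSet fiveL fiveNegL).ncard ≤ 352 := by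
    rw [← Set.ncard_image_of_injective _ Subtype.val_injective]
    refine (Set.ncard_le_ncard hcand (Finset.finite_toSet _)).trans ?_
    rw [Set.ncard_coe_finset]
    refine (List.toFinset_card_le _).trans (le_of_eq ?_)
    simp only [cands, evens, List.length_append, List.length_map, evens_count]
  have hfin : (orbSet fiveL fiveNegL).Finite :=
    Set.Finite.of_finite_image ((Finset.finite_toSet _).subset hcand) Subtype.val_injective.injOn
  have hr : (Set.range orbPt).ncard = 352 := by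
    rw [← Set.image_univ, Set.ncard_image_of_injective _ hinj, Set.ncard_univ, Nat.card_fin]
  have heq := Set.eq_of_subset_of_ncard_le hsub (hr.symm ▸ hle) hfin
  exact ⟨heq.symm, heq ▸ hr⟩

/-! ### Transitivity -/

/-- The stabiliser of the pair. -/
noncomputable def GG : Subgroup ↥Co0 := stabilizer ↥Co0 fiveL ⊓ stabilizer ↥Co0 fiveNegL

theorem five_vecs : keyL 0x377777777777777777777777 = -fiveL ∧
    keyL 0x377777777777777777777777 + keyL 0xc88888888888888888888884 = fiveNegL := by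
  obtain ⟨-, h⟩ := keysOk_spec Hs.fix_key_check
  obtain ⟨hV, hW⟩ := five_keys
  have eV := keyL_val (h 0x377777777777777777777777 (by simp)).2
  have eU := keyL_val (h 0xc88888888888888888888884 (by simp)).2
  refine ⟨Subtype.ext ?_, Subtype.ext ?_⟩
  · rw [eV, AddSubgroup.coe_neg]; exact funext hV
  · rw [AddSubgroup.coe_add, eV, eU]; exact funext hW

theorem mem_GG_of_fix {g : ↥Co0} (h1 : g • keyL 0x377777777777777777777777 = keyL 0x377777777777777777777777)
    (h2 : g • keyL 0xc88888888888888888888884 = keyL 0xc88888888888888888888884) : g ∈ GG := by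
  refine ⟨?_, ?_⟩
  · show co0Hom g fiveL = fiveL
    rw [show fiveL = -keyL 0x377777777777777777777777 by rw [five_vecs.1, neg_neg], map_neg]
    exact congrArg Neg.neg h1
  · show co0Hom g fiveNegL = fiveNegL
    rw [← five_vecs.2, map_add]
    exact congrArg₂ (· + ·) h1 h2

theorem gens_GG : ∀ M (hM : matOk M = true), M ∈ [Hs.matA, Hs.matC, Hs.matD] → matCo0 M hM ∈ GG := by
  intro M hM hmem
  obtain ⟨hA, hC, hD⟩ := Hs.mat_check
  have key : ∀ {m}, matOkB m fixK = true → ∀ hm : matOk m = true, matCo0 m hm ∈ GG := fun {m} h hm =>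
    mem_GG_of_fix (fix_of_check Hs.fix_key_check h hm (by simp)) (fix_of_check Hs.fix_key_check h hm (by simp))
  simp only [List.mem_cons, List.not_mem_nil, or_false] at hmem
  rcases hmem with rfl | rfl | rfl
  exacts [key hA hM, key hC hM, key hD hM]

theorem reach : ∀ i < 352, ∃ g ∈ GG, g • keyL (keys.getD 0 0) = keyL (keys.getD i 0) := by
  intro i
  induction i using Nat.strong_induction_on with
  | _ i ih =>
    intro hi
    by_cases h0 : i = 0
    · subst h0; exact ⟨1, one_mem _, one_smul _ _⟩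
    have h := List.all_eq_true.1 tree_ok i (List.mem_range.2 (keys_ok.2.1.symm ▸ hi))
    have hb : Nat.beq i 0 = false := by
      rcases e : Nat.beq i 0
      · rfl
      · exact absurd (Nat.eq_of_beq_eq_true e) h0
    rw [hb, cond_false] at h
    simp only [Bool.and_eq_true, Nat.blt, Nat.ble_eq] at h
    obtain ⟨⟨hp, hg⟩, hst⟩ := h
    obtain ⟨k, hk, hk'⟩ := ih _ hp (lt_trans hp hi)
    obtain ⟨hA, hC, hD⟩ := Hs.mat_check
    have hc := cols_ok
    simp only [beq_iff_eq, List.map_cons, List.map_nil] at hc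
    set G := (tree.getD i (0, 0)).2 with hG
    obtain ⟨M, hmem, hM, hb', hst'⟩ : ∃ M, M ∈ [Hs.matA, Hs.matC, Hs.matD] ∧ matOk M = true ∧ boundOk M = true ∧
        stepOk (packCols M) (keys.getD (tree.getD i (0, 0)).1 0) (keys.getD i 0) = true := by
      have hs := stepOk_of_nat hst
      have hlen : genCols.length = 3 := by simpa using (congrArg List.length hc).symm
      obtain ⟨c0, c1, c2, hc3⟩ := List.length_eq_three.1 hlen
      rw [hc3, List.map_cons, List.map_cons, List.map_cons, List.map_nil, List.cons.injEq, List.cons.injEq,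
        List.cons.injEq] at hc
      rw [hc3] at hs
      rcases (show G = 0 ∨ G = 1 ∨ G = 2 by omega) with e | e | e <;> rw [e] at hs
      · exact ⟨_, by simp, matOk_of hA, boundOk_of hA, hc.1 ▸ hs⟩
      · exact ⟨_, by simp, matOk_of hC, boundOk_of hC, hc.2.1 ▸ hs⟩
      · exact ⟨_, by simp, matOk_of hD, boundOk_of hD, hc.2.2.1 ▸ hs⟩
    have hmemk : ∀ j < 352, inLeech (codeVec (keys.getD j 0)) = true := fun j hj =>
      ((keysOk_spec keys_ok.1).2 _ (orbPt_mem_keys ⟨j, hj⟩)).2
    refine ⟨matCo0 M hM * k, mul_mem (gens_GG M hM hmem) hk, ?_⟩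
    rw [mul_smul, hk']
    exact smul_keyL hM hb' (hmemk _ (lt_trans hp hi)) (hmemk i hi) hst'

/-- The standard vector. -/
noncomputable def x0 : leechLattice := keyL (keys.getD 0 0)

theorem x0_mem : x0 ∈ orbSet fiveL fiveNegL := key_mem (orbPt_mem_keys ⟨0, by norm_num⟩)

theorem exists_to_x0 {x : leechLattice} (hx : x ∈ orbSet fiveL fiveNegL) : ∃ g ∈ GG, g • x0 = x := by
  rw [orbSet_eq.1] at hx
  obtain ⟨i, rfl⟩ := hx
  exact reach i i.isLt

theorem exists_trans {v w x x' : leechLattice} (k : ↥Co0) (hv : k • fiveL = v) (hw : k • fiveNegL = w)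
    (hx : x ∈ orbSet v w) (hx' : x' ∈ orbSet v w) : ∃ g : ↥Co0, g • v = v ∧ g • w = w ∧ g • x = x' := by
  subst hv hw
  obtain ⟨y, rfl⟩ := MulAction.surjective k x
  obtain ⟨y', rfl⟩ := MulAction.surjective k x'
  obtain ⟨a, ha, rfl⟩ := exists_to_x0 ((smul_orbSet k).1 hx)
  obtain ⟨b, hb, rfl⟩ := exists_to_x0 ((smul_orbSet k).1 hx')
  obtain ⟨g1, g2⟩ := mul_mem hb (inv_mem ha)
  refine ⟨k * (b * a⁻¹) * k⁻¹, ?_, ?_, ?_⟩ <;> rw [mul_smul, mul_smul, inv_smul_smul]
  · rw [show (b * a⁻¹) • fiveL = fiveL from g1]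
  · rw [show (b * a⁻¹) • fiveNegL = fiveNegL from g2]
  · rw [mul_smul b, inv_smul_smul]

/-! ### The stabiliser on the hundred points -/

/-- The stabiliser of the standard vector in the pair stabiliser. -/
noncomputable def KS : Subgroup ↥Co0 := GG ⊓ stabilizer ↥Co0 x0

theorem card_KS : Nat.card ↥KS = 126000 := by
  have h := card_inf_stabilizer GG x0 (orbSet fiveL fiveNegL)
    (fun g hg => by
      have := (smul_orbSet g).2 x0_mem
      rwa [show g • fiveL = fiveL from hg.1, show g • fiveNegL = fiveNegL from hg.2] at this)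
    fun w hw => exists_to_x0 hw
  rw [orbSet_eq.2, show Nat.card ↥GG = 44352000 from card_hs fiveL fiveNegL fiveL_norm fiveNegL_norm five_dot] at h
  show Nat.card ↥(GG ⊓ stabilizer ↥Co0 x0) = 126000
  omega

theorem el_KS {m : List (List ℤ)} (h : matOkB m fixX = true) : matCo0 m (matOk_of h) ∈ KS := by
  refine ⟨mem_GG_of_fix (fix_of_check fixX_ok h _ (by simp [fixX])) (fix_of_check fixX_ok h _ (by simp [fixX])), ?_⟩
  show matCo0 m _ • x0 = x0
  rw [x0, keys_ok.2.2]
  exact fix_of_check fixX_ok h _ (by simp [fixX])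

theorem stab_valid : stabSub.Valid 7 100 := Sub.valid stab_ok

theorem stab_equiv : Nonempty (↥KS ≃* ↥(stabSub.grp 7 100)) := by
  obtain ⟨hk, hlen⟩ := Hs.key_check
  let pt : Fin 100 → leechLattice := fun x => keyL (Hs.ptKeys.getD x 0)
  have hinj : Function.Injective pt := fun i j h =>
    Fin.ext (keyL_inj hk (by rw [hlen, hs_cert_eq.1]; exact i.isLt) (by rw [hlen, hs_cert_eq.1]; exact j.isLt) h)
  have V := stab_valid
  have hmv : ∀ {m : List (List ℤ)} {T : ℕ} (hm : matOkB m fixX = true), movesOk Hs.cert m T Hs.ptKeys Hs.ptKeys = true →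
      Rep 7 (toP 7 100 T) T → ∀ x, matCo0 m (matOk_of hm) • pt x = pt (toP 7 100 T x) := by
    intro m T hm h hT x
    simp only [movesOk, List.all_eq_true, List.mem_range, Bool.or_eq_true, or_self] at h
    have hx := h x (by rw [hs_cert_eq.1]; exact x.isLt)
    rw [hs_cert_eq.2, ← hT x] at hx
    have hmem : ∀ i : Fin 100, inLeech (codeVec (Hs.ptKeys.getD i 0)) = true := fun i =>
      ((keysOk_spec hk).2 _ (by
        rw [List.getD_eq_getElem _ _ (by rw [hlen, hs_cert_eq.1]; exact i.isLt)]; exact List.getElem_mem _)).2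
    exact smul_keyL _ (boundOk_of hm) (hmem x) (hmem _) hx
  let sA : ↥KS := ⟨_, el_KS matG_ok⟩
  let sB : ↥KS := ⟨_, el_KS matH_ok⟩
  let T : Subgroup (↥KS × Perm (Fin 100)) :=
    Subgroup.closure {(sA, toP 7 100 stabSub.g0), (sB, toP 7 100 stabSub.g1)}
  have hT : T ≤ actPairs pt := by
    rw [Subgroup.closure_le]
    rintro u (rfl | rfl)
    · exact hmv matG_ok move_g V.g0
    · exact hmv matH_ok move_h V.g1
  let p1 : T →* ↥KS := (MonoidHom.fst _ _).comp T.subtype
  let p2 : T →* Perm (Fin 100) := (MonoidHom.snd _ _).comp T.subtype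
  have h1 : Function.Injective p1 := (injective_iff_map_eq_one p1).2 fun u hu => by
    refine Subtype.ext (Prod.ext hu (Equiv.ext fun x => hinj ?_))
    have := hT u.2 x
    rw [show (u : ↥KS × Perm (Fin 100)).1 = 1 from hu, one_smul] at this
    exact this.symm
  have hr : p2.range = stabSub.grp 7 100 := by
    rw [MonoidHom.range_comp, Subgroup.range_subtype, MonoidHom.map_closure, Sub.grp]
    simp [Set.image_insert_eq]
  haveI : Finite ↥KS := Nat.finite_of_card_ne_zero (by rw [card_KS]; norm_num)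
  haveI : Finite T := Finite.of_injective p1 h1
  have hle : Nat.card ↥(stabSub.grp 7 100) ≤ Nat.card T := by
    rw [← hr]
    exact Nat.card_le_card_of_surjective p2.rangeRestrict p2.rangeRestrict_surjective
  have hc := V.card
  rw [sizes.1] at hc
  have hTG : Nat.card T ≤ Nat.card ↥KS := Nat.card_le_card_of_injective p1 h1
  have hKS := card_KS
  have b1 : Function.Bijective p1 := (Nat.bijective_iff_injective_and_card _).2 ⟨h1, by omega⟩
  have b2 : Function.Bijective p2.rangeRestrict := by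
    refine (Nat.bijective_iff_surjective_and_card _).2 ⟨p2.rangeRestrict_surjective, ?_⟩
    rw [hr]; omega
  exact ⟨(MulEquiv.ofBijective p1 b1).symm.trans
    ((MulEquiv.ofBijective p2.rangeRestrict b2).trans (MulEquiv.subgroupCongr hr))⟩

/-! ### The unitary group on isotropic points -/

theorem card_psu : Nat.card (PSU 3 R 5) = 126000 := Cfsg.Agent.S2149.card_G card_field

theorem herm_of {M : Matrix (Fin 3) (Fin 3) R} (h : Mᵀ * M.map (fun x => x ^ 5) = 1) (u v : Fin 3 → R) :
    hermForm 3 R 5 (M *ᵥ u) (M *ᵥ v) = hermForm 3 R 5 u v := by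
  have hm : (fun i => (M *ᵥ v) i ^ 5) = M.map (fun x => x ^ 5) *ᵥ fun i => v i ^ 5 := by
    ext1 i
    simp only [Matrix.mulVec, dotProduct, Fin.sum_univ_three, Matrix.map_apply, pow_five_add, mul_pow]
  show (M *ᵥ u) ⬝ᵥ (fun i => (M *ᵥ v) i ^ 5) = u ⬝ᵥ fun i => v i ^ 5
  rw [hm, Matrix.dotProduct_mulVec, Matrix.vecMul_mulVec, h, Matrix.vecMul_one]

/-- The matrix of an element. -/
noncomputable def mm : ↥(SU 3 R 5) →* Matrix (Fin 3) (Fin 3) R := (slToMat 3 R).comp (SU 3 R 5).subtype

/-- The first unitary matrix. -/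
noncomputable def suX : ↥(SU 3 R 5) := ⟨⟨fmat matX, unit_x.1⟩, herm_of unit_x.2⟩

/-- The second unitary matrix. -/
noncomputable def suY : ↥(SU 3 R 5) := ⟨⟨fmat matY, unit_y.1⟩, herm_of unit_y.2⟩

/-- The isotropic points. -/
def ip (j : Fin 126) : Fin 3 → R := fvec (ptsCode.getD j 0)

theorem ip_norm (j : Fin 126) : ptsCode.getD j 0 < 15625 ∧ ∃ i, ip j i = 1 ∧ ∀ k, k < i → ip j k = 0 := by
  have h := pts_ok
  simp only [ptsB, Bool.and_eq_true, List.all_eq_true, Nat.blt, Nat.ble_eq, Nat.beq_eq, decide_eq_true_eq] at h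
  obtain ⟨⟨h1, -⟩, hl⟩ := h
  refine h1 _ ?_
  rw [List.getD_eq_getElem _ _ (hl.symm ▸ j.isLt)]
  exact List.getElem_mem _

theorem code_inj {j k : Fin 126} (h : ptsCode.getD j 0 = ptsCode.getD k 0) : j = k := by
  have hp := pts_ok
  simp only [ptsB, Bool.and_eq_true, List.all_eq_true, List.mem_range, Nat.blt, Nat.ble_eq, Nat.beq_eq] at hp
  obtain ⟨⟨-, h2⟩, hl⟩ := hp
  have mono : ∀ a b, a < b → b < 126 → ptsCode.getD a 0 < ptsCode.getD b 0 := by
    intro a b hab
    induction b with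
    | zero => exact absurd hab (Nat.not_lt_zero _)
    | succ b ih =>
      intro hb
      have hs := h2 b (by omega)
      rcases Nat.lt_or_eq_of_le (Nat.le_of_lt_succ hab) with h' | rfl
      · exact (ih h' (by omega)).trans hs
      · exact hs
  rcases lt_trichotomy (j : ℕ) k with h' | h' | h'
  · exact absurd h (mono _ _ h' k.isLt).ne
  · exact Fin.ext h'
  · exact absurd h (mono _ _ h' j.isLt).ne'

theorem fvec_inj {a b : ℕ} (ha : a < 15625) (hb : b < 15625) (h : fvec a = fvec b) : a = b := by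
  have key : ∀ i : Fin 3, a / 25 ^ (i : ℕ) % 25 = b / 25 ^ (i : ℕ) % 25 := fun i => by
    refine fel_inj _ (Nat.mod_lt _ (by norm_num)) _ (Nat.mod_lt _ (by norm_num)) ?_
    have e : ∀ c, fel (c % 25) = fel c := fun c => by
      simp only [fel, show c % 25 % 5 = c % 5 by omega, show c % 25 / 5 % 5 = c / 5 % 5 by omega]
    rw [e, e]
    exact congrFun h i
  have h0 := key 0; have h1 := key 1; have h2 := key 2
  simp only [Fin.val_zero, Fin.val_one, Fin.val_two] at h0 h1 h2
  omega

theorem ip_smul {j k : Fin 126} {c : R} (h : ip j = c • ip k) : j = k := by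
  obtain ⟨hj, i, hi, hi0⟩ := ip_norm j
  obtain ⟨hk, i', hi', hi0'⟩ := ip_norm k
  have hc : c = 1 := by
    rcases lt_trichotomy i i' with hlt | rfl | hlt
    · rw [h, Pi.smul_apply, hi0' i hlt, smul_zero] at hi
      exact absurd hi zero_ne_one
    · rwa [h, Pi.smul_apply, hi', smul_eq_mul, mul_one] at hi
    · have := hi0 i' hlt
      rw [h, Pi.smul_apply, hi', smul_eq_mul, mul_one] at this
      rw [h, this, zero_smul] at hi
      exact absurd hi zero_ne_one
  rw [hc, one_smul] at h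
  exact code_inj (fvec_inj hj hk h)

/-- The pairs of a matrix and its permutation of the points. -/
noncomputable def linePairs : Subgroup (↥(SU 3 R 5) × Perm (Fin 126)) where
  carrier := {u | ∀ j, ∃ c : R, c ≠ 0 ∧ mm u.1 *ᵥ ip j = c • ip (u.2 j)}
  one_mem' := fun j => ⟨1, one_ne_zero, by simp⟩
  mul_mem' {u v} hu hv := fun j => by
    obtain ⟨c, hc, e⟩ := hv j
    obtain ⟨d, hd, e'⟩ := hu (v.2 j)
    exact ⟨c * d, mul_ne_zero hc hd, by
      rw [Prod.fst_mul, Prod.snd_mul, map_mul, ← Matrix.mulVec_mulVec, e, Matrix.mulVec_smul, e', smul_smul,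
        Perm.mul_apply]⟩
  inv_mem' {u} hu := fun j => by
    obtain ⟨c, hc, e⟩ := hu (u.2⁻¹ j)
    refine ⟨c⁻¹, inv_ne_zero hc, ?_⟩
    rw [show u.2 (u.2⁻¹ j) = j from Equiv.apply_symm_apply _ _] at e
    have h := congrArg (mm u.1⁻¹ *ᵥ ·) e
    simp only [Matrix.mulVec_mulVec, ← map_mul, inv_mul_cancel, map_one, Matrix.one_mulVec, Matrix.mulVec_smul] at h
    rw [Prod.fst_inv, Prod.snd_inv, h, smul_smul, inv_mul_cancel₀ hc, one_smul]

theorem pairs_of_act {g : ↥(SU 3 R 5)} {m : List (List ℕ)} {scal : List ℕ} {T : ℕ} (hg : mm g = fmat m)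
    (h : actB m ptsCode scal 7 T = true) (hT : Rep 7 (toP 7 126 T) T) : (g, toP 7 126 T) ∈ linePairs := by
  have hl : ptsCode.length = 126 := by
    have := pts_ok
    simp only [Bool.and_eq_true, Nat.beq_eq] at this
    exact this.2
  simp only [actB, List.all_eq_true, List.mem_range, Bool.and_eq_true, decide_eq_true_eq, hl] at h
  intro j
  obtain ⟨hne, he⟩ := h j j.isLt
  refine ⟨fel (scal.getD j 0), hne, funext fun i => ?_⟩
  rw [hg, Pi.smul_apply, smul_eq_mul, ip, ip, hT]
  exact he i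

/-- The frame. -/
def frameP : Matrix (Fin 3) (Fin 3) R := Matrix.of fun i k => fvec ([51, 76, 751].getD k 0) i

/-- The inverse of the frame. -/
def frameQ : Matrix (Fin 3) (Fin 3) R := fmat [[3, 4, 7], [3, 1, 22], [0, 0, 1]]

theorem frame_facts : frameP * frameQ = 1 ∧ frameQ * frameP = 1 ∧ (∀ i, (frameQ *ᵥ fvec 901) i ≠ 0) ∧
    [51, 76, 751, 901].map some = [0, 1, 6, 7].map fun j => ptsCode[j]? := by decide +kernel

theorem scalar_of_fix (M : Matrix (Fin 3) (Fin 3) R) (h : ∀ j, ∃ c : R, M *ᵥ ip j = c • ip j) :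
    ∃ c : R, M = Matrix.scalar (Fin 3) c := by
  obtain ⟨hPQ, hQP, hw, hix⟩ := frame_facts
  simp only [List.map_cons, List.map_nil, List.cons.injEq, and_true] at hix
  obtain ⟨i0, i1, i2, i3⟩ := hix
  have hv : ∀ (j : Fin 126) (k : ℕ), ptsCode[(j : ℕ)]? = some k → ∃ c : R, M *ᵥ fvec k = c • fvec k := fun j k hk => by
    obtain ⟨c, hc⟩ := h j
    rw [ip, List.getD_eq_getElem?_getD, hk] at hc
    exact ⟨c, hc⟩
  obtain ⟨c5, h5⟩ := hv 7 901 i3.symm
  have hcol : ∀ k : Fin 3, ∃ c : R, M *ᵥ fvec ([51, 76, 751].getD k 0) = c • fvec ([51, 76, 751].getD k 0) := by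
    intro k
    fin_cases k
    exacts [hv 0 51 i0.symm, hv 1 76 i1.symm, hv 6 751 i2.symm]
  choose d hd using hcol
  have hMP : M * frameP = frameP * Matrix.diagonal d := by
    refine Matrix.ext fun i k => ?_
    rw [Matrix.mul_diagonal]
    exact ((congrFun (hd k) i).trans (mul_comm _ _) : (M *ᵥ _) i = _)
  have hdiag : Matrix.diagonal d *ᵥ (frameQ *ᵥ fvec 901) = c5 • (frameQ *ᵥ fvec 901) := by
    have e : frameP *ᵥ (Matrix.diagonal d *ᵥ (frameQ *ᵥ fvec 901)) = c5 • fvec 901 := by
      rw [Matrix.mulVec_mulVec, ← hMP, ← Matrix.mulVec_mulVec, Matrix.mulVec_mulVec (fvec 901) frameP, hPQ,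
        Matrix.one_mulVec, h5]
    have e' := congrArg (frameQ *ᵥ ·) e
    simpa only [Matrix.mulVec_mulVec, Matrix.mulVec_smul, ← Matrix.mul_assoc, hQP, Matrix.one_mul] using e'
  have hdc : d = fun _ => c5 := funext fun i => by
    have := congrFun hdiag i
    rw [Matrix.mulVec_diagonal, Pi.smul_apply, smul_eq_mul] at this
    exact mul_right_cancel₀ (hw i) this
  refine ⟨c5, ?_⟩
  calc M = M * frameP * frameQ := by rw [Matrix.mul_assoc, hPQ, Matrix.mul_one]
    _ = frameP * Matrix.scalar (Fin 3) c5 * frameQ := by rw [hMP, hdc]; rfl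
    _ = Matrix.scalar (Fin 3) c5 * (frameP * frameQ) := by
      rw [← (Matrix.scalar_commute c5 (fun r => Commute.all c5 r) frameP).eq, Matrix.mul_assoc]
    _ = _ := by rw [hPQ, Matrix.mul_one]

theorem line_equiv : Nonempty (↥(lineSub.grp 7 126) ≃* PSU 3 R 5) := by
  have V := Sub.valid (b := 7) (N := 126) line_ok
  let T : Subgroup (↥(SU 3 R 5) × Perm (Fin 126)) :=
    Subgroup.closure {(suX, toP 7 126 lineSub.g0), (suY, toP 7 126 lineSub.g1)}
  have hT : T ≤ linePairs := by
    rw [Subgroup.closure_le]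
    rintro u (rfl | rfl)
    · exact pairs_of_act (g := suX) rfl act_x V.g0
    · exact pairs_of_act (g := suY) rfl act_y V.g1
  let p1 : T →* ↥(SU 3 R 5) := (MonoidHom.fst _ _).comp T.subtype
  let p2 : T →* Perm (Fin 126) := (MonoidHom.snd _ _).comp T.subtype
  let q : T →* PSU 3 R 5 := (QuotientGroup.mk' (Subgroup.center ↥(SU 3 R 5))).comp p1
  have hker : q.ker = p2.ker := by
    ext u
    rw [MonoidHom.mem_ker, MonoidHom.mem_ker,
      show q u = (QuotientGroup.mk (p1 u) : PSU 3 R 5) from rfl, QuotientGroup.eq_one_iff]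
    constructor
    · intro hz
      obtain ⟨c, hc⟩ := Cfsg.Lib.Linear.Herm.exists_scalar (show Fintype.card R = 5 ^ 2 from card_field)
        (by norm_num) (mm (p1 u)) fun B hB => congrArg mm (Subgroup.mem_center_iff.1 hz ⟨B, hB⟩)
      refine Equiv.ext fun j => ?_
      obtain ⟨d, hd, e⟩ := hT u.2 j
      have e1 : mm (p1 u) *ᵥ ip j = c • ip j := by
        rw [hc]; funext i; simp [Matrix.scalar_apply, Matrix.mulVec_diagonal]
      have e2 : c • ip j = d • ip (p2 u j) := e1.symm.trans e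
      have e3 : ip (p2 u j) = (d⁻¹ * c) • ip j := by rw [← smul_smul, e2, inv_smul_smul₀ hd]
      exact ip_smul e3
    · intro hp
      obtain ⟨c, hc⟩ := scalar_of_fix (mm (p1 u)) fun j => by
        obtain ⟨d, -, e⟩ := hT u.2 j
        rw [show (u : ↥(SU 3 R 5) × Perm (Fin 126)).2 = 1 from hp] at e
        exact ⟨d, e⟩
      refine Subgroup.mem_center_iff.2 fun B => Subtype.ext (Subtype.ext ?_)
      show mm B * mm (p1 u) = mm (p1 u) * mm B
      rw [hc]
      exact (Matrix.scalar_commute c (fun r => Commute.all c r) (mm B)).eq.symm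
  have hr : p2.range = lineSub.grp 7 126 := by
    rw [MonoidHom.range_comp, Subgroup.range_subtype, MonoidHom.map_closure, Sub.grp]
    simp [Set.image_insert_eq]
  let e : ↥p2.range ≃* ↥q.range := (QuotientGroup.quotientKerEquivRange p2).symm.trans
    ((QuotientGroup.quotientMulEquivOfEq hker.symm).trans (QuotientGroup.quotientKerEquivRange q))
  have hc : Nat.card ↥q.range = Nat.card (PSU 3 R 5) := by
    rw [← Nat.card_congr e.toEquiv, hr, V.card, sizes.2.2, card_psu]
  haveI : Finite (PSU 3 R 5) := Nat.finite_of_card_ne_zero (by rw [card_psu]; norm_num)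
  have htop : q.range = ⊤ := Subgroup.eq_top_of_card_eq _ hc
  exact ⟨(MulEquiv.subgroupCongr hr.symm).trans (e.trans ((MulEquiv.subgroupCongr htop).trans Subgroup.topEquiv))⟩

theorem ks_equiv : Nonempty (↥KS ≃* PSU 3 R 5) := by
  obtain ⟨eL⟩ := line_equiv
  obtain ⟨eS⟩ := stab_equiv
  have VP := Sub.valid (b := 8) (N := 226) pair_ok
  have VS := stab_valid
  have VL := Sub.valid (b := 7) (N := 126) line_ok
  have h := rest_ok
  have h' := rest_line_ok
  rw [Bool.and_eq_true] at h h'
  obtain ⟨ψ, -, hψ, -⟩ := exists_restrict_at VP (M := 100) (off := 0) (by norm_num) VS.g0 VS.g1 h.1 h.2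
  obtain ⟨φ, -, hφ, -⟩ := exists_restrict_at VP (M := 126) (off := 100) (by norm_num) VL.g0 VL.g1 h'.1 h'.2
  have hinj : ∀ {M : ℕ} [NeZero M] (f : ↥(pairSub.grp 8 226) →* Perm (Fin M)),
      Nat.card f.range = 126000 → Function.Injective f := fun {M} _ f hf => by
    have h := f.ker.card_mul_index
    rw [Subgroup.index_ker, hf, VP.card, sizes.2.1] at h
    rw [← MonoidHom.ker_eq_bot_iff, ← Subgroup.card_eq_one]
    omega
  have hψc : Nat.card ψ.range = 126000 := by rw [hψ, ← Sub.grp, VS.card, sizes.1]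
  have hφc : Nat.card φ.range = 126000 := by rw [hφ, ← Sub.grp, VL.card, sizes.2.2]
  let e1 : ↥(pairSub.grp 8 226) ≃* ↥(stabSub.grp 7 100) :=
    (MonoidHom.ofInjective (hinj ψ hψc)).trans (MulEquiv.subgroupCongr hψ)
  let e2 : ↥(pairSub.grp 8 226) ≃* ↥(lineSub.grp 7 126) :=
    (MonoidHom.ofInjective (hinj φ hφc)).trans (MulEquiv.subgroupCongr hφ)
  exact ⟨eS.trans (e1.symm.trans (e2.trans eL))⟩

theorem point_stabilizer {v w x : leechLattice} (k : ↥Co0) (hv : k • fiveL = v) (hw : k • fiveNegL = w)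
    (hx : x ∈ orbSet v w) (F : Type) [Field F] [Fintype F] (hF : Fintype.card F = 25) :
    Nonempty (↥(stabilizer ↥Co0 v ⊓ stabilizer ↥Co0 w ⊓ stabilizer ↥Co0 x) ≃* PSU 3 F 5) := by
  subst hv hw
  obtain ⟨y, rfl⟩ := MulAction.surjective k x
  obtain ⟨a, ⟨a1, a2⟩, rfl⟩ := exists_to_x0 ((smul_orbSet k).1 hx)
  have hc1 : (k * a) • fiveL = k • fiveL := by rw [mul_smul, show a • fiveL = fiveL from a1]
  have hc2 : (k * a) • fiveNegL = k • fiveNegL := by rw [mul_smul, show a • fiveNegL = fiveNegL from a2]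
  have hinj : Function.Injective (MulAut.conj (k * a)).toMonoidHom := (MulAut.conj (k * a)).injective
  show Nonempty (↥(stabilizer ↥Co0 (k • fiveL) ⊓ stabilizer ↥Co0 (k • fiveNegL) ⊓
    stabilizer ↥Co0 (k • a • x0)) ≃* PSU 3 F 5)
  rw [← hc1, ← hc2, ← mul_smul, stabilizer_smul_eq_stabilizer_map_conj, stabilizer_smul_eq_stabilizer_map_conj,
    stabilizer_smul_eq_stabilizer_map_conj, ← Subgroup.map_inf _ _ _ hinj, ← Subgroup.map_inf _ _ _ hinj]
  obtain ⟨e0⟩ := ks_equiv
  obtain ⟨e1⟩ := Cfsg.Lib.MinusSix.psu_congr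
    (FiniteField.ringEquivOfCardEq (K := R) (K' := F) (by rw [card_field, hF])) 3 5
  exact ⟨((Subgroup.equivMapOfInjective _ _ hinj).symm).trans (e0.trans e1)⟩

end Cfsg.Lib.PermAut.HsPsu
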