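import Cfsg.Agent.Lib.U35.Cert
import Cfsg.Agent.Lib.PermAut.Basic

/-!
# Tables of unitary matrices of dimension three on the isotropic points over the field of 25 elements
-/

set_option autoImplicit false

namespace Cfsg.Lib.PermAut.HsPsu

open Matrix Cfsg.Lib.U35

instance : Fact (Nat.Prime 5) := ⟨by norm_num⟩

instance : Fact (∀ r : ZMod 5, r ^ 2 ≠ 2 + 0 * r) := ⟨by decide⟩

theorem card_field : Fintype.card R = 25 := by
  rw [Fintype.card_congr (QuadraticAlgebra.equivProd (2 : ZMod 5) 0), Fintype.card_prod, ZMod.card]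

/-- The element with code `c`. -/
def fel (c : ℕ) : R := ⟨(c % 5 : ℕ), (c / 5 % 5 : ℕ)⟩

/-- The vector with code `k`. -/
def fvec (k : ℕ) : Fin 3 → R := fun i => fel (k / 25 ^ (i : ℕ))

/-- A matrix from rows of codes. -/
def fmat (m : List (List ℕ)) : Matrix (Fin 3) (Fin 3) R := fun i j => fel ((m.getD i []).getD j 0)

/-- The matrix maps the listed vectors to multiples of each other by the table. -/
noncomputable def actB (m : List (List ℕ)) (pts scal : List ℕ) (b T : ℕ) : Bool :=
  (List.range pts.length).all fun j =>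
    decide (fel (scal.getD j 0) ≠ 0) && decide (∀ i : Fin 3, ∑ k, fmat m i k * fvec (pts.getD j 0) k =
      fel (scal.getD j 0) * fvec (pts.getD (ent b T j) 0) i)

/-- The listed vectors are normalised and have increasing codes. -/
noncomputable def ptsB (pts : List ℕ) : Bool :=
  (pts.all fun k => Nat.blt k 15625 && decide (∃ i : Fin 3, fvec k i = 1 ∧ ∀ j : Fin 3, j < i → fvec k j = 0)) &&
    (List.range (pts.length - 1)).all fun j => Nat.blt (pts.getD j 0) (pts.getD (j + 1) 0)

theorem fel_inj : ∀ c < 25, ∀ d < 25, fel c = fel d → c = d := by decide +kernel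

theorem pow_five_add : ∀ x y : R, (x + y) ^ 5 = x ^ 5 + y ^ 5 := by decide +kernel

end Cfsg.Lib.PermAut.HsPsu
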