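import Cfsg.Agent.Lib.PermAut.HsPsuData
import Cfsg.Agent.Lib.PermAut.HsPsuField
import Cfsg.Agent.Lib.PermAut.RestrictAt
import Cfsg.Agent.Lib.PermAut.Hs
import Cfsg.Agent.Lib.Concrete.LeechHundred

/-!
# Checks for the action of the Higman–Sims group on 352 vectors
-/

set_option autoImplicit false
set_option maxRecDepth 100000
set_option Elab.async false

namespace Cfsg.Lib.PermAut.HsPsu

open Cfsg Cfsg.Lib.Concrete Matrix

/-- The keys of the orbit. -/
def keys : List ℕ := keysA ++ keysB

/-- The steps of the orbit. -/
def tree : List (ℕ × ℕ) := treeA ++ treeB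

/-- The keys of the fixed vectors. -/
def fixK : List ℕ := [0x377777777777777777777777, 0xc88888888888888888888884]

/-- The keys fixed by the stabiliser generators. -/
def fixX : List ℕ := [0x377777777777777777777777, 0xc88888888888888888888884, keysA.getD 0 0]

/-- Every key is reached from an earlier one by a generator. -/
noncomputable def treeOkB : Bool :=
  (List.range keys.length).all fun i =>
    bif Nat.beq i 0 then true else
      Nat.blt (tree.getD i (0, 0)).1 i && Nat.blt (tree.getD i (0, 0)).2 3 &&
        natStepOk (genCols.getD (tree.getD i (0, 0)).2 [])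
          (keys.getD (tree.getD i (0, 0)).1 0) (keys.getD i 0)

theorem keys_ok : keysOk keys = true ∧ keys.length = 352 ∧ keys.getD 0 0 = keysA.getD 0 0 := by decide +kernel

theorem cols_ok : ([Hs.matA, Hs.matC, Hs.matD].map packCols == genCols.map unshift) = true := by decide +kernel

theorem tree_ok : treeOkB = true := by decide +kernel

theorem fixX_ok : keysOk fixX = true := by decide +kernel

theorem five_keys : (∀ p : GolayPt, codeVec 0x377777777777777777777777 p = -fiveVec p) ∧
    ∀ p : GolayPt, codeVec 0x377777777777777777777777 p + codeVec 0xc88888888888888888888884 p = fiveVecNeg p := by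
  decide +kernel

theorem valsA : keysA.all (fun k => sqNorm (codeVec k) == 32 && dotInt fiveVec (codeVec k) == 16 &&
    dotInt fiveVecNeg (codeVec k) == -24) = true := by decide +kernel

theorem valsB : keysB.all (fun k => sqNorm (codeVec k) == 32 && dotInt fiveVec (codeVec k) == 16 &&
    dotInt fiveVecNeg (codeVec k) == -24) = true := by decide +kernel

theorem evens_count : (octList.filter fun m => m.testBit 0 && !m.testBit 23).length = 176 := by decide +kernel

theorem matG_ok : matOkB matG fixX = true := by decide +kernel

theorem matH_ok : matOkB matH fixX = true := by decide +kernel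

theorem move_g : movesOk Hs.cert matG stabSub.g0 Hs.ptKeys Hs.ptKeys = true := by decide +kernel

theorem move_h : movesOk Hs.cert matH stabSub.g1 Hs.ptKeys Hs.ptKeys = true := by decide +kernel

theorem hs_cert_eq : Hs.cert.N = 100 ∧ Hs.cert.b = 7 := by decide +kernel

theorem stab_ok : stabSub.ok 7 100 = true := by decide +kernel

theorem pair_ok : pairSub.ok 8 226 = true := by decide +kernel

theorem line_ok : lineSub.ok 7 126 = true := by decide +kernel

theorem sizes : stabSub.size = 126000 ∧ pairSub.size = 126000 ∧ lineSub.size = 126000 := by decide +kernel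

theorem rest_ok : (restAtB 8 7 100 0 pairSub.g0 stabSub.g0 && restAtB 8 7 100 0 pairSub.g1 stabSub.g1) = true := by
  decide +kernel

theorem rest_line_ok : (restAtB 8 7 126 100 pairSub.g0 lineSub.g0 && restAtB 8 7 126 100 pairSub.g1 lineSub.g1) = true := by
  decide +kernel

theorem pts_ok : (ptsB ptsCode && Nat.beq ptsCode.length 126) = true := by decide +kernel

theorem act_x : actB matX ptsCode scalX 7 lineSub.g0 = true := by decide +kernel

theorem act_y : actB matY ptsCode scalY 7 lineSub.g1 = true := by decide +kernel

theorem unit_x : (fmat matX).det = 1 ∧ (fmat matX)ᵀ * (fmat matX).map (fun x => x ^ 5) = 1 := by decide +kernel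

theorem unit_y : (fmat matY).det = 1 ∧ (fmat matY)ᵀ * (fmat matY).map (fun x => x ^ 5) = 1 := by decide +kernel

end Cfsg.Lib.PermAut.HsPsu
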