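import Cfsg.Agent.Lib.PermAut.Out

/-!
# Transporting a certificate along a faithful action
-/

set_option autoImplicit false

namespace Cfsg.Lib.PermAut

open Equiv

/-- The pairs of a group element and the permutation it induces on the points. -/
def actPairs {G Ω : Type*} [Group G] [MulAction G Ω] {N : ℕ} (P : Fin N → Ω) : Subgroup (G × Perm (Fin N)) where
  carrier := {u | ∀ x, u.1 • P x = P (u.2 x)}
  one_mem' := fun x => one_smul G (P x)
  mul_mem' {u v} hu hv := fun x => by
    show (u.1 * v.1) • P x = P (u.2 (v.2 x))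
    rw [mul_smul, hv, hu]
  inv_mem' {u} hu := fun x => by
    show u.1⁻¹ • P x = P (u.2⁻¹ x)
    rw [inv_smul_eq_iff, hu, Perm.coe_inv, Equiv.apply_symm_apply]

theorem exists_equiv {G Ω : Type*} [Group G] [Finite G] [MulAction G Ω] (c : Cert) [NeZero c.N] (hg : c.genB = true)
    (hG : Nat.card G = c.size) (P : Fin c.N → Ω) (hP : Function.Injective P) (sA sC sD : G)
    (hA : ∀ x, sA • P x = P (c.P c.a x)) (hC : ∀ x, sC • P x = P (c.P c.c x))
    (hD : ∀ x, sD • P x = P (c.P c.d x)) : Nonempty (G ≃* c.K) ∧ Nat.card c.K = c.size := by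
  let T : Subgroup (G × Perm (Fin c.N)) := Subgroup.closure {(sA, c.P c.a), (sC, c.P c.c), (sD, c.P c.d)}
  have hT : T ≤ actPairs P := by
    rw [Subgroup.closure_le]
    rintro u (rfl | rfl | rfl)
    exacts [hA, hC, hD]
  let p1 : T →* G := (MonoidHom.fst G _).comp T.subtype
  let p2 : T →* Perm (Fin c.N) := (MonoidHom.snd G _).comp T.subtype
  have h1 : Function.Injective p1 := (injective_iff_map_eq_one p1).2 fun u hu => by
    refine Subtype.ext (Prod.ext hu (Equiv.ext fun x => hP ?_))
    have := hT u.2 x
    rw [show (u : G × Perm (Fin c.N)).1 = 1 from hu, one_smul] at this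
    exact this.symm
  have hr : p2.range = c.K := by
    rw [MonoidHom.range_comp, Subgroup.range_subtype,
      MonoidHom.map_closure, Cert.K]
    simp [Set.image_insert_eq]
  haveI : Finite T := Finite.of_injective p1 h1
  have hle : Nat.card c.K ≤ Nat.card T := by
    rw [← hr]
    exact Nat.card_le_card_of_surjective p2.rangeRestrict p2.rangeRestrict_surjective
  have hTG : Nat.card T ≤ Nat.card G := Nat.card_le_card_of_injective p1 h1
  have hlow := Cert.size_le (Cert.gen_of_check hg)
  have hK : Nat.card c.K = c.size := le_antisymm (by omega) hlow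
  have b1 : Function.Bijective p1 := (Nat.bijective_iff_injective_and_card _).2 ⟨h1, by omega⟩
  have b2 : Function.Bijective p2.rangeRestrict := by
    refine (Nat.bijective_iff_surjective_and_card _).2 ⟨p2.rangeRestrict_surjective, ?_⟩
    rw [hr]; omega
  exact ⟨⟨(MulEquiv.ofBijective p1 b1).symm.trans
    ((MulEquiv.ofBijective p2.rangeRestrict b2).trans (MulEquiv.subgroupCongr hr))⟩, hK⟩

end Cfsg.Lib.PermAut
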