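import Cfsg.Agent.Lib.PermAut.MTwentyThree
import Cfsg.Agent.Lib.MathieuSylow.Model
import Cfsg.Agent.Lib.Concrete.OctadStab
import Cfsg.Agent.Lib.Concrete.FamStructure
import Cfsg.Agent.Lib.Concrete.LeechOrbits
import Cfsg.Agent.Lib.Concrete.SteinerCode

/-!
# Subgroups of index 759, 276, 1771 and 253 in M24

A subgroup invariant set is pulled back along a conjugating element to a union of orbits of a few
explicit permutations; the possible unions are inspected by the kernel.
-/

set_option autoImplicit false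
open scoped Pointwise

namespace Cfsg.Lib.PermAut.MTwentyFour

open Cfsg Cfsg.Lib.Concrete Cfsg.Lib.MathieuBlock MulAction

/-- All unions of some of the listed masks. -/
def unions : List ℕ → List ℕ
  | [] => [0]
  | m :: l => unions l ++ (unions l).map (fun n => m ||| n)

/-- One step of closing a mask under the generators. -/
def step (gens : List ℕ) (m : ℕ) : ℕ := gens.foldr (fun p a => pimg p m ||| a) m

/-- Iterated closing. -/
def closeN (gens : List ℕ) : ℕ → ℕ → ℕ
  | 0, m => m
  | n + 1, m => step gens (closeN gens n m)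

/-- The masks are orbits that cover everything. -/
def conn (gens cls : List ℕ) : Bool :=
  (cls.all fun m => Nat.blt m 16777216 &&
      bits24.all fun i => !m.testBit i || Nat.beq (Nat.land m (closeN gens 24 (1 <<< i))) m) &&
    (bits24.all fun i => cls.any fun m => m.testBit i)

/-- The set is invariant under the subgroup. -/
def Inv (L : Subgroup M24) (A : Finset GolayPt) : Prop := ∀ g ∈ L, g • A = A

/-- The permutations lie in the subgroup after conjugation by `c`. -/
def Emb (c : M24) (gens : List ℕ) (L : Subgroup M24) : Prop :=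
  ∀ p ∈ gens, ∃ g ∈ L, Cfsg.Lib.Concrete.Rep (((c⁻¹ * g * c : M24) : Equiv.Perm GolayPt)) p

/-- The pulled back mask. -/
noncomputable def pm (c : M24) (A : Finset GolayPt) : ℕ := fmask (c⁻¹ • A)

theorem mset_pm (c : M24) (A : Finset GolayPt) : mset (pm c A) = c⁻¹ • A := mset_fmask _

theorem mem_pm (c : M24) (A : Finset GolayPt) (y : GolayPt) :
    y ∈ A ↔ (pm c A).testBit (gidx (c⁻¹ • y)).val = true := by
  rw [← mem_mset, mset_pm, Finset.smul_mem_smul_finset_iff]

theorem card_pm (c : M24) (A : Finset GolayPt) : A.card = pcnt (pm c A) := by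
  rw [← mcnt_eq_pcnt, ← mset_card, mset_pm, Finset.card_smul_finset]

theorem pm_union (c : M24) (A B : Finset GolayPt) : pm c (A ∪ B) = pm c A ||| pm c B := by
  refine mset_inj (fmask_lt _) (Nat.or_lt_two_pow (fmask_lt _) (fmask_lt _)) ?_
  rw [mset_or, mset_pm, mset_pm, mset_pm, Finset.smul_finset_union]

theorem pm_inter (c : M24) (A B : Finset GolayPt) : pm c (A ∩ B) = pm c A &&& pm c B := by
  refine mset_inj (fmask_lt _) (Nat.and_lt_two_pow _ (fmask_lt _)) ?_
  rw [mset_and, mset_pm, mset_pm, mset_pm, Finset.smul_finset_inter]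

theorem pm_sub {c : M24} {A B : Finset GolayPt} (h : A ⊆ B) : pm c A &&& pm c B = pm c A := by
  rw [← pm_inter, Finset.inter_eq_left.2 h]

theorem pm_disj {c : M24} {A B : Finset GolayPt} (h : Disjoint A B) : pm c A &&& pm c B = 0 := by
  rw [← pm_inter, Finset.disjoint_iff_inter_eq_empty.1 h]
  refine mset_inj (fmask_lt _) (by norm_num) ?_
  rw [mset_pm, mset_zero, Finset.smul_finset_empty]

theorem eq_of_pm {c : M24} {A B : Finset GolayPt} (h : pm c A = pm c B) : A = B := by
  have := congrArg mset h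
  rw [mset_pm, mset_pm] at this
  exact (MulAction.injective c⁻¹) this

theorem eq_smul_of_pm {c : M24} {A : Finset GolayPt} {m : ℕ} (h : pm c A = m) : A = c • mset m := by
  rw [← h, mset_pm, smul_inv_smul]

/-- An invariant set pulls back to a union of the orbits. -/
theorem pull {c : M24} {gens cls : List ℕ} {L : Subgroup M24} {A : Finset GolayPt}
    (hck : conn gens cls = true) (he : Emb c gens L) (hA : Inv L A) : pm c A ∈ unions cls := by
  simp only [conn, Bool.and_eq_true, List.all_eq_true, List.any_eq_true, Bool.or_eq_true,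
    Bool.not_eq_true', Nat.beq_eq] at hck
  obtain ⟨hc1, hc2⟩ := hck
  set B := c⁻¹ • A with hB
  have hinv : ∀ p ∈ gens, ∀ m, mset m ⊆ B → mset (pimg p m) ⊆ B := by
    intro p hp m hm
    obtain ⟨g, hg, hr⟩ := he p hp
    rw [← hr.smul_mset]
    refine (Finset.smul_finset_subset_smul_finset hm).trans (le_of_eq ?_)
    show (c⁻¹ * g * c : M24) • c⁻¹ • A = c⁻¹ • A
    rw [mul_smul, mul_smul, smul_inv_smul, hA g hg]
  have hstep : ∀ m, mset m ⊆ B → mset (step gens m) ⊆ B := by
    intro m hm
    suffices ∀ l : List ℕ, (∀ p ∈ l, p ∈ gens) → mset (l.foldr (fun p a => pimg p m ||| a) m) ⊆ B from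
      this gens fun _ h => h
    intro l
    induction l with
    | nil => exact fun _ => hm
    | cons p l ih =>
      intro hl
      rw [List.foldr_cons, mset_or]
      exact Finset.union_subset (hinv p (hl p List.mem_cons_self) m hm)
        (ih fun q hq => hl q (List.mem_cons_of_mem p hq))
  have hclose : ∀ n m, mset m ⊆ B → mset (closeN gens n m) ⊆ B := by
    intro n
    induction n with
    | zero => exact fun _ h => h
    | succ n ih => exact fun m hm => hstep _ (ih m hm)
  have hcls : ∀ m ∈ cls, mset m ⊆ B ∨ Disjoint (mset m) B := by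
    intro m hm
    by_cases hd : Disjoint (mset m) B
    · exact Or.inr hd
    obtain ⟨y, hy, hyB⟩ := Finset.not_disjoint_iff.1 hd
    left
    rcases (hc1 m hm).2 _ (mem_bits24.2 (gidx y).isLt) with h | h
    · rw [mem_mset, h] at hy
      exact Bool.noConfusion hy
    · rw [← h]
      have h1 : mset (1 <<< (gidx y).val) ⊆ B := by
        intro z hz
        rw [mem_mset, Nat.one_shiftLeft, Nat.testBit_two_pow, decide_eq_true_eq] at hz
        exact (gidx_injective (Fin.ext hz)) ▸ hyB
      intro z hz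
      have hz' : z ∈ mset m ∩ mset (closeN gens 24 (1 <<< (gidx y).val)) := by rwa [← mset_and]
      exact hclose 24 _ h1 (Finset.mem_inter.1 hz').2
  have hU : ∀ l : List ℕ, (∀ m ∈ l, m ∈ cls) →
      ∃ n ∈ unions l, ∀ y, y ∈ mset n ↔ y ∈ B ∧ ∃ m ∈ l, y ∈ mset m := by
    intro l
    induction l with
    | nil => exact fun _ => ⟨0, by simp [unions], fun y => by simp [mset_zero]⟩
    | cons a l ih =>
      intro hl
      obtain ⟨n, hn, hiff⟩ := ih fun q hq => hl q (List.mem_cons_of_mem a hq)
      rcases hcls a (hl a List.mem_cons_self) with h | h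
      · refine ⟨a ||| n, List.mem_append_right _ (List.mem_map.2 ⟨n, hn, rfl⟩), fun y => ?_⟩
        rw [mset_or, Finset.mem_union, hiff]
        constructor
        · rintro (hy | ⟨hy, m, hm, hym⟩)
          · exact ⟨h hy, a, List.mem_cons_self, hy⟩
          · exact ⟨hy, m, List.mem_cons_of_mem a hm, hym⟩
        · rintro ⟨hy, m, hm, hym⟩
          rcases List.mem_cons.1 hm with rfl | hm
          · exact Or.inl hym
          · exact Or.inr ⟨hy, m, hm, hym⟩
      · refine ⟨n, List.mem_append_left _ hn, fun y => (hiff y).trans ⟨?_, ?_⟩⟩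
        · rintro ⟨hy, m, hm, hym⟩
          exact ⟨hy, m, List.mem_cons_of_mem a hm, hym⟩
        · rintro ⟨hy, m, hm, hym⟩
          rcases List.mem_cons.1 hm with rfl | hm
          · exact absurd hy (Finset.disjoint_left.1 h hym)
          · exact ⟨hy, m, hm, hym⟩
  obtain ⟨n, hn, hiff⟩ := hU cls fun _ h => h
  have e : mset n = B := Finset.ext fun y => by
    refine (hiff y).trans ⟨And.left, fun hy => ⟨hy, ?_⟩⟩
    obtain ⟨m, hm, hb⟩ := hc2 _ (mem_bits24.2 (gidx y).isLt)
    exact ⟨m, hm, mem_mset.2 hb⟩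
  have hlt : ∀ l : List ℕ, (∀ m ∈ l, m ∈ cls) → ∀ q ∈ unions l, (∀ m ∈ cls, m < 2 ^ 24) → q < 2 ^ 24 := by
    intro l
    induction l with
    | nil => intro _ q hq _; simp only [unions, List.mem_singleton] at hq; subst hq; norm_num
    | cons a l ih =>
      intro hl q hq hs
      simp only [unions, List.mem_append, List.mem_map] at hq
      rcases hq with hq | ⟨r, hr, rfl⟩
      · exact ih (fun q hq => hl q (List.mem_cons_of_mem a hq)) q hq hs
      · exact Nat.or_lt_two_pow (hs a (hl a List.mem_cons_self))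
          (ih (fun q hq => hl q (List.mem_cons_of_mem a hq)) r hr hs)
  have hs : ∀ m ∈ cls, m < 2 ^ 24 := fun m hm => by simpa using (hc1 m hm).1
  have : pm c A = n := mset_inj (fmask_lt _) (hlt cls (fun _ h => h) n hn hs) (by rw [mset_pm, e])
  rwa [this]

/-! ## The explicit elements -/

/-- Two 2-elements fixing a point of the octad. -/
def twoGens : List ℕ := [852980883411666258127626759009702944, 775300736756664968037738904550675488]

/-- Their orbits. -/
def twoCls : List ℕ := [1, 2, 36, 45120, 16732056]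

/-- The element of order 7 alone. -/
def sevenGens : List ℕ := [MTwentyThree.m23Norm7.x]

/-- Its orbits. -/
def sevenCls : List ℕ := [1, 8192, 8388608, 2366, 1540672, 6837376]

/-- The element of order 7 and the commuting involution. -/
def fourteenGens : List ℕ := [MTwentyThree.m23Norm7.x, MTwentyThree.swapT]

/-- Their orbits. -/
def fourteenCls : List ℕ := [8388608, 8193, 1540672, 6839742]

/-- The element of order 5. -/
def fiveGens : List ℕ := [MTwentyTwo.m22Five]

/-- Its orbits. -/
def fiveCls : List ℕ := [1, 2, 1024, 8388608, 2164, 573576, 3342592, 4469248]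

/-- The element of order 11. -/
def elevenGens : List ℕ := [m22Norm11.x]

/-- Its orbits. -/
def elevenCls : List ℕ := [1, 8388608, 575742, 7812864]

theorem conn_two : conn twoGens twoCls = true := by decide +kernel
theorem conn_seven : conn sevenGens sevenCls = true := by decide +kernel
theorem conn_fourteen : conn fourteenGens fourteenCls = true := by decide +kernel
theorem conn_five : conn fiveGens fiveCls = true := by decide +kernel
theorem conn_eleven : conn elevenGens elevenCls = true := by decide +kernel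

theorem piter_rep' {g : M24} {p : ℕ} (h : Cfsg.Lib.Concrete.Rep (g : Equiv.Perm GolayPt) p) (n : ℕ)
    (y : GolayPt) : (gidx ((g ^ n) • y)).val = piter p n (gidx y).val := by
  show (gidx (((g ^ n : M24) : Equiv.Perm GolayPt) y)).val = _
  rw [SubgroupClass.coe_pow, piter_rep h]

theorem order_of_rep {g : M24} {p r : ℕ} [Fact r.Prime]
    (h : Cfsg.Lib.Concrete.Rep (g : Equiv.Perm GolayPt) p)
    (h1 : (bits24.all fun i => Nat.beq (piter p r i) i) = true)
    (h2 : (bits24.any fun i => !Nat.beq (pget p i) i) = true) : orderOf g = r := by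
  refine orderOf_eq_prime (Subtype.ext (Equiv.ext fun y => gidx_injective (Fin.ext ?_))) fun e => ?_
  · simp only [List.all_eq_true, Nat.beq_eq] at h1
    rw [SubgroupClass.coe_pow, piter_rep h]
    exact h1 _ (mem_bits24.2 (gidx y).isLt)
  · simp only [List.any_eq_true, Bool.not_eq_true'] at h2
    obtain ⟨i, hi, hne⟩ := h2
    have : pget p i = i := by
      have := h.apply ⟨i, mem_bits24.1 hi⟩
      rw [e] at this
      simpa [gidx_gpt] using this.symm
    rw [this, Nat.beq_refl] at hne
    exact Bool.noConfusion hne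

theorem conj_of_rep {g x : M24} {T U k : ℕ} (hg : Cfsg.Lib.Concrete.Rep (g : Equiv.Perm GolayPt) T)
    (hx : Cfsg.Lib.Concrete.Rep (x : Equiv.Perm GolayPt) U)
    (h : (bits24.all fun i => Nat.beq (pget T (pget U i)) (piter U k (pget T i))) = true) :
    g * x * g⁻¹ = x ^ k := by
  simp only [List.all_eq_true, Nat.beq_eq] at h
  rw [mul_inv_eq_iff_eq_mul]
  refine Subtype.ext (Equiv.ext fun y => gidx_injective (Fin.ext ?_))
  show (gidx ((g : Equiv.Perm GolayPt) ((x : Equiv.Perm GolayPt) y))).val =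
    (gidx ((((x ^ k : M24)) : Equiv.Perm GolayPt) ((g : Equiv.Perm GolayPt) y))).val
  rw [hg, hx, SubgroupClass.coe_pow, piter_rep hx, hg]
  exact h _ (mem_bits24.2 (gidx y).isLt)

theorem emb_prime {r p : ℕ} [Fact r.Prime] (hr : ¬ r ^ 2 ∣ 244823040) {g0 : M24}
    (hg0 : Cfsg.Lib.Concrete.Rep (g0 : Equiv.Perm GolayPt) p) (ho : orderOf g0 = r)
    {L : Subgroup M24} (hd : r ∣ Nat.card L) : ∃ c, Emb c [p] L := by
  obtain ⟨y, hy⟩ := exists_prime_orderOf_dvd_card' (G := L) r hd
  obtain ⟨a, ha⟩ := MTwentyTwo.exists_conj_zpowers (G := M24) (by rw [card_M24]; exact hr)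
    (P := Subgroup.zpowers (y : M24)) (by rw [Nat.card_zpowers, Subgroup.orderOf_coe, hy]) ho
  refine ⟨a⁻¹, fun q hq => ⟨a⁻¹ * g0 * a, ?_, ?_⟩⟩
  · have : g0 ∈ Subgroup.zpowers g0 := Subgroup.mem_zpowers _
    rw [← ha] at this
    obtain ⟨z, hz, rfl⟩ := this
    have e : a⁻¹ * (MulAut.conj a).toMonoidHom z * a = z := by simp [mul_assoc]
    rw [e]
    exact Subgroup.zpowers_le.2 y.2 hz
  · obtain rfl := List.mem_singleton.1 hq
    simpa [mul_assoc] using hg0

theorem five_elt : ∃ g0 : M24, Cfsg.Lib.Concrete.Rep (g0 : Equiv.Perm GolayPt) MTwentyTwo.m22Five ∧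
    orderOf g0 = 5 := by
  haveI : Fact (Nat.Prime 5) := ⟨by norm_num⟩
  obtain ⟨g, hg, hr, -⟩ := exists_of_elemCheck (by norm_num) MTwentyTwo.elem_checks.2.2
  obtain ⟨-, -, -, h5, hne⟩ := MTwentyTwo.rel_checks
  exact ⟨⟨g, hg.1.1⟩, hr, order_of_rep hr h5 hne⟩

theorem emb_five {L : Subgroup M24} (hd : 5 ∣ Nat.card L) : ∃ c, Emb c fiveGens L := by
  haveI : Fact (Nat.Prime 5) := ⟨by norm_num⟩
  obtain ⟨g, hg, ho⟩ := five_elt
  exact emb_prime (by norm_num) hg ho hd

theorem eleven_checks : (bits24.all fun i => Nat.beq (piter m22Norm11.x 11 i) i) = true ∧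
    (bits24.any fun i => !Nat.beq (pget m22Norm11.x i) i) = true := by decide +kernel

theorem emb_eleven {L : Subgroup M24} (hd : 11 ∣ Nat.card L) : ∃ c, Emb c elevenGens L := by
  haveI : Fact (Nat.Prime 11) := ⟨by norm_num⟩
  obtain ⟨x, hx, hr, -, -⟩ := exists_x m22Good11
  exact emb_prime (g0 := ⟨x, hx.1⟩) (by norm_num) hr (order_of_rep hr eleven_checks.1 eleven_checks.2) hd

theorem two_find : ∀ p ∈ twoGens,
    (Cfsg.Lib.FusionSys.MathieuCert.certM24.t.find p).isSome = true ∧ Nat.beq (pget p 0) 0 = true := by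
  decide +kernel

theorem emb_two {L : Subgroup M24} {x : GolayPt} (hLx : L ≤ stabilizer M24 x) (hd : 128 ∣ Nat.card L) :
    ∃ c, Emb c twoGens L := by
  classical
  haveI : Fact (Nat.Prime 2) := ⟨Nat.prime_two⟩
  obtain ⟨c0, hc0⟩ := M24_isPretransitive.exists_smul_eq (gpt 0) x
  let e : ℕ → M24 := fun p => ⟨(MathieuSylow.el p : Equiv.Perm GolayPt), MathieuSylow.G0_le (MathieuSylow.el p).2⟩
  have he : ∀ p ∈ twoGens, Cfsg.Lib.Concrete.Rep (e p : Equiv.Perm GolayPt) p := fun p hp => by
    have h := MathieuSylow.key_rep (MathieuSylow.el p)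
    rwa [MathieuSylow.key_el (two_find p hp).1] at h
  set Q0 : Subgroup M24 := Subgroup.closure (e '' {p | p ∈ twoGens}) with hQ0
  have hQp : IsPGroup 2 Q0 := by
    refine IsPGroup.to_le (MathieuSylow.isPGroup_G0.comap_subtype (K := M24)) ?_
    rw [hQ0, Subgroup.closure_le]
    rintro _ ⟨p, -, rfl⟩
    exact (MathieuSylow.el p).2
  have hQs : Q0 ≤ stabilizer M24 (gpt 0) := by
    rw [hQ0, Subgroup.closure_le]
    rintro _ ⟨p, hp, rfl⟩
    show ((e p : M24) : Equiv.Perm GolayPt) (gpt 0) = gpt 0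
    exact (he p hp).apply_eq (Nat.eq_of_beq_eq_true (two_find p hp).2)
  set Q1 := Q0.map (MulAut.conj c0).toMonoidHom with hQ1
  have hQ1s : Q1 ≤ stabilizer M24 x := by
    rintro _ ⟨q, hq, rfl⟩
    show (c0 * q * c0⁻¹) • x = x
    rw [mul_smul, mul_smul, ← hc0, inv_smul_smul, mem_stabilizer_iff.1 (hQs hq)]
  obtain ⟨K, hK⟩ := Sylow.exists_subgroup_card_pow_prime (G := L) 2 (n := 7) (by simpa using hd)
  set K1 := (K.map L.subtype).subgroupOf (stabilizer M24 x) with hK1
  have hKL : K.map L.subtype ≤ L := Subgroup.map_subtype_le K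
  have hK1c : Nat.card K1 = 2 ^ (Nat.card (stabilizer M24 x)).factorization 2 := by
    rw [hK1, Nat.card_congr (Subgroup.subgroupOfEquivOfLe (hKL.trans hLx)).toEquiv,
      Subgroup.card_map_of_injective L.subtype_injective, hK, card_M24_stabilizer,
      show (10200960 : ℕ) = 2 ^ 7 * 79695 by norm_num,
      Nat.factorization_mul (by norm_num) (by norm_num), Finsupp.add_apply, Nat.prime_two.factorization_pow,
      Finsupp.single_eq_same, Nat.factorization_eq_zero_of_not_dvd (by norm_num : ¬ 2 ∣ 79695)]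
  have hQ1p : IsPGroup 2 (Q1.subgroupOf (stabilizer M24 x)) :=
    (hQp.map _).comap_subtype
  obtain ⟨S, hS⟩ := hQ1p.exists_le_sylow
  obtain ⟨w, hw⟩ := MulAction.exists_smul_eq (stabilizer M24 x) S (Sylow.ofCard K1 hK1c)
  refine ⟨(w : M24) * c0, fun p hp => ⟨(w : M24) * c0 * e p * ((w : M24) * c0)⁻¹, ?_, ?_⟩⟩
  · have h1 : c0 * e p * c0⁻¹ ∈ Q1 := ⟨e p, Subgroup.subset_closure ⟨p, hp, rfl⟩, rfl⟩
    have h2 : (⟨_, hQ1s h1⟩ : stabilizer M24 x) ∈ (S : Subgroup (stabilizer M24 x)) := hS h1
    have h3 : MulAut.conj w ⟨_, hQ1s h1⟩ ∈ ((w • S : Sylow 2 (stabilizer M24 x)) : Subgroup (stabilizer M24 x)) :=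
      Subgroup.mem_map_of_mem _ h2
    rw [hw] at h3
    have h4 : (w : M24) * (c0 * e p * c0⁻¹) * (w : M24)⁻¹ ∈ K.map L.subtype := h3
    simpa [mul_assoc] using hKL h4
  · simpa [mul_assoc] using he p hp

/-- A third element in the normaliser. -/
def hSeven : ℕ := 969281915092206789410489974136348704

/-- Its inverse. -/
def hSevenI : ℕ := 983073955986171786654325943552840736

theorem seven_checks : elemCheck 1 16777215 hSeven hSevenI = true ∧
    (bits24.all fun i => Nat.beq (piter hSeven 3 i) i) = true ∧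
    (bits24.any fun i => !Nat.beq (pget hSeven i) i) = true ∧
    (bits24.all fun i => Nat.beq (pget hSeven (pget MTwentyThree.m23Norm7.x i)) (piter MTwentyThree.m23Norm7.x 2 (pget hSeven i))) = true ∧
    (bits24.all fun i => Nat.beq (piter MTwentyThree.swapT 2 i) i) = true ∧
    (bits24.any fun i => !Nat.beq (pget MTwentyThree.swapT i) i) = true := by
  decide +kernel

theorem emb_seven {L : Subgroup M24} {x : GolayPt} (hLx : L ≤ stabilizer M24 x) {m : ℕ}
    (hc : Nat.card L = 7 * m) (h7 : ¬ 7 ∣ m) :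
    ∃ j, 0 < j ∧ j ≤ 6 ∧ j ∣ 6 ∧ j ∣ m ∧ m / j % 7 = 1 ∧ (2 ∣ j → ∃ c, Emb c fourteenGens L) := by
  classical
  haveI : Fact (Nat.Prime 7) := ⟨by norm_num⟩
  haveI : Fact (Nat.Prime 3) := ⟨by norm_num⟩
  haveI : Fact (Nat.Prime 2) := ⟨Nat.prime_two⟩
  obtain ⟨c0, hc0⟩ := M24_isPretransitive.exists_smul_eq (bp 0) x
  set L0 := L.map (MulAut.conj c0⁻¹).toMonoidHom with hL0
  have hL0s : L0 ≤ MTwentyThree.Stab (bp 0) := by
    rintro _ ⟨q, hq, rfl⟩
    show (c0⁻¹ * q * c0⁻¹⁻¹) • bp 0 = bp 0
    rw [inv_inv, mul_smul, mul_smul, hc0, mem_stabilizer_iff.1 (hLx hq), ← hc0, inv_smul_smul]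
  set K := L0.subgroupOf (MTwentyThree.Stab (bp 0)) with hK
  have hKc : Nat.card K = 7 * m := by
    rw [hK, Nat.card_congr (Subgroup.subgroupOfEquivOfLe hL0s).toEquiv, hL0,
      Subgroup.card_map_of_injective (MulAut.conj c0⁻¹).injective, hc]
  obtain ⟨P, -, hP, hd, hp, hmod⟩ := MTwentyTwo.normalizer_card (p := 7) (m := m) (H := K) hKc h7
  obtain ⟨s, g, hso, hgs, hsr, hgr, hN⟩ := MTwentyThree.exists_elts
  have hle := (Subgroup.card_le_of_le (inf_le_right : K ⊓ Subgroup.normalizer (P : Set _) ≤ _)).trans (hN P hP)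
  obtain ⟨j, hj⟩ := hp
  have hj0 : 0 < j := by
    rcases Nat.eq_zero_or_pos j with h | h
    · rw [h, mul_zero] at hj; exact absurd hj Nat.card_pos.ne'
    · exact h
  obtain ⟨a, ha⟩ := MTwentyTwo.exists_conj_zpowers (G := MTwentyThree.Stab (bp 0))
    (by rw [card_M24_stabilizer]; norm_num) hP hso
  set N := Subgroup.normalizer (Subgroup.zpowers s : Set (MTwentyThree.Stab (bp 0))) with hNd
  have hNle : Nat.card N ≤ 42 := hN _ (by rw [Nat.card_zpowers, hso])
  -- the three elements show that the normaliser has order 42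
  obtain ⟨hh', hh3, hhne, hhs, ht2, htne⟩ := seven_checks
  obtain ⟨h', hh'm, hhr, -⟩ := exists_of_elemCheck (by norm_num) hh'
  let h : MTwentyThree.Stab (bp 0) := ⟨⟨h', hh'm.1.1⟩, hh'm.1.2 0 (by norm_num)⟩
  have hho : orderOf (h : M24) = 3 := order_of_rep hhr hh3 hhne
  have hgo : orderOf (g : M24) = 2 := order_of_rep hgr ht2 htne
  have hrel : h * s * h⁻¹ = s ^ 2 := Subtype.ext (conj_of_rep hhr hsr hhs)
  have mem_N : ∀ (z : MTwentyThree.Stab (bp 0)) (k : ℕ), z * s * z⁻¹ = s ^ k → z ∈ N := fun z k hz => by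
    have e := MTwentyTwo.conj_zpowers_of_eq hso hz
    rw [hNd, Subgroup.mem_normalizer_iff]
    refine fun w => ⟨fun hw => e ▸ ⟨w, hw, rfl⟩, fun hw => ?_⟩
    rw [← e] at hw
    obtain ⟨v, hv, hvw⟩ := hw
    rwa [← (MulAut.conj z).injective hvw]
  have hgN : g ∈ N := mem_N g 1 (by rw [pow_one, hgs])
  have hhN : h ∈ N := mem_N h 2 hrel
  have d7 : 7 ∣ Nat.card N := by
    have := Subgroup.card_dvd_of_le (Subgroup.zpowers_le.2 (Subgroup.le_normalizer (Subgroup.mem_zpowers s)) :
      Subgroup.zpowers s ≤ N)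
    rwa [Nat.card_zpowers, hso] at this
  have d2 : 2 ∣ Nat.card N := by
    have := Subgroup.card_dvd_of_le (Subgroup.zpowers_le.2 hgN)
    rwa [Nat.card_zpowers, ← Subgroup.orderOf_coe g, hgo] at this
  have d3 : 3 ∣ Nat.card N := by
    have := Subgroup.card_dvd_of_le (Subgroup.zpowers_le.2 hhN)
    rwa [Nat.card_zpowers, ← Subgroup.orderOf_coe h, hho] at this
  have hN42 : Nat.card N = 42 := by
    have h0 : 0 < Nat.card N := Nat.card_pos
    generalize Nat.card N = n at d7 d2 d3 hNle h0
    omega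
  set K' := K.map (MulAut.conj a).toMonoidHom with hK'
  set X := (K ⊓ Subgroup.normalizer (P : Set _)).map (MulAut.conj a).toMonoidHom with hX
  have hXN : X ≤ N := by
    rw [hNd, ← ha, ← MTwentyTwo.conj_map_normalizer]
    exact Subgroup.map_mono inf_le_right
  have hXK : X ≤ K' := Subgroup.map_mono inf_le_left
  have hXc : Nat.card X = 7 * j := by
    rw [hX, Subgroup.card_map_of_injective (MulAut.conj a).injective, hj]
  refine ⟨j, hj0, by omega, ?_, ?_, ?_, fun h2 => ?_⟩
  · have h := Subgroup.card_dvd_of_le hXN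
    rw [hXc, hN42] at h
    exact Nat.dvd_of_mul_dvd_mul_left (k := 7) (by norm_num) (h : 7 * j ∣ 7 * 6)
  · rw [hj] at hd
    exact Nat.dvd_of_mul_dvd_mul_left (by norm_num) hd
  · rw [hj, Nat.mul_div_mul_left _ _ (by norm_num : 0 < 7)] at hmod
    exact hmod
  obtain ⟨y2, hy2⟩ := exists_prime_orderOf_dvd_card' (G := X) 2 (by rw [hXc]; exact h2.mul_left 7)
  obtain ⟨y7, hy7⟩ := exists_prime_orderOf_dvd_card' (G := X) 7 (by rw [hXc]; exact dvd_mul_right 7 j)
  -- move the involution to the given one inside the normaliser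
  obtain ⟨n, hn⟩ := MTwentyTwo.exists_conj_zpowers (G := N) (p := 2)
    (P := Subgroup.zpowers ⟨y2.1, hXN y2.2⟩) (x := ⟨g, hgN⟩) (by rw [hN42]; norm_num)
    (by rw [Nat.card_zpowers, Subgroup.orderOf_mk, Subgroup.orderOf_coe, hy2])
    (by rw [Subgroup.orderOf_mk, ← Subgroup.orderOf_coe g, hgo])
  have hgX : (n : MTwentyThree.Stab (bp 0))⁻¹ * g * n ∈ X := by
    have : (⟨g, hgN⟩ : N) ∈ Subgroup.zpowers (⟨g, hgN⟩ : N) := Subgroup.mem_zpowers _
    rw [← hn] at this
    obtain ⟨z, hz, hzg⟩ := this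
    obtain ⟨k, rfl⟩ := Subgroup.mem_zpowers_iff.1 hz
    have e := congrArg Subtype.val hzg
    simp only [MulEquiv.coe_toMonoidHom, MulAut.conj_apply, Subgroup.coe_mul, Subgroup.coe_inv] at e
    rw [← e]
    simpa [mul_assoc] using zpow_mem y2.2 k
  have hsX : (n : MTwentyThree.Stab (bp 0))⁻¹ * s * n ∈ X := by
    -- all elements of order seven of the normaliser generate the same subgroup
    obtain ⟨k, hk⟩ := MTwentyTwo.exists_conj_zpowers (G := N) (p := 7)
      (P := Subgroup.zpowers ⟨y7.1, hXN y7.2⟩) (x := ⟨s, Subgroup.le_normalizer (Subgroup.mem_zpowers s)⟩)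
      (by rw [hN42]; norm_num)
      (by rw [Nat.card_zpowers, Subgroup.orderOf_mk, Subgroup.orderOf_coe, hy7])
      (by rw [Subgroup.orderOf_mk, hso])
    have hm : (n : MTwentyThree.Stab (bp 0))⁻¹ * s * n ∈ Subgroup.zpowers s :=
      (Subgroup.mem_normalizer_iff''.1 n.2 s).1 (Subgroup.mem_zpowers s)
    refine (?_ : Subgroup.zpowers s ≤ X) hm
    rw [Subgroup.zpowers_le]
    have hs1 : (k : MTwentyThree.Stab (bp 0))⁻¹ * s * k ∈ Subgroup.zpowers s :=
      (Subgroup.mem_normalizer_iff''.1 k.2 s).1 (Subgroup.mem_zpowers s)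
    have hs2 : (⟨s, Subgroup.le_normalizer (Subgroup.mem_zpowers s)⟩ : N) ∈
        Subgroup.zpowers (⟨s, Subgroup.le_normalizer (Subgroup.mem_zpowers s)⟩ : N) := Subgroup.mem_zpowers _
    rw [← hk] at hs2
    obtain ⟨z, hz, hzs⟩ := hs2
    obtain ⟨i, rfl⟩ := Subgroup.mem_zpowers_iff.1 hz
    have e := congrArg Subtype.val hzs
    simp only [MulEquiv.coe_toMonoidHom, MulAut.conj_apply, Subgroup.coe_mul, Subgroup.coe_inv] at e
    have hks : (k : MTwentyThree.Stab (bp 0))⁻¹ * s * k ∈ X := by
      rw [← e]; simpa [mul_assoc] using zpow_mem y7.2 i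
    -- both generate the subgroup of order seven
    have hz7 : Subgroup.zpowers ((k : MTwentyThree.Stab (bp 0))⁻¹ * s * k) = Subgroup.zpowers s := by
      refine Subgroup.eq_of_le_of_card_ge (Subgroup.zpowers_le.2 hs1) ?_
      rw [Nat.card_zpowers, Nat.card_zpowers]
      refine le_of_eq ?_
      exact (orderOf_injective (MulAut.conj (k : MTwentyThree.Stab (bp 0))⁻¹).toMonoidHom
        (MulAut.conj _).injective s).symm.trans (by simp [MulAut.conj_apply])
    exact (Subgroup.zpowers_le.2 hks) (hz7 ▸ Subgroup.mem_zpowers s)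
  refine ⟨c0 * ((a : M24)⁻¹ * ((n : MTwentyThree.Stab (bp 0)) : M24)⁻¹), fun p hp => ?_⟩
  have key : ∀ z : MTwentyThree.Stab (bp 0), (n : MTwentyThree.Stab (bp 0))⁻¹ * z * n ∈ X →
      c0 * ((a : M24)⁻¹ * ((n : MTwentyThree.Stab (bp 0)) : M24)⁻¹) * z *
        (c0 * ((a : M24)⁻¹ * ((n : MTwentyThree.Stab (bp 0)) : M24)⁻¹))⁻¹ ∈ L := by
    intro z hz
    obtain ⟨q, hq, hqe⟩ := hXK hz
    have e := congrArg Subtype.val hqe
    simp only [MulEquiv.coe_toMonoidHom, MulAut.conj_apply, Subgroup.coe_mul, Subgroup.coe_inv] at e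
    obtain ⟨l, hl, hle'⟩ := Subgroup.mem_subgroupOf.1 hq
    simp only [MulEquiv.coe_toMonoidHom, MulAut.conj_apply, inv_inv] at hle'
    have hl' : l ∈ L := hl
    rw [← hle'] at e
    have e' : l = c0 * ((a : M24)⁻¹ * (((n : MTwentyThree.Stab (bp 0)) : M24)⁻¹ * z *
        ((n : MTwentyThree.Stab (bp 0)) : M24)) * a) * c0⁻¹ := by
      rw [← e]; group
    rw [e'] at hl'
    convert hl' using 1
    group
  rcases List.mem_cons.1 hp with rfl | hp
  · exact ⟨_, key s hsX, by simpa [mul_assoc] using hsr⟩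
  · obtain rfl := List.mem_singleton.1 hp
    exact ⟨_, key g hgX, by simpa [mul_assoc] using hgr⟩

/-! ## Orbits -/

/-- The orbit of a point as a finite set. -/
noncomputable def O (L : Subgroup M24) (y : GolayPt) : Finset GolayPt :=
  (Set.toFinite (orbit L y)).toFinset

theorem mem_O {L : Subgroup M24} {y z : GolayPt} : z ∈ O L y ↔ ∃ g ∈ L, g • y = z := by
  rw [O, Set.Finite.mem_toFinset]
  exact ⟨fun ⟨g, hg⟩ => ⟨g.1, g.2, hg⟩, fun ⟨g, hg, e⟩ => ⟨⟨g, hg⟩, e⟩⟩

theorem self_O (L : Subgroup M24) (y : GolayPt) : y ∈ O L y := mem_O.2 ⟨1, one_mem L, one_smul _ _⟩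

theorem inv_of_sub {L : Subgroup M24} {A : Finset GolayPt} (h : ∀ g ∈ L, ∀ y ∈ A, g • y ∈ A) : Inv L A := by
  intro g hg
  refine Finset.eq_of_subset_of_card_le ?_ (by rw [Finset.card_smul_finset])
  intro z hz
  obtain ⟨y, hy, rfl⟩ := Finset.mem_smul_finset.1 hz
  exact h g hg y hy

theorem inv_O (L : Subgroup M24) (y : GolayPt) : Inv L (O L y) := inv_of_sub fun g hg z hz => by
  obtain ⟨h, hh, rfl⟩ := mem_O.1 hz
  exact mem_O.2 ⟨g * h, mul_mem hg hh, mul_smul _ _ _⟩

theorem mem_of_inv {L : Subgroup M24} {A : Finset GolayPt} (h : Inv L A) {g : M24} (hg : g ∈ L)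
    {y : GolayPt} (hy : y ∈ A) : g • y ∈ A := by
  have := Finset.smul_mem_smul_finset (a := g) hy
  rwa [h g hg] at this

theorem O_sub {L : Subgroup M24} {A : Finset GolayPt} (h : Inv L A) {y : GolayPt} (hy : y ∈ A) :
    O L y ⊆ A := fun z hz => by
  obtain ⟨g, hg, rfl⟩ := mem_O.1 hz
  exact mem_of_inv h hg hy

theorem card_O (L : Subgroup M24) (y : GolayPt) :
    (O L y).card * Nat.card ↥(L ⊓ stabilizer M24 y) = Nat.card L := by
  have h := Subgroup.card_mul_index (stabilizer L y)
  rw [MulAction.index_stabilizer] at h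
  have e : Nat.card (stabilizer L y) = Nat.card ↥(L ⊓ stabilizer M24 y) :=
    Nat.card_congr
      { toFun := fun g => ⟨g.1.1, g.1.2, g.2⟩
        invFun := fun g => ⟨⟨g.1, g.2.1⟩, g.2.2⟩
        left_inv := fun _ => rfl
        right_inv := fun _ => rfl }
  rw [← h, e, O, ← Set.ncard_eq_toFinset_card, mul_comm]

theorem inv_mono {L L' : Subgroup M24} {A : Finset GolayPt} (h : L ≤ L') (hA : Inv L' A) : Inv L A :=
  fun g hg => hA g (h hg)

theorem inv_single {L : Subgroup M24} {x : GolayPt} (h : L ≤ stabilizer M24 x) : Inv L {x} := fun g hg => by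
  rw [Finset.smul_finset_singleton, mem_stabilizer_iff.1 (h hg)]

theorem emb_stab {c : M24} {gens : List ℕ} {L : Subgroup M24} (he : Emb c gens L) {m : ℕ}
    (hm : (gens.all fun p => Nat.beq (pimg p m) m) = true) :
    Emb c gens (L ⊓ stabilizer M24 (c • mset m)) := by
  simp only [List.all_eq_true, Nat.beq_eq] at hm
  intro p hp
  obtain ⟨g, hg, hr⟩ := he p hp
  refine ⟨g, ⟨hg, ?_⟩, hr⟩
  show g • c • mset m = c • mset m
  have h := hr.smul_mset m
  rw [hm p hp] at h
  have h' : (c⁻¹ * g * c : M24) • mset m = mset m := h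
  rw [mul_smul, mul_smul, inv_smul_eq_iff] at h'
  exact h'

theorem mem_smul_bit {c : M24} {m : ℕ} (i : Fin 24) (h : m.testBit i.val = true) : c • gpt i ∈ c • mset m :=
  Finset.smul_mem_smul_finset (mem_mset.2 (by rw [gidx_gpt]; exact h))

theorem bit_of_mem {c : M24} {A : Finset GolayPt} (i : Fin 24) :
    c • gpt i ∈ A ↔ (pm c A).testBit i.val = true := by
  rw [mem_pm c A, inv_smul_smul, gidx_gpt]

theorem mset_single (i : Fin 24) : mset (1 <<< i.val) = {gpt i} := by
  ext z
  rw [mem_mset, Nat.one_shiftLeft, Nat.testBit_two_pow, decide_eq_true_eq, Finset.mem_singleton]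
  refine ⟨fun h => ?_, fun h => by rw [h, gidx_gpt]⟩
  rw [← gpt_gidx z, show gidx z = i from Fin.ext h.symm]

theorem pm_single (c : M24) (i : Fin 24) : pm c {c • gpt i} = 1 <<< i.val := by
  refine mset_inj (fmask_lt _) ?_ ?_
  · rw [Nat.one_shiftLeft]; exact Nat.pow_lt_pow_right (by norm_num) i.isLt
  · rw [mset_pm, Finset.smul_finset_singleton, inv_smul_smul, mset_single]

/-! ## A transitive subgroup with large suborbit -/

/-- The points with short suborbit. -/
noncomputable def N (H : Subgroup M24) (x : GolayPt) : Finset GolayPt :=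
  Finset.univ.filter fun y => Nat.card ↥(H ⊓ stabilizer M24 x) <
    16 * Nat.card ↥(H ⊓ stabilizer M24 x ⊓ stabilizer M24 y)

theorem conj_inf {H : Subgroup M24} {g : M24} (hg : g ∈ H) (x : GolayPt) :
    Nat.card ↥(H ⊓ stabilizer M24 x) = Nat.card ↥(H ⊓ stabilizer M24 (g • x)) :=
  Nat.card_congr
    { toFun := fun u => ⟨g * u * g⁻¹, H.mul_mem (H.mul_mem hg u.2.1) (H.inv_mem hg), by
        show (g * (u : M24) * g⁻¹) • g • x = g • x
        rw [mul_smul, mul_smul, inv_smul_smul, show (u : M24) • x = x from u.2.2]⟩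
      invFun := fun u => ⟨g⁻¹ * u * g, H.mul_mem (H.mul_mem (H.inv_mem hg) u.2.1) hg, by
        show (g⁻¹ * (u : M24) * g) • x = x
        rw [mul_smul, mul_smul, show (u : M24) • g • x = g • x from u.2.2, inv_smul_smul]⟩
      left_inv := fun u => Subtype.ext (by simp [mul_assoc])
      right_inv := fun u => Subtype.ext (by simp [mul_assoc]) }

theorem conj_inf₂ {H : Subgroup M24} {g : M24} (hg : g ∈ H) (x y : GolayPt) :
    Nat.card ↥(H ⊓ stabilizer M24 x ⊓ stabilizer M24 y) =
      Nat.card ↥(H ⊓ stabilizer M24 (g • x) ⊓ stabilizer M24 (g • y)) :=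
  Nat.card_congr
    { toFun := fun u => ⟨g * u * g⁻¹, ⟨H.mul_mem (H.mul_mem hg u.2.1.1) (H.inv_mem hg), by
          show (g * (u : M24) * g⁻¹) • g • x = g • x
          rw [mul_smul, mul_smul, inv_smul_smul, show (u : M24) • x = x from u.2.1.2]⟩, by
        show (g * (u : M24) * g⁻¹) • g • y = g • y
        rw [mul_smul, mul_smul, inv_smul_smul, show (u : M24) • y = y from u.2.2]⟩
      invFun := fun u => ⟨g⁻¹ * u * g, ⟨H.mul_mem (H.mul_mem (H.inv_mem hg) u.2.1.1) hg, by
          show (g⁻¹ * (u : M24) * g) • x = x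
          rw [mul_smul, mul_smul, show (u : M24) • g • x = g • x from u.2.1.2, inv_smul_smul]⟩, by
        show (g⁻¹ * (u : M24) * g) • y = y
        rw [mul_smul, mul_smul, show (u : M24) • g • y = g • y from u.2.2, inv_smul_smul]⟩
      left_inv := fun u => Subtype.ext (by simp [mul_assoc])
      right_inv := fun u => Subtype.ext (by simp [mul_assoc]) }

theorem N_smul {H : Subgroup M24} {g : M24} (hg : g ∈ H) (x : GolayPt) : N H (g • x) = g • N H x := by
  ext z
  rw [← Finset.inv_smul_mem_iff]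
  simp only [N, Finset.mem_filter, Finset.mem_univ, true_and]
  rw [conj_inf hg x, conj_inf₂ hg x (g⁻¹ • z), smul_inv_smul]

theorem inv_N (H : Subgroup M24) (x : GolayPt) : Inv (H ⊓ stabilizer M24 x) (N H x) := fun g hg => by
  rw [← N_smul hg.1, mem_stabilizer_iff.1 hg.2]

theorem self_N (H : Subgroup M24) (x : GolayPt) : x ∈ N H x := by
  simp only [N, Finset.mem_filter, Finset.mem_univ, true_and, inf_assoc, inf_idem]
  have : 0 < Nat.card ↥(H ⊓ stabilizer M24 x) := Nat.card_pos
  omega

/-- The numerical and mask facts used below. -/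
theorem two_checks :
    ((unions twoCls).all fun n => !n.testBit 3 || Nat.ble 16 (pcnt n)) = true ∧
    ((unions twoCls).all fun n => !(n.testBit 0 || n.testBit 1) ||
      ((!Nat.beq (pcnt n) 8 || Nat.beq n 45159) && (!Nat.beq (pcnt n) 6 || Nat.beq n 45123) &&
        (!Nat.beq (pcnt n) 4 || Nat.beq n 39))) = true ∧
    ((unions twoCls).all fun n => !Nat.beq (pcnt n) 1 || Nat.beq n 1 || Nat.beq n 2) = true ∧
    (twoGens.all fun p => Nat.beq (pimg p 1) 1 && Nat.beq (pimg p 2) 2 && Nat.beq (pimg p 36) 36 &&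
      Nat.beq (pimg p 45120) 45120) = true := by
  decide +kernel

theorem two_checks' :
    ((unions twoCls).all fun a => !(Nat.beq (Nat.land a 45123) 0 && a.testBit 2 && Nat.ble (pcnt a) 12) ||
      Nat.ble (pcnt a) 5) = true ∧
    ((unions twoCls).all fun a => !(Nat.beq (Nat.land a 39) 0 && a.testBit 6 && Nat.ble (pcnt a) 16) ||
      Nat.beq a 45120) = true ∧
    ((unions twoCls).all fun a => !(Nat.beq (Nat.land a 45123) a) ||
      !((a.testBit 0 && !a.testBit 1) || (a.testBit 1 && !a.testBit 0)) ||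
      (Nat.beq (pcnt a) 1 || Nat.beq (pcnt a) 5)) = true ∧
    ((unions twoCls).all fun a => !(Nat.beq (Nat.land a 45159) a) ||
      !((a.testBit 0 && !a.testBit 1) || (a.testBit 1 && !a.testBit 0)) ||
      Nat.beq (pcnt a % 2) 1) = true ∧
    ((unions twoCls).all fun a => a.testBit 0 || a.testBit 1 || Nat.beq (pcnt a % 2) 0) = true := by
  decide +kernel

theorem five_checks :
    ((unions fiveCls).all fun n => !(Nat.beq (pcnt n) 3 || Nat.beq (pcnt n) 8) ||
      (unions fiveCls).all fun m => !(Nat.beq (pcnt m) (pcnt n) && Nat.beq (Nat.land m n) 0)) = true ∧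
    ((unions fiveCls).all fun n => !(Nat.beq (pcnt n) 3 || Nat.beq (pcnt n) 8) ||
      [0, 1, 10, 23].any fun i => !n.testBit i) = true ∧
    (fiveGens.all fun p => Nat.beq (pimg p 1) 1 && Nat.beq (pimg p 2) 2 && Nat.beq (pimg p 1024) 1024 &&
      Nat.beq (pimg p 8388608) 8388608) = true ∧
    ((unions fiveCls).all fun n => !Nat.beq (pcnt n) 4 || Nat.beq n 8389635) = true := by
  decide +kernel

theorem five_checks' :
    ((unions fiveCls).all fun n => !Nat.beq (pcnt n) 6 || (unions fiveCls).all fun s =>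
      !(Nat.beq (pcnt s) 1 && Nat.beq (Nat.land s n) s) || (unions fiveCls).all fun a =>
        !(Nat.beq (Nat.land a n) a && Nat.beq (Nat.land a s) 0) || (Nat.beq a 0 || Nat.beq (pcnt a) 5)) = true ∧
    ((unions fiveCls).all fun n => !Nat.beq (pcnt n) 8 || (unions fiveCls).all fun s =>
      !(Nat.beq (pcnt s) 1 && Nat.beq (Nat.land s n) s) || (unions fiveCls).all fun a =>
        !(Nat.beq (Nat.land a n) a && Nat.beq (Nat.land a s) 0) ||
          (!Nat.beq (pcnt a) 3 && !Nat.beq (pcnt a) 4)) = true ∧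
    ((unions fiveCls).all fun n => !Nat.beq (pcnt n) 8 || (unions fiveCls).all fun s =>
      !(Nat.beq (pcnt s) 2 && Nat.beq (Nat.land s n) s) || (
        ([0, 1, 10, 23].any fun i => n.testBit i && !s.testBit i) && (unions fiveCls).all fun a =>
          !(Nat.beq (Nat.land a n) a && Nat.beq (Nat.land a s) 0) ||
            !([0, 1, 10, 23].any fun i => a.testBit i) || (Nat.beq (pcnt a) 1 || Nat.beq (pcnt a) 6))) = true ∧
    ((unions fiveCls).all fun n => !Nat.beq (pcnt n) 8 || (unions fiveCls).all fun s =>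
      !(Nat.beq (Nat.land s n) s && Nat.beq (pcnt s) 3) || (unions fiveCls).all fun a =>
        !(Nat.beq (Nat.land a n) a && Nat.beq (Nat.land s a) s) || (Nat.beq (pcnt a) 3 || Nat.beq (pcnt a) 8)) = true := by
  decide +kernel

theorem seven_checks' :
    (sevenGens.all fun p => Nat.beq (pimg p 1) 1 && Nat.beq (pimg p 8192) 8192 && Nat.beq (pimg p 8388608) 8388608) = true ∧
    ((unions sevenCls).all fun n => !Nat.beq (pcnt n) 3 || Nat.beq n 8396801) = true ∧
    ((unions fourteenCls).all fun n => !n.testBit 23 ||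
      ((!Nat.ble (pcnt n) 8 || (Nat.beq (pcnt n) 1 || Nat.beq (pcnt n) 3 || Nat.beq (pcnt n) 8)) &&
        (!Nat.beq (pcnt n) 8 || Nat.beq n 9929280))) = true ∧
    ((unions fourteenCls).all fun n => !Nat.beq (pcnt n) 1 || Nat.beq n 8388608) = true ∧
    ((unions fourteenCls).all fun a => !(Nat.beq (Nat.land a 9929280) a && !a.testBit 23) ||
      (Nat.beq a 0 || Nat.beq (pcnt a) 7)) = true ∧
    ((unions fourteenCls).all fun a => a.testBit 23 || ([0, 2, 7, 9, 14, 16, 21, 23].contains (pcnt a))) = true ∧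
    ((unions elevenCls).all fun a => [0, 1, 2, 11, 12, 13, 22, 23, 24].contains (pcnt a)) = true ∧
    ((unions elevenCls).all fun s => !Nat.beq (pcnt s) 1 || (unions elevenCls).all fun a =>
      !Nat.beq (Nat.land a s) 0 || [0, 1, 11, 12, 22, 23].contains (pcnt a)) = true := by
  decide +kernel

theorem octad_masks : mset 45159 ∈ octads ∧ mset 9929280 ∈ octads :=
  ⟨(mset_mem_octads_iff (by norm_num)).2 (by decide +kernel), (mset_mem_octads_iff (by norm_num)).2 (by decide +kernel)⟩

/-- A transitive subgroup with constant order of point stabiliser. -/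
structure Trans (H : Subgroup M24) (K : ℕ) : Prop where
  tr : ∀ x y : GolayPt, ∃ g ∈ H, g • x = y
  card : ∀ x : GolayPt, Nat.card ↥(H ⊓ stabilizer M24 x) = K

section Transitive

variable {H : Subgroup M24} {K : ℕ} (ht : Trans H K)

include ht

theorem sym_N {x y : GolayPt} (h : y ∈ N H x) : x ∈ N H y := by
  simp only [N, Finset.mem_filter, Finset.mem_univ, true_and] at h ⊢
  rw [ht.card] at h ⊢
  rwa [inf_right_comm]

theorem card_N (x y : GolayPt) : (N H y).card = (N H x).card := by
  obtain ⟨g, hg, rfl⟩ := ht.tr x y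
  rw [N_smul hg, Finset.card_smul_finset]

/-- The complement of the short part is one suborbit. -/
theorem big_orbit (h128 : 128 ∣ K) (x : GolayPt) : ∃ c, Emb c twoGens (H ⊓ stabilizer M24 x) ∧
    c • gpt 3 ∉ N H x ∧ (∀ y, y ∉ N H x → O (H ⊓ stabilizer M24 x) y = (N H x)ᶜ) ∧
    (24 - (N H x).card) ∣ K ∧ (N H x).card ≤ 8 := by
  obtain ⟨c, hc⟩ := emb_two (L := H ⊓ stabilizer M24 x) inf_le_right (by rwa [ht.card])
  have big : ∀ y, y ∉ N H x → 16 ≤ (O (H ⊓ stabilizer M24 x) y).card := by
    intro y hy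
    simp only [N, Finset.mem_filter, Finset.mem_univ, true_and, not_lt] at hy
    have h := card_O (H ⊓ stabilizer M24 x) y
    rw [ht.card] at h hy
    exact Nat.le_of_mul_le_mul_right (hy.trans h.ge) Nat.card_pos
  have h24 : (Finset.univ : Finset GolayPt).card = 24 := by rfl
  have hsub : ∀ y, y ∉ N H x → O (H ⊓ stabilizer M24 x) y ⊆ (N H x)ᶜ := fun y hy =>
    O_sub (inv_of_sub fun g hg z hz => by
      rw [Finset.mem_compl] at hz ⊢
      intro h
      have := mem_of_inv (inv_N H x) (inv_mem hg) h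
      rw [inv_smul_smul] at this
      exact hz this) (Finset.mem_compl.2 hy)
  have single : ∀ y, y ∉ N H x → O (H ⊓ stabilizer M24 x) y = (N H x)ᶜ := fun y hy => by
    refine Finset.Subset.antisymm (hsub y hy) fun z hz => ?_
    by_contra hne
    have hd : Disjoint (O (H ⊓ stabilizer M24 x) y) (O (H ⊓ stabilizer M24 x) z) := by
      refine Finset.disjoint_left.2 fun w hw hw' => hne ?_
      obtain ⟨g, hg, rfl⟩ := mem_O.1 hw'
      have := mem_of_inv (inv_O _ y) (inv_mem hg) hw
      rwa [inv_smul_smul] at this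
    have := Finset.card_le_univ (O (H ⊓ stabilizer M24 x) y ∪ O (H ⊓ stabilizer M24 x) z)
    rw [Finset.card_union_of_disjoint hd, ← Finset.card_univ, h24] at this
    have := big y hy
    have := big z (Finset.mem_compl.1 hz)
    omega
  have h3 : c • gpt 3 ∉ N H x := by
    intro h
    simp only [N, Finset.mem_filter, Finset.mem_univ, true_and] at h
    rw [ht.card] at h
    have hm := pull conn_two hc (inv_O (H ⊓ stabilizer M24 x) (c • gpt 3))
    have hb := (bit_of_mem (c := c) 3).1 (self_O (H ⊓ stabilizer M24 x) (c • gpt 3))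
    have := List.all_eq_true.1 two_checks.1 _ hm
    rw [show ((3 : Fin 24) : ℕ) = 3 from rfl] at hb
    rw [hb, Bool.not_true, Bool.false_or, Nat.ble_eq, ← card_pm] at this
    have hcd := card_O (H ⊓ stabilizer M24 x) (c • gpt 3)
    rw [ht.card] at hcd
    have := Nat.mul_le_mul_right (Nat.card ↥(H ⊓ stabilizer M24 x ⊓ stabilizer M24 (c • gpt 3))) this
    omega
  refine ⟨c, hc, h3, single, ?_, ?_⟩
  · have h := card_O (H ⊓ stabilizer M24 x) (c • gpt 3)
    rw [single _ h3, Finset.card_compl, Fintype.card_eq_nat_card, nat_card_golayPt, ht.card] at h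
    exact Dvd.intro _ h
  · have := big _ h3
    rw [single _ h3, Finset.card_compl, Fintype.card_eq_nat_card, nat_card_golayPt] at this
    omega

/-- Blocks. -/
theorem blk_of_fix {gens cls : List ℕ} (hck : conn gens cls = true) {k m : ℕ}
    (hgen : ∀ x : GolayPt, ∃ c, Emb c gens (H ⊓ stabilizer M24 x))
    (hk : ∀ x, (N H x).card = k)
    (huniq : ∀ n ∈ unions cls, pcnt n = k → n = m)
    (hfix : ∀ i : Fin 24, m.testBit i.val = true → (gens.all fun p => Nat.beq (pimg p (1 <<< i.val)) (1 <<< i.val)) = true) :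
    ∀ x, ∀ y ∈ N H x, N H y = N H x := by
  intro x y hy
  obtain ⟨c, hc⟩ := hgen x
  have hn : pm c (N H x) = m := huniq _ (pull hck hc (inv_N H x)) (by rw [← card_pm, hk])
  obtain ⟨i, rfl⟩ : ∃ i : Fin 24, c • gpt i = y := ⟨gidx (c⁻¹ • y), by rw [gpt_gidx, smul_inv_smul]⟩
  have hb := (bit_of_mem i).1 hy
  rw [hn] at hb
  have he := emb_stab hc (hfix i hb)
  rw [mset_single, Finset.smul_finset_singleton] at he
  refine eq_of_pm (c := c) ((huniq _ (pull hck he (inv_mono ?_ (inv_N H (c • gpt i)))) (by rw [← card_pm, hk])).trans hn.symm)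
  refine le_inf (inf_le_left.trans inf_le_left) fun g hg => ?_
  have h : g • ({c • gpt i} : Finset GolayPt) = {c • gpt i} := hg.2
  rwa [Finset.smul_finset_singleton, Finset.singleton_inj] at h

/-- No system of blocks of size 3 or 8. -/
theorem blocks_false (h5 : 5 ∣ K) {k : ℕ} (hk38 : k = 3 ∨ k = 8) (hk : ∀ x, (N H x).card = k)
    (hblk : ∀ x, ∀ y ∈ N H x, N H y = N H x) : False := by
  obtain ⟨c, hc⟩ := emb_five (L := H ⊓ stabilizer M24 (gpt 0)) (by rwa [ht.card])
  obtain ⟨hpair, hex, hfx, -⟩ := five_checks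
  simp only [List.all_eq_true, List.any_eq_true, Bool.or_eq_true, Bool.not_eq_true', Bool.and_eq_false_iff] at hpair hex
  set x := gpt 0
  have hm := pull conn_five hc (inv_N H x)
  have hcd : pcnt (pm c (N H x)) = k := by rw [← card_pm, hk]
  obtain ⟨i, hi, hib⟩ := (hex _ hm).resolve_left (by rw [hcd]; rcases hk38 with rfl | rfl <;> simp)
  have hi24 : i < 24 := by simp only [List.mem_cons, List.not_mem_nil, or_false] at hi; omega
  have hq : c • gpt ⟨i, hi24⟩ ∉ N H x := fun h => by
    rw [bit_of_mem ⟨i, hi24⟩] at h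
    rw [h] at hib
    exact Bool.noConfusion hib
  have he : Emb c fiveGens (H ⊓ stabilizer M24 x ⊓ stabilizer M24 (c • mset (1 <<< i))) := by
    refine emb_stab hc ?_
    simp only [List.all_eq_true, Bool.and_eq_true] at hfx ⊢
    intro p hp
    obtain ⟨⟨⟨h1, h2⟩, h3⟩, h4⟩ := hfx p hp
    simp only [List.mem_cons, List.not_mem_nil, or_false] at hi
    rcases hi with rfl | rfl | rfl | rfl
    exacts [h1, h2, h3, h4]
  rw [show mset (1 <<< i) = {gpt ⟨i, hi24⟩} from mset_single ⟨i, hi24⟩, Finset.smul_finset_singleton] at he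
  have hm2 := pull conn_five he (inv_mono (L' := H ⊓ stabilizer M24 (c • gpt ⟨i, hi24⟩))
    (le_inf (inf_le_left.trans inf_le_left) fun g hg => by
      have h : g • ({c • gpt ⟨i, hi24⟩} : Finset GolayPt) = {c • gpt ⟨i, hi24⟩} := hg.2
      rwa [Finset.smul_finset_singleton, Finset.singleton_inj] at h) (inv_N H _))
  have hd : Disjoint (N H (c • gpt ⟨i, hi24⟩)) (N H x) := Finset.disjoint_left.2 fun w hw hw' =>
    hq (by rw [← hblk x w hw', hblk _ w hw]; exact self_N H _)
  have := ((hpair _ hm).resolve_left (by rw [hcd]; rcases hk38 with rfl | rfl <;> simp)) _ hm2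
  rw [← card_pm c, hk, hcd, Nat.beq_refl] at this
  have h0 := pm_disj (c := c) hd
  rcases this with h | h
  · exact Bool.noConfusion h
  · have h0' : Nat.land (pm c (N H (c • gpt ⟨i, hi24⟩))) (pm c (N H x)) = 0 := h0
    rw [h0', Nat.beq_refl] at h
    exact Bool.noConfusion h

/-- In a transitive subgroup the fixed point of the 2-elements has the same short part. -/
theorem two_point (h128 : 128 ∣ K) (x : GolayPt) {k : ℕ} (hk : ∀ x, (N H x).card = k) {m : ℕ}
    (hkm : (k = 8 ∧ m = 45159) ∨ (k = 6 ∧ m = 45123) ∨ (k = 4 ∧ m = 39)) :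
    ∃ c, Emb c twoGens (H ⊓ stabilizer M24 x) ∧ pm c (N H x) = m ∧
      ∃ i j : Fin 24, ((i.val = 0 ∧ j.val = 1) ∨ (i.val = 1 ∧ j.val = 0)) ∧ x = c • gpt i ∧
        c • gpt j ∈ N H x ∧ N H (c • gpt j) = N H x := by
  obtain ⟨c, hc, -⟩ := big_orbit ht h128 x
  obtain ⟨-, hset, hsing, hfx⟩ := two_checks
  simp only [List.all_eq_true, Bool.or_eq_true, Bool.not_eq_true', Bool.and_eq_true] at hset hsing hfx
  have hx := hsing _ (pull conn_two hc (inv_single inf_le_right : Inv (H ⊓ stabilizer M24 x) {x}))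
  rw [← card_pm, Finset.card_singleton] at hx
  obtain ⟨i, j, hij, hxi⟩ : ∃ i j : Fin 24, ((i.val = 0 ∧ j.val = 1) ∨ (i.val = 1 ∧ j.val = 0)) ∧ x = c • gpt i := by
    rcases hx with (h | h) | h
    · simp at h
    · refine ⟨0, 1, Or.inl ⟨rfl, rfl⟩, Finset.singleton_inj.1 (eq_of_pm (c := c) ?_)⟩
      rw [pm_single, Nat.eq_of_beq_eq_true h]; rfl
    · refine ⟨1, 0, Or.inr ⟨rfl, rfl⟩, Finset.singleton_inj.1 (eq_of_pm (c := c) ?_)⟩
      rw [pm_single, Nat.eq_of_beq_eq_true h]; rfl
  have huniq : ∀ n ∈ unions twoCls, (n.testBit 0 = true ∨ n.testBit 1 = true) → pcnt n = k → n = m := by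
    intro n hn hb hp
    rcases hset n hn with h | h
    · rw [Bool.or_eq_false_iff] at h; rcases hb with hb | hb <;> simp [hb] at h
    · rw [hp] at h
      rcases hkm with ⟨rfl, rfl⟩ | ⟨rfl, rfl⟩ | ⟨rfl, rfl⟩
      · exact Nat.eq_of_beq_eq_true (h.1.1.resolve_left (by simp))
      · exact Nat.eq_of_beq_eq_true (h.1.2.resolve_left (by simp))
      · exact Nat.eq_of_beq_eq_true (h.2.resolve_left (by simp))
  have hn : pm c (N H x) = m := by
    refine huniq _ (pull conn_two hc (inv_N H x)) ?_ (by rw [← card_pm, hk])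
    have := (bit_of_mem (A := N H x) i).1 (by rw [← hxi]; exact self_N H x)
    rcases hij with ⟨e, -⟩ | ⟨e, -⟩ <;> rw [e] at this
    · exact Or.inl this
    · exact Or.inr this
  refine ⟨c, hc, hn, i, j, hij, hxi, ?_, ?_⟩
  · rw [bit_of_mem j, hn]
    rcases hij with ⟨-, e⟩ | ⟨-, e⟩ <;> rw [e] <;> rcases hkm with ⟨-, rfl⟩ | ⟨-, rfl⟩ | ⟨-, rfl⟩ <;> rfl
  · have he : Emb c twoGens (H ⊓ stabilizer M24 x ⊓ stabilizer M24 (c • mset (1 <<< j.val))) := by
      refine emb_stab hc ?_
      rw [List.all_eq_true]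
      intro p hp
      obtain ⟨⟨⟨h1, h2⟩, -⟩, -⟩ := hfx p hp
      rcases hij with ⟨-, e⟩ | ⟨-, e⟩ <;> rw [e]
      exacts [h2, h1]
    rw [mset_single, Finset.smul_finset_singleton] at he
    refine eq_of_pm (c := c) ((huniq _ (pull conn_two he (inv_mono ?_ (inv_N H (c • gpt j)))) ?_ (by rw [← card_pm, hk])).trans hn.symm)
    · refine le_inf (inf_le_left.trans inf_le_left) fun g hg => ?_
      have h : g • ({c • gpt j} : Finset GolayPt) = {c • gpt j} := hg.2
      rwa [Finset.smul_finset_singleton, Finset.singleton_inj] at h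
    · have := (bit_of_mem j).1 (self_N H (c • gpt j))
      rcases hij with ⟨-, e⟩ | ⟨-, e⟩ <;> rw [e] at this
      · exact Or.inr this
      · exact Or.inl this

omit ht in
theorem N_const_O {x y : GolayPt} (h : N H y = N H x) :
    ∀ z ∈ O (H ⊓ stabilizer M24 x) y, N H z = N H x := by
  intro z hz
  obtain ⟨g, hg, rfl⟩ := mem_O.1 hz
  rw [N_smul hg.1, h, inv_N H x g hg]

/-- Blocks of size 8 in presence of the element of order 14. -/
theorem blk_eight_seven (h128 : 128 ∣ K) (hk : ∀ x, (N H x).card = 8)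
    (h14 : ∀ x : GolayPt, ∃ c, Emb c fourteenGens (H ⊓ stabilizer M24 x)) :
    ∀ x, ∀ y ∈ N H x, N H y = N H x := by
  intro x y hy
  by_cases hyx : y = x
  · rw [hyx]
  obtain ⟨c, hc, -, i, j, hij, hxi, hjN, hjeq⟩ := two_point ht h128 x hk (Or.inl ⟨rfl, rfl⟩)
  obtain ⟨d, hd⟩ := h14 x
  obtain ⟨-, -, hset, hsing, hsub, -⟩ := seven_checks'
  simp only [List.all_eq_true, Bool.or_eq_true, Bool.not_eq_true', Bool.and_eq_true] at hset hsing hsub
  have hx := (hsing _ (pull conn_fourteen hd (inv_single inf_le_right : Inv (H ⊓ stabilizer M24 x) {x}))).resolve_left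
    (by rw [← card_pm, Finset.card_singleton]; simp)
  have hxd : x = d • gpt 23 := Finset.singleton_inj.1 (eq_of_pm (c := d) (by rw [pm_single, Nat.eq_of_beq_eq_true hx]; rfl))
  have hn : pm d (N H x) = 9929280 := by
    have hb := (bit_of_mem (c := d) (A := N H x) 23).1 (by rw [← hxd]; exact self_N H x)
    rw [show ((23 : Fin 24) : ℕ) = 23 from rfl] at hb
    have h := (hset _ (pull conn_fourteen hd (inv_N H x))).resolve_left (by rw [hb]; simp)
    exact Nat.eq_of_beq_eq_true (h.2.resolve_left (by rw [← card_pm, hk]; simp))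
  set A := O (H ⊓ stabilizer M24 x) (c • gpt j) with hA
  have hne : c • gpt j ≠ x := by
    rw [hxi]; intro e
    have := congrArg Fin.val (congrArg gidx (MulAction.injective c e))
    rw [gidx_gpt, gidx_gpt] at this; omega
  have hAsub : A ⊆ N H x := O_sub (inv_N H x) hjN
  have hxA : x ∉ A := fun h => by
    obtain ⟨g, hg, e⟩ := mem_O.1 h
    exact hne (MulAction.injective g (e.trans (mem_stabilizer_iff.1 hg.2).symm))
  have hb23 : (pm d A).testBit 23 = false := by
    rw [← Bool.not_eq_true]
    intro h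
    exact hxA (hxd ▸ (bit_of_mem (c := d) 23).2 h)
  have h7 := (hsub _ (pull conn_fourteen hd (inv_O _ _))).resolve_left (by
    have := pm_sub (c := d) hAsub
    rw [hn] at this
    rw [← hA, hb23, show Nat.land (pm d A) 9929280 = pm d A from this]
    simp)
  have hA7 : A.card = 7 := by
    rcases h7 with h | h
    · exfalso
      have : (pm d A).testBit (gidx (d⁻¹ • c • gpt j)).val = true := (mem_pm d A _).1 (self_O _ _)
      rw [Nat.eq_of_beq_eq_true h, Nat.zero_testBit] at this
      exact Bool.noConfusion this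
    · rw [card_pm d]; exact Nat.eq_of_beq_eq_true h
  refine N_const_O hjeq y ?_
  have : A = (N H x).erase x := Finset.eq_of_subset_of_card_le
    (fun z hz => Finset.mem_erase.2 ⟨fun e => hxA (e ▸ hz), hAsub hz⟩)
    (by rw [Finset.card_erase_of_mem (self_N H x), hk, hA7])
  rw [← hA, this]
  exact Finset.mem_erase.2 ⟨hyx, hy⟩

theorem octad_N (h128 : 128 ∣ K) (hk : ∀ x, (N H x).card = 8) (x : GolayPt) : N H x ∈ octads := by
  obtain ⟨c, -, hn, -⟩ := two_point ht h128 x hk (Or.inl ⟨rfl, rfl⟩)
  rw [eq_smul_of_pm hn]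
  exact smul_octad_mem c.2 octad_masks.1

/-- Blocks of size 8 in the group of order 138240. -/
theorem blk_eight_five (h128 : 128 ∣ K) (hK : K = 5760) (hk : ∀ x, (N H x).card = 8) :
    ∀ x, ∀ y ∈ N H x, N H y = N H x := by
  intro x
  obtain ⟨c, hc, hn, i, j, hij, hxi, hjN, hjeq⟩ := two_point ht h128 x hk (Or.inl ⟨rfl, rfl⟩)
  obtain ⟨d, hd⟩ := emb_five (L := H ⊓ stabilizer M24 x) (by rw [ht.card, hK]; norm_num)
  obtain ⟨-, hA34, hW, hI⟩ := five_checks'
  obtain ⟨-, -, -, hodd, heven⟩ := two_checks'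
  simp only [List.all_eq_true, Bool.or_eq_true, Bool.not_eq_true', Bool.and_eq_true, List.any_eq_true,
    Bool.and_eq_false_iff] at hA34 hW hI hodd heven
  have hsx : Inv (H ⊓ stabilizer M24 x) {x} := inv_single inf_le_right
  have hNd := pull conn_five hd (inv_N H x)
  have hN8 : pcnt (pm d (N H x)) = 8 := by rw [← card_pm, hk]
  have hne : c • gpt j ≠ x := by
    rw [hxi]; intro e
    have := congrArg Fin.val (congrArg gidx (MulAction.injective c e))
    rw [gidx_gpt, gidx_gpt] at this; omega
  set A := O (H ⊓ stabilizer M24 x) (c • gpt j) with hA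
  have hAsub : A ⊆ N H x := O_sub (inv_N H x) hjN
  have hxA : x ∉ A := fun h => by
    obtain ⟨g, hg, e⟩ := mem_O.1 h
    exact hne (MulAction.injective g (e.trans (mem_stabilizer_iff.1 hg.2).symm))
  have hA34' : A.card ≠ 3 ∧ A.card ≠ 4 := by
    have h := (hA34 _ hNd).resolve_left (by rw [hN8]; simp)
    have h' := (h _ (pull conn_five hd hsx)).resolve_left (by
      rw [← card_pm, Finset.card_singleton, show Nat.land (pm d {x}) (pm d (N H x)) = pm d {x} from
        pm_sub (Finset.singleton_subset_iff.2 (self_N H x))]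
      simp)
    have h'' := (h' _ (pull conn_five hd (inv_O _ (c • gpt j)))).resolve_left (by
      rw [← hA, show Nat.land (pm d A) (pm d (N H x)) = pm d A from pm_sub hAsub,
        show Nat.land (pm d A) (pm d {x}) = 0 from pm_disj (Finset.disjoint_singleton_right.2 hxA)]
      simp)
    rw [← hA, ← card_pm] at h''
    exact ⟨fun e => by rw [e] at h''; simp at h'', fun e => by rw [e] at h''; simp at h''⟩
  have hAodd : A.card % 2 = 1 := by
    have hb1 : (pm c A).testBit j.val = true := (bit_of_mem j).1 (self_O _ _)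
    have hb2 : (pm c A).testBit i.val = false := by
      rw [← Bool.not_eq_true]
      intro h
      exact hxA (hxi ▸ (bit_of_mem i).2 h)
    have hsub := pm_sub (c := c) hAsub
    rw [hn] at hsub
    rcases hodd _ (pull conn_two hc (inv_O _ (c • gpt j))) with (h | h) | h
    · rw [← hA, show Nat.land (pm c A) 45159 = pm c A from hsub, Nat.beq_refl] at h
      exact Bool.noConfusion h
    · rw [← hA] at h
      rcases hij with ⟨ei, ej⟩ | ⟨ei, ej⟩ <;> rw [ei] at hb2 <;> rw [ej] at hb1 <;> simp [hb1, hb2] at h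
    · rw [← hA, ← card_pm] at h
      exact Nat.eq_of_beq_eq_true h
  have hAle : A.card ≤ 7 := by
    have := Finset.card_le_card (fun z hz => Finset.mem_erase.2 ⟨fun e => hxA (e ▸ hz), hAsub hz⟩ : A ⊆ (N H x).erase x)
    rwa [Finset.card_erase_of_mem (self_N H x), hk] at this
  have hAdvd : A.card ∣ 5760 := by
    rw [← hK, ← ht.card x]; exact Dvd.intro _ (card_O _ _)
  have hA15 : A.card = 1 ∨ A.card = 5 := by
    obtain ⟨h3, h4⟩ := hA34'
    interval_cases A.card <;> omega
  have hAeq : ∀ z ∈ A, N H z = N H x := N_const_O hjeq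
  intro y hy
  by_cases hyx : y = x
  · rw [hyx]
  by_cases hyA : y ∈ A
  · exact hAeq y hyA
  rcases hA15 with h1 | h5
  · -- the remaining six points form one suborbit
    have hA1 : A = {c • gpt j} := by
      obtain ⟨a, ha⟩ := Finset.card_eq_one.1 h1
      have : c • gpt j ∈ A := self_O _ _
      rw [ha, Finset.mem_singleton] at this
      rw [ha, this]
    set S2 := ({x, c • gpt j} : Finset GolayPt) with hS2
    have hS2inv : Inv (H ⊓ stabilizer M24 x) S2 := fun g hg => by
      have e1 := hsx g hg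
      have e2 : g • A = A := inv_O _ _ g hg
      rw [hA1] at e2
      rw [hS2, Finset.insert_eq, Finset.smul_finset_union, e1, e2]
    have hS2c : S2.card = 2 := Finset.card_pair hne.symm
    have hS2sub : S2 ⊆ N H x := Finset.insert_subset (self_N H x) (Finset.singleton_subset_iff.2 hjN)
    obtain ⟨⟨l, hl, hln, hls⟩, hsix⟩ := ((hW _ hNd).resolve_left (by rw [hN8]; simp) _ (pull conn_five hd hS2inv)).resolve_left (by
      rw [← card_pm, hS2c, show Nat.land (pm d S2) (pm d (N H x)) = pm d S2 from pm_sub hS2sub]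
      simp)
    have hl24 : l < 24 := by simp only [List.mem_cons, List.not_mem_nil, or_false] at hl; omega
    set z := d • gpt ⟨l, hl24⟩ with hz
    have hzN : z ∈ N H x := (bit_of_mem ⟨l, hl24⟩).2 hln
    have hzS : z ∉ S2 := fun h => by
      rw [hz, bit_of_mem ⟨l, hl24⟩] at h
      rw [h] at hls; exact Bool.noConfusion hls
    have heq : N H z = N H x := by
      have he : Emb d fiveGens (H ⊓ stabilizer M24 x ⊓ stabilizer M24 (d • mset (1 <<< l))) := by
        refine emb_stab hd ?_
        obtain ⟨-, -, hfx, -⟩ := five_checks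
        simp only [List.all_eq_true, Bool.and_eq_true] at hfx ⊢
        intro p hp
        obtain ⟨⟨⟨a1, a2⟩, a3⟩, a4⟩ := hfx p hp
        simp only [List.mem_cons, List.not_mem_nil, or_false] at hl
        rcases hl with rfl | rfl | rfl | rfl
        exacts [a1, a2, a3, a4]
      rw [show mset (1 <<< l) = {gpt ⟨l, hl24⟩} from mset_single ⟨l, hl24⟩, Finset.smul_finset_singleton] at he
      set L2 := H ⊓ stabilizer M24 x ⊓ stabilizer M24 ({z} : Finset GolayPt)
      have hL2z : L2 ≤ stabilizer M24 z := fun g hg => by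
        have h : g • ({z} : Finset GolayPt) = {z} := hg.2
        rwa [Finset.smul_finset_singleton, Finset.singleton_inj] at h
      have hIinv : Inv L2 (N H x ∩ N H z) := fun g hg => by
        rw [Finset.smul_finset_inter, inv_N H x g hg.1, inv_N H z g ⟨hg.1.1, hL2z hg⟩]
      have hS3inv : Inv L2 (insert z S2) := fun g hg => by
        rw [Finset.insert_eq, Finset.smul_finset_union, inv_single hL2z g hg, hS2inv g hg.1]
      have hsy : x ∈ N H z ∧ c • gpt j ∈ N H z :=
        ⟨sym_N ht hzN, sym_N ht (by rw [hjeq]; exact hzN)⟩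
      have h := ((hI _ hNd).resolve_left (by rw [hN8]; simp) _ (pull conn_five he hS3inv)).resolve_left (by
        rw [← card_pm, Finset.card_insert_of_notMem hzS, hS2c,
          show Nat.land (pm d (insert z S2)) (pm d (N H x)) = pm d (insert z S2) from
            pm_sub (Finset.insert_subset hzN hS2sub)]
        simp) _ (pull conn_five he hIinv)
      have hsub3 : insert z S2 ⊆ N H x ∩ N H z := by
        refine Finset.subset_inter (Finset.insert_subset hzN hS2sub) ?_
        exact Finset.insert_subset (self_N H z) (Finset.insert_subset hsy.1 (Finset.singleton_subset_iff.2 hsy.2))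
      replace h := h.resolve_left (by
        rw [show Nat.land (pm d (N H x ∩ N H z)) (pm d (N H x)) = pm d (N H x ∩ N H z) from
            pm_sub Finset.inter_subset_left,
          show Nat.land (pm d (insert z S2)) (pm d (N H x ∩ N H z)) = pm d (insert z S2) from pm_sub hsub3]
        simp)
      rw [← card_pm] at h
      rcases h with h | h
      · have h3 := Nat.eq_of_beq_eq_true h
        have := supports_even_inter (octad_N ht h128 hk x).1 (octad_N ht h128 hk z).1
        rw [h3] at this
        exact absurd this (by decide)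
      · have h8 := Nat.eq_of_beq_eq_true h
        have e1 := Finset.eq_of_subset_of_card_le (Finset.inter_subset_left : N H x ∩ N H z ⊆ _) (by rw [h8, hk])
        have e2 := Finset.eq_of_subset_of_card_le (Finset.inter_subset_right : N H x ∩ N H z ⊆ _) (by rw [h8, hk])
        exact e2.symm.trans e1
    refine N_const_O heq y ?_
    set B := O (H ⊓ stabilizer M24 x) z with hB
    have hBsub : B ⊆ N H x := O_sub (inv_N H x) hzN
    have hBS : Disjoint B S2 := Finset.disjoint_left.2 fun w hw hw' => by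
      obtain ⟨g, hg, rfl⟩ := mem_O.1 hw
      have := mem_of_inv hS2inv (inv_mem hg) hw'
      rw [inv_smul_smul] at this
      exact hzS this
    have h16 := (hsix _ (pull conn_five hd (inv_O _ z))).resolve_left (by
      rw [← hB, show Nat.land (pm d B) (pm d (N H x)) = pm d B from pm_sub hBsub,
        show Nat.land (pm d B) (pm d S2) = 0 from pm_disj hBS]
      have hl' : (([0, 1, 10, 23] : List ℕ).any fun i => (pm d B).testBit i) = true :=
        List.any_eq_true.2 ⟨l, hl, (bit_of_mem ⟨l, hl24⟩).1 (self_O _ z)⟩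
      simp [hl'])
    rw [← hB, ← card_pm] at h16
    have hev : B.card % 2 = 0 := by
      rcases heven _ (pull conn_two hc (inv_O _ z)) with (h | h) | h
      · exfalso
        have hm : c • gpt 0 ∈ B := (bit_of_mem 0).2 h
        refine Finset.disjoint_left.1 hBS hm ?_
        rcases hij with ⟨ei, -⟩ | ⟨-, ej⟩
        · rw [hS2, show (0 : Fin 24) = i from Fin.ext ei.symm, ← hxi]; exact Finset.mem_insert_self _ _
        · rw [hS2, show (0 : Fin 24) = j from Fin.ext ej.symm]; simp
      · exfalso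
        have hm : c • gpt 1 ∈ B := (bit_of_mem 1).2 h
        refine Finset.disjoint_left.1 hBS hm ?_
        rcases hij with ⟨-, ej⟩ | ⟨ei, -⟩
        · rw [hS2, show (1 : Fin 24) = j from Fin.ext ej.symm]; simp
        · rw [hS2, show (1 : Fin 24) = i from Fin.ext ei.symm, ← hxi]; exact Finset.mem_insert_self _ _
      · rw [← hB, ← card_pm] at h; exact Nat.eq_of_beq_eq_true h
    have hB6 : B.card = 6 := by
      rcases h16 with h | h
      · rw [Nat.eq_of_beq_eq_true h] at hev; omega
      · exact Nat.eq_of_beq_eq_true h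
    have : B = N H x \ S2 := Finset.eq_of_subset_of_card_le
      (fun w hw => Finset.mem_sdiff.2 ⟨hBsub hw, Finset.disjoint_left.1 hBS hw⟩)
      (by rw [Finset.card_sdiff_of_subset hS2sub, hk, hS2c, hB6])
    rw [this, hS2, Finset.mem_sdiff]
    refine ⟨hy, ?_⟩
    rw [hA1, Finset.mem_singleton] at hyA
    simp [hyx, hyA]
  · have hs : insert x A ⊆ N H y := Finset.insert_subset (sym_N ht hy) fun a ha =>
      sym_N ht (by rw [hAeq a ha]; exact hy)
    exact octads_eq_of_five (octad_N ht h128 hk y) (octad_N ht h128 hk x) (s := insert x A)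
      (by rw [Finset.card_insert_of_notMem hxA, h5]; norm_num) hs (Finset.insert_subset (self_N H x) hAsub)

/-- No blocks of size 6. -/
theorem six_false (h128 : 128 ∣ K) (h5 : 5 ∣ K) (hk : ∀ x, (N H x).card = 6) : False := by
  have hblk : ∀ x, ∀ y ∈ N H x, N H y = N H x := by
    intro x y hy
    by_cases hyx : y = x
    · rw [hyx]
    obtain ⟨c, hc, -, i, j, hij, hxi, hjN, hjeq⟩ := two_point ht h128 x hk (Or.inr (Or.inl ⟨rfl, rfl⟩))
    obtain ⟨d, hd⟩ := emb_five (L := H ⊓ stabilizer M24 x) (by rwa [ht.card])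
    obtain ⟨hA5, -⟩ := five_checks'
    simp only [List.all_eq_true, Bool.or_eq_true, Bool.not_eq_true', Bool.and_eq_true, Bool.and_eq_false_iff] at hA5
    have hne : c • gpt j ≠ x := by
      rw [hxi]; intro e
      have := congrArg Fin.val (congrArg gidx (MulAction.injective c e))
      rw [gidx_gpt, gidx_gpt] at this; omega
    set A := O (H ⊓ stabilizer M24 x) (c • gpt j) with hA
    have hAsub : A ⊆ N H x := O_sub (inv_N H x) hjN
    have hxA : x ∉ A := fun h => by
      obtain ⟨g, hg, e⟩ := mem_O.1 h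
      exact hne (MulAction.injective g (e.trans (mem_stabilizer_iff.1 hg.2).symm))
    have h := ((hA5 _ (pull conn_five hd (inv_N H x))).resolve_left (by rw [← card_pm, hk]; simp) _
      (pull conn_five hd (inv_single inf_le_right : Inv (H ⊓ stabilizer M24 x) {x}))).resolve_left (by
        rw [← card_pm, Finset.card_singleton, show Nat.land (pm d {x}) (pm d (N H x)) = pm d {x} from
          pm_sub (Finset.singleton_subset_iff.2 (self_N H x))]
        simp)
    replace h := (h _ (pull conn_five hd (inv_O _ (c • gpt j)))).resolve_left (by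
      rw [← hA, show Nat.land (pm d A) (pm d (N H x)) = pm d A from pm_sub hAsub,
        show Nat.land (pm d A) (pm d {x}) = 0 from pm_disj (Finset.disjoint_singleton_right.2 hxA)]
      simp)
    have hA5c : A.card = 5 := by
      rcases h with h | h
      · exfalso
        have : (pm d A).testBit (gidx (d⁻¹ • c • gpt j)).val = true := (mem_pm d A _).1 (self_O _ _)
        rw [Nat.eq_of_beq_eq_true h, Nat.zero_testBit] at this
        exact Bool.noConfusion this
      · rw [card_pm d]; exact Nat.eq_of_beq_eq_true h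
    refine N_const_O hjeq y ?_
    have : A = (N H x).erase x := Finset.eq_of_subset_of_card_le
      (fun z hz => Finset.mem_erase.2 ⟨fun e => hxA (e ▸ hz), hAsub hz⟩)
      (by rw [Finset.card_erase_of_mem (self_N H x), hk, hA5c])
    rw [← hA, this]
    exact Finset.mem_erase.2 ⟨hyx, hy⟩
  set x := gpt 0
  obtain ⟨c, hc, hn, -⟩ := two_point ht h128 x hk (Or.inr (Or.inl ⟨rfl, rfl⟩))
  obtain ⟨-, -, -, hfx⟩ := two_checks
  obtain ⟨hP, -⟩ := two_checks'
  simp only [List.all_eq_true, Bool.or_eq_true, Bool.not_eq_true', Bool.and_eq_true, Bool.and_eq_false_iff] at hP hfx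
  have he := emb_stab hc (m := 36) (List.all_eq_true.2 fun p hp => (hfx p hp).1.2)
  set Q := c • mset 36 with hQ
  set P := Q.biUnion (N H) with hPd
  have hPinv : Inv (H ⊓ stabilizer M24 x ⊓ stabilizer M24 Q) P := inv_of_sub fun g hg w hw => by
    obtain ⟨q, hq, hwq⟩ := Finset.mem_biUnion.1 hw
    refine Finset.mem_biUnion.2 ⟨g • q, ?_, ?_⟩
    · have := Finset.smul_mem_smul_finset (a := g) hq
      rwa [show g • Q = Q from hg.2] at this
    · rw [N_smul hg.1.1]; exact Finset.smul_mem_smul_finset hwq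
  have hQd : ∀ q ∈ Q, q ∉ N H x := by
    intro q hq hq'
    have : q ∈ c • (mset 36 ∩ mset 45123) := by
      rw [Finset.smul_finset_inter, ← eq_smul_of_pm hn]
      exact Finset.mem_inter.2 ⟨hq, hq'⟩
    rw [← mset_and, show (36 : ℕ) &&& 45123 = 0 from by decide, mset_zero, Finset.smul_finset_empty] at this
    exact Finset.notMem_empty _ this
  have hd : Disjoint P (N H x) := Finset.disjoint_left.2 fun w hw hw' => by
    obtain ⟨q, hq, hwq⟩ := Finset.mem_biUnion.1 hw
    exact hQd q hq (by rw [← hblk x w hw', hblk q w hwq]; exact self_N H _)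
  have hb : (pm c P).testBit 2 = true := by
    rw [← show ((2 : Fin 24) : ℕ) = 2 from rfl, ← bit_of_mem]
    exact Finset.mem_biUnion.2 ⟨c • gpt 2, mem_smul_bit 2 rfl, self_N H _⟩
  have hcard : P.card ≤ 12 := by
    refine le_trans (Finset.card_biUnion_le_card_mul _ _ 6 fun q _ => (hk q).le) ?_
    rw [hQ, Finset.card_smul_finset, mset_card]; decide
  have h6 : 6 ≤ P.card := (hk (c • gpt 2)).ge.trans (Finset.card_le_card
    (Finset.subset_biUnion_of_mem (N H) (mem_smul_bit (c := c) (m := 36) 2 rfl)))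
  have h := (hP _ (pull conn_two he hPinv)).resolve_left (by
    have h0 := pm_disj (c := c) hd
    rw [hn] at h0
    rw [show Nat.land (pm c P) 45123 = 0 from h0, hb, ← card_pm]
    simp [hcard])
  rw [← card_pm, Nat.ble_eq] at h
  omega

/-- The sextet of a transitive subgroup with short part of size 4. -/
theorem sextet_case (h128 : 128 ∣ K) (h5 : 5 ∣ K) (hk : ∀ x, (N H x).card = 4) :
    ∃ S ∈ sextets, ∀ g ∈ H, g • S = S := by
  have hblk := blk_of_fix ht conn_five (fun x => emb_five (by rwa [ht.card])) hk (m := 8389635)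
    (fun n hn hp => by
      have := List.all_eq_true.1 five_checks.2.2.2 n hn
      rw [hp] at this
      simpa using this)
    (fun i hi => by
      obtain ⟨-, -, hfx, -⟩ := five_checks
      have : i.val = 0 ∨ i.val = 1 ∨ i.val = 10 ∨ i.val = 23 := by revert hi; revert i; decide +kernel
      simp only [List.all_eq_true, Bool.and_eq_true] at hfx ⊢
      intro p hp
      obtain ⟨⟨⟨a1, a2⟩, a3⟩, a4⟩ := hfx p hp
      rcases this with e | e | e | e <;> rw [e]
      exacts [a1, a2, a3, a4])
  have hoct : ∀ x y, y ∉ N H x → N H x ∪ N H y ∈ octads := by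
    intro x y hy
    obtain ⟨c, hc, hn, -⟩ := two_point ht h128 x hk (Or.inr (Or.inr ⟨rfl, rfl⟩))
    obtain ⟨c', hc', hc3, hone, -⟩ := big_orbit ht h128 x
    obtain ⟨-, -, -, hfx⟩ := two_checks
    obtain ⟨-, hP, -⟩ := two_checks'
    simp only [List.all_eq_true, Bool.or_eq_true, Bool.not_eq_true', Bool.and_eq_true, Bool.and_eq_false_iff] at hP hfx
    have he := emb_stab hc (m := 45120) (List.all_eq_true.2 fun p hp => (hfx p hp).2)
    set Q := c • mset 45120 with hQ
    set P := Q.biUnion (N H) with hPd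
    have hPinv : Inv (H ⊓ stabilizer M24 x ⊓ stabilizer M24 Q) P := inv_of_sub fun g hg w hw => by
      obtain ⟨q, hq, hwq⟩ := Finset.mem_biUnion.1 hw
      refine Finset.mem_biUnion.2 ⟨g • q, ?_, ?_⟩
      · have := Finset.smul_mem_smul_finset (a := g) hq
        rwa [show g • Q = Q from hg.2] at this
      · rw [N_smul hg.1.1]; exact Finset.smul_mem_smul_finset hwq
    have hQd : ∀ q ∈ Q, q ∉ N H x := by
      intro q hq hq'
      have : q ∈ c • (mset 45120 ∩ mset 39) := by
        rw [Finset.smul_finset_inter, ← eq_smul_of_pm hn]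
        exact Finset.mem_inter.2 ⟨hq, hq'⟩
      rw [← mset_and, show (45120 : ℕ) &&& 39 = 0 from by decide, mset_zero, Finset.smul_finset_empty] at this
      exact Finset.notMem_empty _ this
    have hd : Disjoint P (N H x) := Finset.disjoint_left.2 fun w hw hw' => by
      obtain ⟨q, hq, hwq⟩ := Finset.mem_biUnion.1 hw
      exact hQd q hq (by rw [← hblk x w hw', hblk q w hwq]; exact self_N H _)
    have h6 : c • gpt 6 ∈ Q := mem_smul_bit 6 rfl
    have hb : (pm c P).testBit 6 = true := by
      rw [← show ((6 : Fin 24) : ℕ) = 6 from rfl, ← bit_of_mem]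
      exact Finset.mem_biUnion.2 ⟨c • gpt 6, h6, self_N H _⟩
    have hcard : P.card ≤ 16 := by
      refine le_trans (Finset.card_biUnion_le_card_mul _ _ 4 fun q _ => (hk q).le) ?_
      rw [hQ, Finset.card_smul_finset, mset_card]; decide
    have hPeq : pm c P = 45120 := Nat.eq_of_beq_eq_true ((hP _ (pull conn_two he hPinv)).resolve_left (by
      have h0 := pm_disj (c := c) hd
      rw [hn] at h0
      rw [show Nat.land (pm c P) 39 = 0 from h0, hb, ← card_pm]
      simp [hcard]))
    have hz : N H (c • gpt 6) = Q := by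
      refine Finset.eq_of_subset_of_card_le ?_ (by rw [hk, hQ, Finset.card_smul_finset, mset_card]; decide)
      rw [hQ, ← eq_smul_of_pm hPeq]
      exact Finset.subset_biUnion_of_mem (N H) h6
    have hy' : y ∈ O (H ⊓ stabilizer M24 x) (c • gpt 6) := by
      rw [hone _ (hQd _ h6), Finset.mem_compl]; exact hy
    obtain ⟨g, hg, rfl⟩ := mem_O.1 hy'
    rw [N_smul hg.1, hz, ← inv_N H x g hg, ← Finset.smul_finset_union, hQ]
    refine smul_octad_mem g.2 ?_
    rw [eq_smul_of_pm hn, ← Finset.smul_finset_union, ← mset_or]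
    exact smul_octad_mem c.2 (show mset (39 ||| 45120) ∈ octads from (by rw [show (39 : ℕ) ||| 45120 = 45159 from by decide]; exact octad_masks.1))
  refine ⟨Finset.univ.image (N H), ⟨?_, ?_, ?_⟩, ?_⟩
  · have h := Finset.card_eq_sum_card_image (N H) (Finset.univ : Finset GolayPt)
    have hfib : ∀ t ∈ Finset.univ.image (N H), (Finset.univ.filter fun w => N H w = t).card = 4 := by
      intro t ht'
      obtain ⟨z, -, rfl⟩ := Finset.mem_image.1 ht'
      rw [← hk z]
      congr 1
      ext w
      simp only [Finset.mem_filter, Finset.mem_univ, true_and]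
      exact ⟨fun e => e ▸ self_N H w, fun hw => hblk z w hw⟩
    rw [Finset.sum_congr rfl hfib, Finset.sum_const, smul_eq_mul, Finset.card_univ, Fintype.card_eq_nat_card,
      nat_card_golayPt] at h
    omega
  · intro t ht'
    obtain ⟨z, -, rfl⟩ := Finset.mem_image.1 ht'
    exact hk z
  · intro t ht' u hu hne
    obtain ⟨z, -, rfl⟩ := Finset.mem_image.1 ht'
    obtain ⟨w, -, rfl⟩ := Finset.mem_image.1 hu
    exact hoct z w fun hw => hne (hblk z w hw).symm
  · intro g hg
    refine Finset.eq_of_subset_of_card_le ?_ (by rw [Finset.card_smul_finset])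
    intro t ht'
    obtain ⟨u, hu, rfl⟩ := Finset.mem_smul_finset.1 ht'
    obtain ⟨z, -, rfl⟩ := Finset.mem_image.1 hu
    exact Finset.mem_image.2 ⟨g • z, Finset.mem_univ _, N_smul hg z⟩

/-- The two orders with an element of order 14 in the point stabiliser. -/
theorem seven_false (hK : K = 13440 ∨ K = 40320) : False := by
  have h128 : 128 ∣ K := by rcases hK with rfl | rfl <;> norm_num
  have h5 : 5 ∣ K := by rcases hK with rfl | rfl <;> norm_num
  have h14 : ∀ x : GolayPt, ∃ c, Emb c fourteenGens (H ⊓ stabilizer M24 x) := by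
    intro x
    rcases hK with rfl | rfl
    · obtain ⟨j, hj0, hj, hj6, hjd, hmod, h⟩ := emb_seven (L := H ⊓ stabilizer M24 x) inf_le_right (m := 1920)
        (by rw [ht.card]) (by norm_num)
      refine h ?_
      interval_cases j <;> simp_all
    · obtain ⟨j, hj0, hj, hj6, hjd, hmod, h⟩ := emb_seven (L := H ⊓ stabilizer M24 x) inf_le_right (m := 5760)
        (by rw [ht.card]) (by norm_num)
      refine h ?_
      interval_cases j <;> simp_all
  set x := gpt 0
  obtain ⟨d, hd⟩ := h14 x
  obtain ⟨hfx7, huniq7, hset, hsing, -⟩ := seven_checks'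
  simp only [List.all_eq_true, Bool.or_eq_true, Bool.not_eq_true', Bool.and_eq_true] at hset hsing huniq7 hfx7
  have hx := (hsing _ (pull conn_fourteen hd (inv_single inf_le_right : Inv (H ⊓ stabilizer M24 x) {x}))).resolve_left
    (by rw [← card_pm, Finset.card_singleton]; simp)
  have hxd : x = d • gpt 23 := Finset.singleton_inj.1 (eq_of_pm (c := d) (by rw [pm_single, Nat.eq_of_beq_eq_true hx]; rfl))
  have hb := (bit_of_mem (c := d) (A := N H x) 23).1 (by rw [← hxd]; exact self_N H x)
  rw [show ((23 : Fin 24) : ℕ) = 23 from rfl] at hb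
  obtain ⟨-, -, -, -, hdvd, hle⟩ := big_orbit ht h128 x
  have h := ((hset _ (pull conn_fourteen hd (inv_N H x))).resolve_left (by rw [hb]; simp)).1.resolve_left
    (by rw [← card_pm]; simp [hle])
  rw [← card_pm] at h
  rcases h with (h | h) | h
  · rw [Nat.eq_of_beq_eq_true h] at hdvd
    rcases hK with rfl | rfl <;> norm_num at hdvd
  · have hk : ∀ z, (N H z).card = 3 := fun z => (card_N ht x z).trans (Nat.eq_of_beq_eq_true h)
    refine blocks_false ht h5 (Or.inl rfl) hk (blk_of_fix ht conn_seven ?_ hk (m := 8396801) ?_ ?_)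
    · intro z
      obtain ⟨c, hc⟩ := h14 z
      exact ⟨c, fun p hp => hc p (List.mem_cons.2 (Or.inl (List.mem_singleton.1 hp)))⟩
    · intro n hn hp
      exact Nat.eq_of_beq_eq_true ((huniq7 n hn).resolve_left (by rw [hp]; simp))
    · intro i hi
      have : i.val = 0 ∨ i.val = 13 ∨ i.val = 23 := by revert hi; revert i; decide +kernel
      rw [List.all_eq_true]
      intro p hp
      obtain ⟨⟨a1, a2⟩, a3⟩ := hfx7 p hp
      rcases this with e | e | e <;> rw [e]
      exacts [a1, a2, a3]
  · have hk : ∀ z, (N H z).card = 8 := fun z => (card_N ht x z).trans (Nat.eq_of_beq_eq_true h)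
    exact blocks_false ht h5 (Or.inr rfl) hk (blk_eight_seven ht h128 hk h14)

/-- The order 138240. -/
theorem sextet_of_trans (hK : K = 5760) : ∃ S ∈ sextets, ∀ g ∈ H, g • S = S := by
  have h128 : 128 ∣ K := by subst hK; norm_num
  have h5 : 5 ∣ K := by subst hK; norm_num
  obtain ⟨c, -, -, -, hdvd, hle⟩ := big_orbit ht h128 (gpt 0)
  have hall := fun z => card_N ht (gpt 0) z
  have hpos : 0 < (N H (gpt 0)).card := Finset.card_pos.2 ⟨_, self_N H _⟩
  have : (N H (gpt 0)).card = 8 ∨ (N H (gpt 0)).card = 6 ∨ (N H (gpt 0)).card = 4 := by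
    subst hK
    generalize (N H (gpt 0)).card = n at hdvd hle hpos
    interval_cases n <;> (revert hdvd; decide)
  rcases this with h | h | h
  · exact (blocks_false ht h5 (Or.inr rfl) (fun z => (hall z).trans h)
      (blk_eight_five ht h128 hK fun z => (hall z).trans h)).elim
  · exact (six_false ht h128 h5 fun z => (hall z).trans h).elim
  · exact sextet_case ht h128 h5 fun z => (hall z).trans h

end Transitive

/-! ## The four indices -/

theorem card_of_index {H : Subgroup M24} {n : ℕ} (h : H.index = n) : Nat.card H * n = 244823040 := by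
  rw [← h, H.card_mul_index, card_M24]

/-- The stabiliser of a point in the subgroup, from the orbit. -/
theorem orbit_data (H : Subgroup M24) (x : GolayPt) :
    (O H x).card * Nat.card ↥(H ⊓ stabilizer M24 x) = Nat.card H ∧
      Nat.card ↥(H ⊓ stabilizer M24 x) ∣ 10200960 ∧ (O H x).card ≤ 24 ∧ 0 < (O H x).card :=
  ⟨card_O H x, card_M24_stabilizer x ▸ Subgroup.card_dvd_of_le inf_le_right,
    (Finset.card_le_univ _).trans (le_of_eq rfl), Finset.card_pos.2 ⟨x, self_O H x⟩⟩

theorem trans_of_orbit {H : Subgroup M24} (K : ℕ) (hc : Nat.card H = 24 * K)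
    (h : ∀ x, (O H x).card = 24) : Trans H K := by
  refine ⟨fun x y => ?_, fun x => ?_⟩
  · have : O H x = Finset.univ := Finset.eq_univ_of_card _ (by rw [h]; rfl)
    exact mem_O.1 (this ▸ Finset.mem_univ y)
  · have h' := (orbit_data H x).1
    rw [h, hc] at h'
    omega

theorem eq_stab {X : Type*} [MulAction M24 X] {H : Subgroup M24} {s : X} (hH : ∀ g ∈ H, g • s = s)
    (hc : Nat.card (stabilizer M24 s) ≤ Nat.card H) : H = stabilizer M24 s :=
  Subgroup.eq_of_le_of_card_ge (fun g hg => mem_stabilizer_iff.2 (hH g hg)) hc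

theorem eq_253 (H : Subgroup M24) : H.index ≠ 253 := by
  intro h
  have hc := card_of_index h
  refine seven_false (trans_of_orbit (H := H) 40320 (by omega) fun x => ?_) (Or.inr rfl)
  obtain ⟨h1, h2, h3, h4⟩ := orbit_data H x
  have hH : Nat.card H = 967680 := by omega
  rw [hH] at h1
  generalize (O H x).card = m at h1 h3 h4
  generalize Nat.card ↥(H ⊓ stabilizer M24 x) = k at h1 h2
  interval_cases m <;> first | omega | (obtain rfl : k = _ := Nat.eq_div_of_mul_eq_right (by norm_num) h1; norm_num at h2)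

theorem eq_759 (H : Subgroup M24) (h : H.index = 759) : ∃ o ∈ octads, H = stabilizer M24 o := by
  have hc := card_of_index h
  have hH : Nat.card H = 322560 := by omega
  have hm : ∀ x, (O H x).card = 8 ∨ (O H x).card = 16 ∨ (O H x).card = 24 := fun x => by
    obtain ⟨h1, h2, h3, h4⟩ := orbit_data H x
    rw [hH] at h1
    generalize (O H x).card = m at h1 h3 h4
    generalize Nat.card ↥(H ⊓ stabilizer M24 x) = k at h1 h2
    interval_cases m <;> first | omega | (obtain rfl : k = _ := Nat.eq_div_of_mul_eq_right (by norm_num) h1; norm_num at h2)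
  obtain ⟨x, hx⟩ : ∃ x, (O H x).card = 8 := by
    by_contra hne
    push Not at hne
    by_cases h24 : ∀ x, (O H x).card = 24
    · exact seven_false (trans_of_orbit (H := H) 13440 (by omega) h24) (Or.inl rfl)
    push Not at h24
    obtain ⟨x, hx⟩ := h24
    have hx16 : (O H x).card = 16 := by have := hm x; have := hne x; omega
    obtain ⟨y, hy⟩ : ((O H x)ᶜ).Nonempty := Finset.card_pos.1 (by
      rw [Finset.card_compl, Fintype.card_eq_nat_card, nat_card_golayPt, hx16]; norm_num)
    have hsub : O H y ⊆ (O H x)ᶜ := O_sub (inv_of_sub fun g hg z hz => by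
      rw [Finset.mem_compl] at hz ⊢
      intro hh
      have := mem_of_inv (inv_O H x) (inv_mem hg) hh
      rw [inv_smul_smul] at this
      exact hz this) hy
    have := Finset.card_le_card hsub
    rw [Finset.card_compl, Fintype.card_eq_nat_card, nat_card_golayPt, hx16] at this
    have := hm y; have := hne y; omega
  set L := H ⊓ stabilizer M24 x
  have hL : Nat.card L = 40320 := by
    have := (orbit_data H x).1; rw [hx, hH] at this
    show Nat.card ↥(H ⊓ stabilizer M24 x) = _
    omega
  obtain ⟨j, hj0, hj, hj6, hjd, hmod, hemb⟩ := emb_seven (L := L) inf_le_right (m := 5760) hL (by norm_num)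
  obtain ⟨d, hd⟩ := hemb (by interval_cases j <;> simp_all)
  obtain ⟨-, -, hset, hsing, -⟩ := seven_checks'
  simp only [List.all_eq_true, Bool.or_eq_true, Bool.not_eq_true', Bool.and_eq_true] at hset hsing
  have hxs := (hsing _ (pull conn_fourteen hd (inv_single inf_le_right : Inv L {x}))).resolve_left
    (by rw [← card_pm, Finset.card_singleton]; simp)
  have hxd : x = d • gpt 23 := Finset.singleton_inj.1 (eq_of_pm (c := d) (by rw [pm_single, Nat.eq_of_beq_eq_true hxs]; rfl))
  have hb := (bit_of_mem (c := d) (A := O H x) 23).1 (by rw [← hxd]; exact self_O H x)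
  rw [show ((23 : Fin 24) : ℕ) = 23 from rfl] at hb
  have hB := ((hset _ (pull conn_fourteen hd (inv_mono inf_le_left (inv_O H x) : Inv L (O H x)))).resolve_left
    (by rw [hb]; simp)).2.resolve_left (by rw [← card_pm, hx]; simp)
  have ho : O H x ∈ octads := by
    rw [eq_smul_of_pm (Nat.eq_of_beq_eq_true hB)]
    exact smul_octad_mem d.2 octad_masks.2
  exact ⟨_, ho, eq_stab (inv_O H x) (by rw [card_octad_stabilizer ho, hH])⟩

theorem card_duad_stab_le {s : Finset GolayPt} (hs : s.card = 2) :
    Nat.card (stabilizer M24 s) ≤ 887040 := by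
  obtain ⟨a, b, hab, rfl⟩ := Finset.card_eq_two.1 hs
  obtain ⟨e1, i1⟩ := MTwentyThree.card_le_step (L := stabilizer M24 ({a, b} : Finset GolayPt))
    (s := {a, b}) (fun g hg y hy => by
      have := Finset.smul_mem_smul_finset (a := g) hy
      rwa [mem_stabilizer_iff.1 hg] at this) (y := a) (by simp)
  refine e1.trans ?_
  rw [Finset.card_pair hab]
  have : Nat.card ↥(stabilizer M24 ({a, b} : Finset GolayPt) ⊓ stabilizer M24 a) ≤ 443520 := by
    rw [← card_two_stabilizer hab]
    refine Subgroup.card_le_of_le fun g hg => ⟨hg.2, ?_⟩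
    have h := i1 g hg b (by simp [Ne.symm hab])
    simp only [Finset.mem_erase, Finset.mem_insert, Finset.mem_singleton] at h
    exact h.2.resolve_left h.1
  omega

theorem eq_276 (H : Subgroup M24) (h : H.index = 276) :
    ∃ s : Finset GolayPt, s.card = 2 ∧ H = stabilizer M24 s := by
  have hc := card_of_index h
  have hH : Nat.card H = 887040 := by omega
  obtain ⟨-, -, -, hsing, -, h14sz, hv, hv1⟩ := seven_checks'
  simp only [List.all_eq_true, Bool.or_eq_true, Bool.not_eq_true'] at hsing h14sz hv hv1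
  obtain ⟨v, hve⟩ := emb_eleven (L := H) (by rw [hH]; norm_num)
  have hm : ∀ x, (O H x).card = 2 ∨ (O H x).card = 22 ∨ (O H x).card = 24 := fun x => by
    obtain ⟨h1, h2, h3, h4⟩ := orbit_data H x
    have hval := hv _ (pull conn_eleven hve (inv_O H x))
    rw [← card_pm, List.contains_iff_mem] at hval
    rw [hH] at h1
    simp only [List.mem_cons, List.not_mem_nil, or_false] at hval
    rcases hval with e | e | e | e | e | e | e | e | e
    · omega
    · exfalso
      rw [e] at h1
      rw [show Nat.card ↥(H ⊓ stabilizer M24 x) = 887040 by omega] at h2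
      norm_num at h2
    · exact Or.inl e
    · exfalso
      rw [e] at h1
      rw [show Nat.card ↥(H ⊓ stabilizer M24 x) = 80640 by omega] at h2
      norm_num at h2
    · exfalso
      rw [e] at h1
      obtain ⟨j, hj0, hj, hj6, hjd, hmod, -⟩ := emb_seven (L := H ⊓ stabilizer M24 x) inf_le_right (m := 10560)
        (by omega) (by norm_num)
      interval_cases j <;> (revert hjd hmod hj6; decide)
    · exfalso; rw [e] at h1; omega
    · exact Or.inr (Or.inl e)
    · exfalso; rw [e] at h1; omega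
    · exact Or.inr (Or.inr e)
  obtain ⟨x, hx⟩ : ∃ x, (O H x).card = 2 := by
    by_contra hne
    push Not at hne
    by_cases h22 : ∃ x, (O H x).card = 22
    · obtain ⟨x, hx⟩ := h22
      obtain ⟨y, hy⟩ : ((O H x)ᶜ).Nonempty := Finset.card_pos.1 (by
        rw [Finset.card_compl, Fintype.card_eq_nat_card, nat_card_golayPt, hx]; norm_num)
      have hsub : O H y ⊆ (O H x)ᶜ := O_sub (inv_of_sub fun g hg z hz => by
        rw [Finset.mem_compl] at hz ⊢
        intro hh
        have := mem_of_inv (inv_O H x) (inv_mem hg) hh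
        rw [inv_smul_smul] at this
        exact hz this) hy
      have := Finset.card_le_card hsub
      rw [Finset.card_compl, Fintype.card_eq_nat_card, nat_card_golayPt, hx] at this
      have := hm y; have := hne y; omega
    push Not at h22
    have ht : Trans H 36960 := trans_of_orbit (H := H) 36960 (by omega) fun x => by
      have := hm x; have := hne x; have := h22 x; omega
    set x := gpt 0
    set L := H ⊓ stabilizer M24 x with hL
    obtain ⟨j, hj0, hj, hj6, hjd, hmod, hemb⟩ := emb_seven (L := L) inf_le_right (m := 5280)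
      (by rw [hL, ht.card]) (by norm_num)
    obtain ⟨d, hd⟩ := hemb (by interval_cases j <;> simp_all)
    obtain ⟨w, hwe⟩ := emb_eleven (L := L) (by rw [hL, ht.card]; norm_num)
    obtain ⟨y, hy⟩ := exists_ne x
    have hxA : x ∉ O L y := fun hh => by
      obtain ⟨g, hg, e⟩ := mem_O.1 hh
      exact hy (MulAction.injective g (e.trans (mem_stabilizer_iff.1 hg.2).symm))
    have hxs := (hsing _ (pull conn_fourteen hd (inv_single inf_le_right : Inv L {x}))).resolve_left
      (by rw [← card_pm, Finset.card_singleton]; simp)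
    have hxd : x = d • gpt 23 := Finset.singleton_inj.1 (eq_of_pm (c := d) (by rw [pm_single, Nat.eq_of_beq_eq_true hxs]; rfl))
    have ha := (h14sz _ (pull conn_fourteen hd (inv_O L y))).resolve_left (by
      intro hh
      exact hxA (hxd ▸ (bit_of_mem (c := d) 23).2 hh))
    have hb := ((hv1 _ (pull conn_eleven hwe (inv_single inf_le_right : Inv L {x}))).resolve_left
      (by rw [← card_pm, Finset.card_singleton]; simp) _ (pull conn_eleven hwe (inv_O L y))).resolve_left (by
        rw [show Nat.land (pm w (O L y)) (pm w {x}) = 0 from pm_disj (Finset.disjoint_singleton_right.2 hxA)]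
        simp)
    rw [← card_pm, List.contains_iff_mem] at ha hb
    have hpos : 0 < (O L y).card := Finset.card_pos.2 ⟨y, self_O L y⟩
    have hdvd : (O L y).card ∣ 36960 := by rw [← ht.card x]; exact Dvd.intro _ (card_O L y)
    simp only [List.mem_cons, List.not_mem_nil, or_false] at ha hb
    rcases hb with e | e | e | e | e | e <;> try omega
    rw [e] at hdvd; norm_num at hdvd
  exact ⟨_, hx, eq_stab (inv_O H x) (by rw [hH]; exact card_duad_stab_le hx)⟩

theorem eq_1771 (H : Subgroup M24) (h : H.index = 1771) : ∃ S ∈ sextets, H = stabilizer M24 S := by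
  have hc := card_of_index h
  have hH : Nat.card H = 138240 := by omega
  have ht : Trans H 5760 := trans_of_orbit (H := H) 5760 (by omega) fun x => by
    obtain ⟨h1, h2, h3, h4⟩ := orbit_data H x
    rw [hH] at h1
    generalize (O H x).card = m at h1 h3 h4
    generalize Nat.card ↥(H ⊓ stabilizer M24 x) = k at h1 h2
    interval_cases m <;> first | omega | (obtain rfl : k = _ := Nat.eq_div_of_mul_eq_right (by norm_num) h1; norm_num at h2)
  obtain ⟨S, hS, hinv⟩ := sextet_of_trans ht rfl
  exact ⟨S, hS, eq_stab hinv (by rw [card_sextet_stabilizer hS, hH])⟩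

end Cfsg.Lib.PermAut.MTwentyFour
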