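import Cfsg.Agent.Lib.PermAut.MTwentyTwo

/-!
# Subgroups of index 253 in the point stabiliser of M24
-/

set_option autoImplicit false
open scoped Pointwise

namespace Cfsg.Lib.PermAut.MTwentyThree

open Cfsg Cfsg.Lib.Concrete Cfsg.Lib.MathieuBlock MulAction

/-- The certificate at the prime 7 in the point stabiliser. -/
def m23Norm7 : NormCert where
  k0 := 1
  r := 7
  n := 42
  x := 980352102302462804730709083522375744
  xi := 968871317692933986284233661991978080
  links := [(0, 0, 1), (1, 1, 1), (3, 2, 1), (4, 2, 6), (5, 2, 3), (6, 2, 4)]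
  invs := []

theorem good7 : m23Norm7.Good := good_of_check (by decide +kernel)

/-- An involution commuting with the element of order 7. -/
def swapT : ℕ := 959464519477712660333197521944525421

theorem elem_checks : elemCheck 1 16777215 swapT swapT = true ∧
    (bits24.all fun i => Nat.beq (pget swapT (pget m23Norm7.x i)) (pget m23Norm7.x (pget swapT i))) = true ∧
    Nat.beq (pget swapT 0) 13 = true := by
  decide +kernel

/-- The seven points of the heptad fixed by the element. -/
def inC (i : ℕ) : Bool := (1540672 : ℕ).testBit i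

/-- The fourteen other moved points. -/
def inE (i : ℕ) : Bool := (6839742 : ℕ).testBit i

theorem part_cases : ∀ i : Fin 24, i.val = 23 ∨ i.val = 0 ∨ i.val = 13 ∨ inC i.val = true ∨ inE i.val = true := by
  decide +kernel

theorem part_disjoint : ∀ i : Fin 24, (inC i.val = true → inE i.val = false) ∧
    ((inC i.val = true ∨ inE i.val = true) → i.val ≠ 0 ∧ i.val ≠ 13 ∧ i.val ≠ 23) := by
  decide +kernel

theorem reachC : ∀ i j : Fin 24, inC i.val = true → inC j.val = true →
    ((List.range 7).any fun k => Nat.beq (piter m23Norm7.x k i.val) j.val) = true := by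
  decide +kernel

theorem reachE : ∀ i j : Fin 24, inE i.val = true → inE j.val = true →
    ((List.range 7).any fun k => Nat.beq (piter m23Norm7.x k i.val) j.val ||
      Nat.beq (piter m23Norm7.x k (pget swapT i.val)) j.val) = true := by
  decide +kernel

theorem bp_zero : bp 0 = gpt 23 := by decide +kernel

theorem octad_mem : mset 9929280 ∈ octads :=
  (mset_mem_octads_iff (by norm_num)).2 (by decide +kernel)

theorem sets_facts : bp 0 ∈ mset 9929280 ∧ (∀ p : GolayPt, p ∈ mset 9929280 ↔ p = bp 0 ∨ inC (gidx p).val = true) ∧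
    (∀ p : GolayPt, p ∈ mset 8193 ↔ (gidx p).val = 0 ∨ (gidx p).val = 13) ∧ (mset 8193).card = 2 ∧
    bp 0 ∉ mset 8193 := by
  decide +kernel

theorem count_facts : (Finset.univ.filter fun p : GolayPt => p ≠ bp 0).card = 23 ∧
    (Finset.univ.filter fun p : GolayPt => p ≠ bp 0 ∧ inE (gidx p).val = false).card = 9 := by
  decide +kernel

/-- The point stabiliser. -/
abbrev Stab (x : GolayPt) : Subgroup M24 := stabilizer M24 x

/-- The conclusion about a subgroup. -/
def IsStd (x : GolayPt) (H : Subgroup (Stab x)) : Prop :=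
  (∃ s : Finset GolayPt, s.card = 2 ∧ x ∉ s ∧ H = (stabilizer M24 s).subgroupOf (Stab x)) ∨
    ∃ o ∈ octads, x ∈ o ∧ H = (stabilizer M24 o).subgroupOf (Stab x)

theorem card_le_step {L : Subgroup M24} {s : Finset GolayPt} (hL : ∀ g ∈ L, ∀ y ∈ s, g • y ∈ s)
    {y : GolayPt} (hy : y ∈ s) :
    Nat.card L ≤ s.card * Nat.card ↥(L ⊓ stabilizer M24 y) ∧
      ∀ g ∈ L ⊓ stabilizer M24 y, ∀ z ∈ s.erase y, g • z ∈ s.erase y := by
  refine ⟨?_, fun g hg z hz => ?_⟩
  · have h := Subgroup.card_mul_index (stabilizer L y)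
    rw [MulAction.index_stabilizer] at h
    have h1 : (orbit L y).ncard ≤ s.card := by
      rw [← Set.ncard_coe_finset]
      exact Set.ncard_le_ncard (by rintro _ ⟨g, rfl⟩; exact hL g g.2 y hy) (Finset.finite_toSet s)
    have e : Nat.card (stabilizer L y) = Nat.card ↥(L ⊓ stabilizer M24 y) :=
      Nat.card_congr
        { toFun := fun g => ⟨g.1.1, g.1.2, g.2⟩
          invFun := fun g => ⟨⟨g.1, g.2.1⟩, g.2.2⟩
          left_inv := fun _ => rfl
          right_inv := fun _ => rfl }
    rw [← h, e, mul_comm s.card]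
    exact Nat.mul_le_mul le_rfl h1
  · rw [Finset.mem_erase] at hz ⊢
    refine ⟨fun e => hz.1 ?_, hL g hg.1 z hz.2⟩
    exact MulAction.injective g (e.trans (mem_stabilizer_iff.1 hg.2).symm)

theorem card_fix_le {k : ℕ} (hk : k ≤ 5) (v : Fin k ↪ GolayPt) {L : Subgroup M24}
    (hL : ∀ g ∈ L, ∀ i, g • v i = v i) :
    Nat.card L * (Nat.descFactorial 24 k) ≤ 244823040 := by
  have := M24_pretransitive_le k hk
  have hle : L ≤ stabilizer M24 v := fun g hg => Function.Embedding.ext fun i => hL g hg i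
  have h := Subgroup.card_mul_index (stabilizer M24 v)
  rw [@index_stabilizer_of_transitive M24 _ _ _ v this, card_M24, Nat.card_eq_fintype_card (α := Fin k ↪ GolayPt),
    Fintype.card_embedding_eq, Fintype.card_fin, ← Nat.card_eq_fintype_card (α := GolayPt), nat_card_golayPt] at h
  rw [← h]
  exact Nat.mul_le_mul (Subgroup.card_le_of_le hle) le_rfl

theorem card_duad_le :
    Nat.card ↥(stabilizer M24 (mset 8193) ⊓ Stab (bp 0)) ≤ 40320 := by
  obtain ⟨-, -, hD, hc, hx⟩ := sets_facts
  set L := stabilizer M24 (mset 8193) ⊓ Stab (bp 0) with hLd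
  have hL : ∀ g ∈ L, ∀ y ∈ mset 8193, g • y ∈ mset 8193 := fun g hg y hy => by
    have := Finset.smul_mem_smul_finset (a := g) hy
    rwa [mem_stabilizer_iff.1 hg.1] at this
  have h0 : gpt 0 ∈ mset 8193 := (hD _).2 (Or.inl (by rw [gidx_gpt]; rfl))
  have h13 : gpt 13 ∈ (mset 8193).erase (gpt 0) :=
    Finset.mem_erase.2 ⟨by decide, (hD _).2 (Or.inr (by rw [gidx_gpt]; rfl))⟩
  obtain ⟨e1, i1⟩ := card_le_step hL h0
  obtain ⟨e2, -⟩ := card_le_step i1 h13
  rw [Finset.card_erase_of_mem h0, hc] at e2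
  rw [hc] at e1
  have e3 := card_fix_le (k := 3) (by norm_num) ⟨![bp 0, gpt 0, gpt 13], by decide +kernel⟩
    (L := L ⊓ stabilizer M24 (gpt 0) ⊓ stabilizer M24 (gpt 13)) (fun g hg i => by
      fin_cases i
      · exact hg.1.1.2
      · exact hg.1.2
      · exact hg.2)
  rw [show Nat.descFactorial 24 3 = 12144 by decide +kernel] at e3
  omega

theorem card_heptad_le :
    Nat.card ↥(stabilizer M24 (mset 9929280) ⊓ Stab (bp 0)) ≤ 40320 := by
  obtain ⟨hxo, ho, -⟩ := sets_facts
  set L := stabilizer M24 (mset 9929280) ⊓ Stab (bp 0) with hLd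
  have hL : ∀ g ∈ L, ∀ y ∈ (mset 9929280).erase (bp 0), g • y ∈ (mset 9929280).erase (bp 0) := by
    intro g hg y hy
    rw [Finset.mem_erase] at hy ⊢
    refine ⟨fun e => hy.1 (MulAction.injective g (e.trans (mem_stabilizer_iff.1 hg.2).symm)), ?_⟩
    have := Finset.smul_mem_smul_finset (a := g) hy.2
    rwa [mem_stabilizer_iff.1 hg.1] at this
  have hc : ((mset 9929280).erase (bp 0)).card = 7 := by
    rw [Finset.card_erase_of_mem hxo, octad_mem.2]
  have m1 : gpt 6 ∈ (mset 9929280).erase (bp 0) := by decide +kernel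
  have m2 : gpt 9 ∈ ((mset 9929280).erase (bp 0)).erase (gpt 6) := by decide +kernel
  have m3 : gpt 15 ∈ (((mset 9929280).erase (bp 0)).erase (gpt 6)).erase (gpt 9) := by decide +kernel
  have m4 : gpt 16 ∈ ((((mset 9929280).erase (bp 0)).erase (gpt 6)).erase (gpt 9)).erase (gpt 15) := by
    decide +kernel
  obtain ⟨e1, i1⟩ := card_le_step hL m1
  obtain ⟨e2, i2⟩ := card_le_step i1 m2
  obtain ⟨e3, i3⟩ := card_le_step i2 m3
  obtain ⟨e4, -⟩ := card_le_step i3 m4
  simp only [Finset.card_erase_of_mem m1, Finset.card_erase_of_mem m2, Finset.card_erase_of_mem m3, hc] at e1 e2 e3 e4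
  have e5 := card_fix_le (k := 5) le_rfl ⟨![bp 0, gpt 6, gpt 9, gpt 15, gpt 16], by decide +kernel⟩
    (L := L ⊓ stabilizer M24 (gpt 6) ⊓ stabilizer M24 (gpt 9) ⊓ stabilizer M24 (gpt 15) ⊓ stabilizer M24 (gpt 16))
    (fun g hg i => by
      fin_cases i
      · exact hg.1.1.1.1.2
      · exact hg.1.1.1.2
      · exact hg.1.1.2
      · exact hg.1.2
      · exact hg.2)
  rw [show Nat.descFactorial 24 5 = 5100480 by decide +kernel] at e5
  omega

/-- The element of order 7 and its partner in the point stabiliser. -/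
theorem exists_elts : ∃ s g : Stab (bp 0), orderOf s = 7 ∧ g * s * g⁻¹ = s ∧
    Cfsg.Lib.Concrete.Rep (((s : M24)) : Equiv.Perm GolayPt) m23Norm7.x ∧ Cfsg.Lib.Concrete.Rep (((g : M24)) : Equiv.Perm GolayPt) swapT ∧
    ∀ P : Subgroup (Stab (bp 0)), Nat.card P = 7 → Nat.card (Subgroup.normalizer (P : Set (Stab (bp 0)))) ≤ 42 := by
  haveI : Fact (Nat.Prime 7) := ⟨by norm_num⟩
  obtain ⟨s', hs', hsr, hs7, hs1⟩ := exists_x good7
  obtain ⟨hg', hcomm, -⟩ := elem_checks
  obtain ⟨g', hg'm, hgr, -⟩ := exists_of_elemCheck (by norm_num) hg'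
  let mk : (u : Equiv.Perm GolayPt) → u ∈ fixB 1 → Stab (bp 0) :=
    fun u hu => ⟨⟨u, hu.1⟩, hu.2 0 (by norm_num)⟩
  let s := mk s' hs'
  let g := mk g' hg'm.1
  have hso : orderOf s = 7 := orderOf_eq_prime (Subtype.ext (Subtype.ext hs7))
    fun h => hs1 (congrArg (fun z : Stab (bp 0) => ((z : M24) : Equiv.Perm GolayPt)) h)
  have hgs : g * s * g⁻¹ = s := by
    rw [mul_inv_eq_iff_eq_mul]
    simp only [List.all_eq_true, Nat.beq_eq] at hcomm
    refine Subtype.ext (Subtype.ext (Equiv.ext fun y => gidx_injective (Fin.ext ?_)))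
    show (gidx (g' (s' y))).val = (gidx (s' (g' y))).val
    rw [hgr, hsr, hsr, hgr]
    exact hcomm _ (mem_bits24.2 (gidx y).isLt)
  refine ⟨s, g, hso, hgs, hsr, hgr, fun P hP => ?_⟩
  obtain ⟨a, ha⟩ := MTwentyTwo.exists_conj_zpowers (G := Stab (bp 0))
    (by rw [card_M24_stabilizer]; norm_num) hP hso
  have hle : Nat.card (Subgroup.normalizer (Subgroup.zpowers s : Set (Stab (bp 0)))) ≤ 42 := by
    let H : Subgroup (Equiv.Perm GolayPt) := (Stab (bp 0)).map M24.subtype
    have hH : H ≤ fixB m23Norm7.k0 := by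
      rintro _ ⟨u, hu, rfl⟩
      exact ⟨u.2, fun j hj => by
        obtain rfl : j = 0 := Nat.lt_one_iff.1 hj
        exact hu⟩
    let e : Stab (bp 0) ≃* H := (Stab (bp 0)).equivMapOfInjective _ M24.subtype_injective
    refine le_trans ?_ (card_norm_le good7 H hH (e s) hsr
      (by rw [← map_pow]; exact (congrArg e (orderOf_dvd_iff_pow_eq_one.1 hso.dvd)).trans (map_one e))
      fun h => hs1 (congrArg (fun z : H => (z : Equiv.Perm GolayPt)) h))
    refine Nat.card_le_card_of_injective (fun u => ⟨e u.1, ?_⟩) fun u v h =>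
      Subtype.ext (e.injective (congrArg Subtype.val h))
    obtain ⟨k, hk⟩ := (isOfFinOrder_of_finite s).mem_powers_iff_mem_zpowers.2
      ((Subgroup.mem_normalizer_iff.1 u.2 s).1 (Subgroup.mem_zpowers s))
    exact ⟨k, by rw [← map_inv, ← map_mul, ← map_mul, ← map_pow]; exact congrArg e hk.symm⟩
  refine le_of_eq_of_le ?_ hle
  rw [← ha, ← MTwentyTwo.conj_map_normalizer, Subgroup.card_map_of_injective (MulAut.conj a).injective]

theorem no_order_4480 {s : Stab (bp 0)} (hN : ∀ P : Subgroup (Stab (bp 0)), Nat.card P = 7 →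
      Nat.card (Subgroup.normalizer (P : Set (Stab (bp 0)))) ≤ 42)
    (K : Subgroup (Stab (bp 0))) (hK : Nat.card K = 4480) : False := by
  haveI : Fact (Nat.Prime 7) := ⟨by norm_num⟩
  obtain ⟨P, -, hP, hd, hp, hmod⟩ := MTwentyTwo.normalizer_card (p := 7) (m := 640) (H := K) (by rw [hK]) (by norm_num)
  have hle := (Subgroup.card_le_of_le (inf_le_right : K ⊓ Subgroup.normalizer (P : Set (Stab (bp 0))) ≤ _)).trans (hN P hP)
  generalize Nat.card ↥(K ⊓ Subgroup.normalizer (P : Set (Stab (bp 0)))) = k at hd hp hmod hle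
  obtain ⟨j, rfl⟩ := hp
  have : j ≤ 6 := by omega
  interval_cases j <;> simp_all

theorem core (K : Subgroup (Stab (bp 0))) (hK : Nat.card K = 40320) {s g : Stab (bp 0)}
    (hs : Cfsg.Lib.Concrete.Rep (((s : M24)) : Equiv.Perm GolayPt) m23Norm7.x) (hg : Cfsg.Lib.Concrete.Rep (((g : M24)) : Equiv.Perm GolayPt) swapT)
    (hN : ∀ P : Subgroup (Stab (bp 0)), Nat.card P = 7 → Nat.card (Subgroup.normalizer (P : Set (Stab (bp 0)))) ≤ 42)
    (hsK : s ∈ K) (hgK : g ∈ K) : IsStd (bp 0) K := by
  obtain ⟨hxo, ho, hD, hDc, hxD⟩ := sets_facts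
  obtain ⟨hc23, hc9⟩ := count_facts
  set S : Set GolayPt := orbit K (gpt 0) with hS
  have hfix : ∀ u : Stab (bp 0), u • bp 0 = bp 0 := fun u => u.2
  have hmove : ∀ {u : Stab (bp 0)}, u ∈ K → ∀ {y : GolayPt}, y ∈ S → u • y ∈ S := by
    rintro u hu _ ⟨v, rfl⟩
    exact ⟨⟨u, hu⟩ * v, mul_smul (⟨u, hu⟩ : K) v (gpt 0)⟩
  have hiter : ∀ (k : ℕ) (y : GolayPt), (gidx ((s ^ k) • y)).val = piter m23Norm7.x k (gidx y).val :=
    fun k y => by
      show (gidx ((((s ^ k : Stab (bp 0)) : M24) : Equiv.Perm GolayPt) y)).val = _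
      rw [SubgroupClass.coe_pow, SubgroupClass.coe_pow, piter_rep hs]
  have hgy : ∀ y : GolayPt, (gidx (g • y)).val = pget swapT (gidx y).val := fun y => hg y
  have h23 : (gidx (bp 0)).val = 23 := by rw [bp_zero, gidx_gpt]; rfl
  have hSx : bp 0 ∉ S := by
    rintro ⟨v, hv⟩
    have : gpt 0 = bp 0 := MulAction.injective (v : Stab (bp 0)) (hv.trans (hfix v).symm)
    exact absurd this (by decide +kernel)
  have h13 : ∀ y : GolayPt, (gidx y).val = 0 ∨ (gidx y).val = 13 → y ∈ S := by
    rintro y (hy | hy)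
    · rw [show y = gpt 0 from gidx_injective (Fin.ext (by rw [hy, gidx_gpt]; rfl))]
      exact mem_orbit_self _
    · have : g • gpt 0 = y := gidx_injective (Fin.ext (by
        rw [hgy, gidx_gpt, hy]; exact Nat.eq_of_beq_eq_true elem_checks.2.2))
      exact this ▸ hmove hgK (mem_orbit_self _)
  have hCC : ∀ y z : GolayPt, inC (gidx y).val = true → inC (gidx z).val = true → y ∈ S → z ∈ S := by
    intro y z hy hz hyS
    obtain ⟨k, -, hk⟩ := List.any_eq_true.1 (reachC _ _ hy hz)
    have : (s ^ k) • y = z := gidx_injective (Fin.ext (by rw [hiter]; exact Nat.eq_of_beq_eq_true hk))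
    exact this ▸ hmove (pow_mem hsK k) hyS
  have hEE : ∀ y z : GolayPt, inE (gidx y).val = true → inE (gidx z).val = true → y ∈ S → z ∈ S := by
    intro y z hy hz hyS
    obtain ⟨k, -, hk⟩ := List.any_eq_true.1 (reachE _ _ hy hz)
    rw [Bool.or_eq_true] at hk
    rcases hk with hk | hk
    · have : (s ^ k) • y = z := gidx_injective (Fin.ext (by rw [hiter]; exact Nat.eq_of_beq_eq_true hk))
      exact this ▸ hmove (pow_mem hsK k) hyS
    · have : (s ^ k) • g • y = z := gidx_injective (Fin.ext (by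
        rw [hiter, hgy]; exact Nat.eq_of_beq_eq_true hk))
      exact this ▸ hmove (pow_mem hsK k) (hmove hgK hyS)
  have hpart : ∀ y : GolayPt, y ≠ bp 0 → y ∈ S ∨ inC (gidx y).val = true ∨ inE (gidx y).val = true := by
    intro y hy
    rcases part_cases (gidx y) with h | h | h | h | h
    · exact absurd (gidx_injective (Fin.ext (h.trans h23.symm))) hy
    · exact Or.inl (h13 y (Or.inl h))
    · exact Or.inl (h13 y (Or.inr h))
    · exact Or.inr (Or.inl h)
    · exact Or.inr (Or.inr h)
  have hdvd : S.ncard ∣ 40320 := by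
    rw [hS, ← MulAction.index_stabilizer, ← hK]
    exact Subgroup.index_dvd_card _
  have hinv : ∀ {u : Stab (bp 0)}, u ∈ K → ∀ {y : GolayPt}, u • y ∈ S → y ∈ S := fun {u} hu {y} hy => by
    simpa using hmove (K.inv_mem hu) hy
  have fin : ∀ t : Finset GolayPt, Nat.card ↥(stabilizer M24 t ⊓ Stab (bp 0)) ≤ 40320 →
      (∀ u ∈ K, ∀ y ∈ t, u • y ∈ t) → K = (stabilizer M24 t).subgroupOf (Stab (bp 0)) := by
    intro t ht hu
    have hle : K ≤ (stabilizer M24 t).subgroupOf (Stab (bp 0)) := fun u hu' => by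
      rw [Subgroup.mem_subgroupOf, mem_stabilizer_iff]
      refine Finset.eq_of_subset_of_card_le ?_ (by rw [Finset.card_smul_finset])
      intro z hz
      obtain ⟨y, hy, rfl⟩ := Finset.mem_smul_finset.1 hz
      exact hu u hu' y hy
    refine Subgroup.eq_of_le_of_card_ge hle ?_
    rw [hK]
    refine le_trans (le_of_eq ?_) ht
    exact Nat.card_congr
      { toFun := fun u => ⟨u.1.1, u.2, u.1.2⟩
        invFun := fun u => ⟨⟨u.1, u.2.2⟩, u.2.1⟩
        left_inv := fun _ => rfl
        right_inv := fun _ => rfl }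
  by_cases hC : ∃ y ∈ S, inC (gidx y).val = true
  · exfalso
    obtain ⟨y, hyS, hy⟩ := hC
    by_cases hE : ∃ z ∈ S, inE (gidx z).val = true
    · obtain ⟨z, hzS, hz⟩ := hE
      have : S = ↑(Finset.univ.filter fun p : GolayPt => p ≠ bp 0) := by
        ext w
        simp only [Finset.coe_filter, Finset.mem_univ, true_and, Set.mem_setOf_eq]
        refine ⟨fun hw e => hSx (e ▸ hw), fun hw => ?_⟩
        rcases hpart w hw with h | h | h
        exacts [h, hCC y w hy h hyS, hEE z w hz h hzS]
      rw [this, Set.ncard_coe_finset, hc23] at hdvd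
      norm_num at hdvd
    · have : S = ↑(Finset.univ.filter fun p : GolayPt => p ≠ bp 0 ∧ inE (gidx p).val = false) := by
        ext w
        simp only [Finset.coe_filter, Finset.mem_univ, true_and, Set.mem_setOf_eq]
        refine ⟨fun hw => ⟨fun e => hSx (e ▸ hw), ?_⟩, fun hw => ?_⟩
        · by_contra h
          exact hE ⟨w, hw, by simpa using h⟩
        · rcases hpart w hw.1 with h | h | h
          exacts [h, hCC y w hy h hyS, absurd h (by simp [hw.2])]
      have h9 : S.ncard = 9 := by rw [this, Set.ncard_coe_finset, hc9]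
      have hst := Subgroup.card_mul_index (stabilizer K (gpt 0))
      rw [MulAction.index_stabilizer, ← hS, h9, hK] at hst
      refine no_order_4480 (s := s) hN ((stabilizer K (gpt 0)).map K.subtype) ?_
      rw [Subgroup.card_map_of_injective K.subtype_injective]
      omega
  · by_cases hE : ∃ z ∈ S, inE (gidx z).val = true
    · obtain ⟨z, hzS, hz⟩ := hE
      refine Or.inr ⟨_, octad_mem, hxo, fin _ card_heptad_le fun u hu y hy => ?_⟩
      rw [ho] at hy ⊢
      rcases hy with rfl | hy
      · exact Or.inl (hfix u)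
      · by_cases he : u • y = bp 0
        · exact Or.inl he
        right
        rcases hpart (u • y) he with h | h | h
        · exact absurd ⟨y, hinv hu h, hy⟩ hC
        · exact h
        · exact absurd ⟨y, hinv hu (hEE z _ hz h hzS), hy⟩ hC
    · refine Or.inl ⟨_, hDc, hxD, fin _ card_duad_le fun u hu y hy => ?_⟩
      rw [hD] at hy
      rw [hD]
      have hS' := hmove hu (h13 y hy)
      rcases part_cases (gidx (u • y)) with h | h | h | h | h
      · exact absurd hS' (by rw [gidx_injective (Fin.ext (h.trans h23.symm))]; exact hSx)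
      · exact Or.inl h
      · exact Or.inr h
      · exact absurd ⟨_, hS', h⟩ hC
      · exact absurd ⟨_, hS', h⟩ hE

theorem IsStd.map {x y : GolayPt} {c : M24} (hc : c • x = y) (φ : Stab x ≃* Stab y)
    (hφ : ∀ u, ((φ u : Stab y) : M24) = c * u * c⁻¹) {H : Subgroup (Stab x)} (h : IsStd x H) :
    IsStd y (H.map φ.toMonoidHom) := by
  have key : ∀ t : Finset GolayPt, H = (stabilizer M24 t).subgroupOf (Stab x) →
      H.map φ.toMonoidHom = (stabilizer M24 (c • t)).subgroupOf (Stab y) := by
    rintro t rfl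
    ext v
    constructor
    · rintro ⟨u, hu, rfl⟩
      rw [Subgroup.mem_subgroupOf, mem_stabilizer_iff]
      show ((φ u : Stab y) : M24) • c • t = c • t
      have hu' : (u : M24) • t = t := hu
      rw [hφ, mul_smul, mul_smul, inv_smul_smul, hu']
    · intro hv
      refine ⟨φ.symm v, ?_, φ.apply_symm_apply v⟩
      show ((φ.symm v : Stab x) : M24) • t = t
      have h1 : ((φ (φ.symm v) : Stab y) : M24) • c • t = c • t := by
        rw [φ.apply_symm_apply]
        exact hv
      rw [hφ, mul_smul, mul_smul, inv_smul_smul] at h1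
      exact MulAction.injective c h1
  rcases h with ⟨s, hs, hxs, e⟩ | ⟨o, ho, hxo, e⟩
  · refine Or.inl ⟨c • s, by rw [Finset.card_smul_finset, hs], fun hy => hxs ?_, key s e⟩
    rwa [← hc, Finset.smul_mem_smul_finset_iff] at hy
  · exact Or.inr ⟨c • o, smul_octad_mem c.2 ho, hc ▸ Finset.smul_mem_smul_finset hxo, key o e⟩

theorem index_253 (x : GolayPt) (H : Subgroup (Stab x)) (hH : H.index = 253) : IsStd x H := by
  haveI : Fact (Nat.Prime 7) := ⟨by norm_num⟩
  have hcard : Nat.card H = 40320 := by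
    have := H.card_mul_index
    rw [hH, card_M24_stabilizer] at this
    omega
  obtain ⟨c, hc⟩ := M24_isPretransitive.exists_smul_eq (bp 0) x
  let φ : Stab (bp 0) ≃* Stab x :=
    { toFun := fun u => ⟨c * u * c⁻¹, by
        rw [mem_stabilizer_iff, mul_smul, mul_smul, ← hc, inv_smul_smul, mem_stabilizer_iff.1 u.2]⟩
      invFun := fun u => ⟨c⁻¹ * u * c, by
        rw [mem_stabilizer_iff, mul_smul, mul_smul, hc, mem_stabilizer_iff.1 u.2, ← hc, inv_smul_smul]⟩
      left_inv := fun u => Subtype.ext (by simp [mul_assoc])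
      right_inv := fun u => Subtype.ext (by simp [mul_assoc])
      map_mul' := fun u v => Subtype.ext (by simp [mul_assoc]) }
  set K := H.comap φ.toMonoidHom with hKdef
  have hHK : K.map φ.toMonoidHom = H := Subgroup.map_comap_eq_self_of_surjective φ.surjective H
  have hK : Nat.card K = 40320 := by
    rw [← hcard, ← hHK, Subgroup.card_map_of_injective (f := φ.toMonoidHom) φ.injective]
  obtain ⟨s, g, hso, hgs, hsr, hgr, hN⟩ := exists_elts
  obtain ⟨P, hPK, hP, hd, hp, hmod⟩ :=
    MTwentyTwo.normalizer_card (p := 7) (m := 5760) (H := K) (by rw [hK]) (by norm_num)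
  have hle := (Subgroup.card_le_of_le (inf_le_right : K ⊓ Subgroup.normalizer (P : Set (Stab (bp 0))) ≤ _)).trans (hN P hP)
  have h42 : Nat.card ↥(K ⊓ Subgroup.normalizer (P : Set (Stab (bp 0)))) = 42 := by
    generalize Nat.card ↥(K ⊓ Subgroup.normalizer (P : Set (Stab (bp 0)))) = k at hd hp hmod hle
    obtain ⟨j, rfl⟩ := hp
    have : j ≤ 6 := by omega
    interval_cases j <;> simp_all
  have hNK : Subgroup.normalizer (P : Set (Stab (bp 0))) ≤ K := by
    rw [← inf_eq_right]
    exact Subgroup.eq_of_le_of_card_ge inf_le_right (by rw [h42]; exact hN P hP)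
  obtain ⟨a, ha⟩ := MTwentyTwo.exists_conj_zpowers (G := Stab (bp 0)) (by rw [card_M24_stabilizer]; norm_num) hP hso
  set K' := K.map (MulAut.conj a).toMonoidHom with hK'
  have hNK' : Subgroup.normalizer (Subgroup.zpowers s : Set (Stab (bp 0))) ≤ K' := by
    rw [← ha, ← MTwentyTwo.conj_map_normalizer]
    exact Subgroup.map_mono hNK
  have hsK : s ∈ K' := hNK' (Subgroup.le_normalizer (Subgroup.mem_zpowers s))
  have hgK : g ∈ K' := by
    refine hNK' ?_
    have hcm : g * s = s * g := mul_inv_eq_iff_eq_mul.1 hgs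
    rw [Subgroup.mem_normalizer_iff]
    intro w
    constructor
    · intro hw
      obtain ⟨k, rfl⟩ := Subgroup.mem_zpowers_iff.1 hw
      rw [← conj_zpow, hgs]
      exact zpow_mem (Subgroup.mem_zpowers s) k
    · intro hw
      obtain ⟨k, hk⟩ := Subgroup.mem_zpowers_iff.1 hw
      refine ⟨k, ?_⟩
      apply mul_left_cancel (a := g)
      apply mul_right_cancel (b := g⁻¹)
      show g * s ^ k * g⁻¹ = g * w * g⁻¹
      rw [← conj_zpow, hgs, hk]
  have hK'c : Nat.card K' = 40320 := by
    rw [hK', Subgroup.card_map_of_injective (MulAut.conj a).injective, hK]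
  have hstd := core K' hK'c hsr hgr hN hsK hgK
  have hK2 : IsStd (bp 0) K := by
    have h := hstd.map (c := ((a⁻¹ : Stab (bp 0)) : M24)) (a⁻¹).2 (MulAut.conj a⁻¹) (fun u => by simp)
    rw [hK', Subgroup.map_map] at h
    convert h using 1
    ext u
    simp [mul_assoc]
  have := hK2.map hc φ fun _ => rfl
  rwa [hHK] at this

end Cfsg.Lib.PermAut.MTwentyThree
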