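import Cfsg.Agent.Lib.PermAut.MTwentyTwoData
import Cfsg.Agent.Lib.MathieuBlock.Checks
import Cfsg.Agent.Lib.Concrete.Mathieu

/-!
# Subgroups of index 56 and 210 in the two-point stabiliser of M24
-/

set_option autoImplicit false

namespace Cfsg.Lib.PermAut.MTwentyTwo

open Cfsg Cfsg.Lib.Concrete Cfsg.Lib.MathieuBlock

theorem sub_ok : m22Sub.ok 5 24 = true := by decide +kernel

theorem elem_checks : elemCheck 2 16777215 m22Sub.g0 m22Sub.g0i = true ∧
    elemCheck 2 16777215 m22Sub.g1 m22Sub.g1i = true ∧ elemCheck 2 16777215 m22Five m22FiveI = true := by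
  decide +kernel

theorem rel_checks : Nat.beq m22Sub.g0 m22Norm11.x = true ∧
    (bits24.all fun i => Nat.beq (pget m22Five (pget m22Sub.g0 i))
      (piter m22Sub.g0 3 (pget m22Five i))) = true ∧
    (bits24.all fun i => Nat.beq (pget m22Sub.g1 (pget m22Five i))
      (piter m22Five 2 (pget m22Sub.g1 i))) = true ∧
    (bits24.all fun i => Nat.beq (piter m22Five 5 i) i) = true ∧
    (bits24.any fun i => !Nat.beq (pget m22Five i) i) = true := by
  decide +kernel

/-- The points as numbers. -/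
def ptEquiv : GolayPt ≃ Fin 24 := ⟨gidx, gpt, gpt_gidx, gidx_gpt⟩

theorem map_rep {g : Equiv.Perm GolayPt} {T : ℕ} (h : Cfsg.Lib.Concrete.Rep g T) :
    ptEquiv.permCongrHom g = toP 5 24 T := by
  refine (Rep.toP_eq (fun i => ?_)).symm
  show (gidx (g (gpt i))).val = ent 5 T i
  rw [h (gpt i), gidx_gpt]
  rfl

theorem exists_mem {T S : ℕ} (h : elemCheck 2 16777215 T S = true) :
    ∃ g : ↥(fixB 2), Cfsg.Lib.Concrete.Rep (g : Equiv.Perm GolayPt) T := by
  obtain ⟨g, hg, hr, -⟩ := exists_of_elemCheck (by norm_num) h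
  exact ⟨⟨g, hg.1⟩, hr⟩

theorem conj_rel {g x : ↥(fixB 2)} {T U : ℕ} (hg : Cfsg.Lib.Concrete.Rep (g : Equiv.Perm GolayPt) T)
    (hx : Cfsg.Lib.Concrete.Rep (x : Equiv.Perm GolayPt) U) {k : ℕ}
    (h : (bits24.all fun i => Nat.beq (pget T (pget U i)) (piter U k (pget T i))) = true) :
    g * x * g⁻¹ = x ^ k := by
  simp only [List.all_eq_true, Nat.beq_eq] at h
  rw [mul_inv_eq_iff_eq_mul]
  refine Subtype.ext (Equiv.ext fun y => gidx_injective (Fin.ext ?_))
  show (gidx ((g : Equiv.Perm GolayPt) ((x : Equiv.Perm GolayPt) y))).val =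
    (gidx ((((x ^ k : ↥(fixB 2))) : Equiv.Perm GolayPt) ((g : Equiv.Perm GolayPt) y))).val
  rw [hg, hx, SubgroupClass.coe_pow, piter_rep hx, hg]
  exact h _ (mem_bits24.2 (gidx y).isLt)

theorem norm_bound {c : NormCert} (hc : c.Good) (hk : c.k0 = 2) [Fact c.r.Prime] {x : ↥(fixB 2)}
    (hx : Cfsg.Lib.Concrete.Rep (x : Equiv.Perm GolayPt) c.x) :
    orderOf x = c.r ∧ Nat.card (Subgroup.normalizer (Subgroup.zpowers x : Set ↥(fixB 2))) ≤ c.n := by
  obtain ⟨x', -, hr', hpow, hne⟩ := exists_x hc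
  have e : (x : Equiv.Perm GolayPt) = x' := hx.ext hr'
  have hxr : x ^ c.r = 1 := Subtype.ext (by rw [SubgroupClass.coe_pow, e]; exact hpow)
  have hx1 : x ≠ 1 := fun h => hne (e ▸ congrArg Subtype.val h)
  refine ⟨orderOf_eq_prime hxr hx1, le_trans (Nat.card_le_card_of_injective
    (fun g : ↥(Subgroup.normalizer (Subgroup.zpowers x : Set ↥(fixB 2))) => (⟨g.1, ?_⟩ :
      {g : ↥(fixB 2) // ∃ k : ℕ, g * x * g⁻¹ = x ^ k}))
    fun a b h => Subtype.ext (congrArg (fun z => z.1) h))
    (card_norm_le hc (fixB 2) (le_of_eq (by rw [hk])) x hx hxr hx1)⟩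
  have h := (Subgroup.mem_normalizer_iff.1 g.2 x).1 (Subgroup.mem_zpowers x)
  exact ((isOfFinOrder_of_finite x).mem_powers_iff_mem_zpowers.2 h).elim fun k hk' => ⟨k, hk'.symm⟩

/-- The facts about the group of degree 22 that exclude the two indices. -/
theorem m22_facts : ∃ x z y : ↥(fixB 2), orderOf x = 11 ∧ orderOf z = 5 ∧ z * x * z⁻¹ = x ^ 3 ∧ y * z * y⁻¹ = z ^ 2 ∧
    Subgroup.closure {x, y} = ⊤ ∧ Nat.card (Subgroup.normalizer (Subgroup.zpowers x : Set ↥(fixB 2))) ≤ 55 ∧
    ∃ z' : ↥(fixB 2), orderOf z' = 5 ∧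
      Nat.card (Subgroup.normalizer (Subgroup.zpowers z' : Set ↥(fixB 2))) ≤ 20 := by
  haveI : Fact (Nat.Prime m22Norm11.r) := ⟨show Nat.Prime 11 by norm_num⟩
  haveI : Fact (Nat.Prime m22Norm5.r) := ⟨show Nat.Prime 5 by norm_num⟩
  haveI : Fact (Nat.Prime 5) := ⟨by norm_num⟩
  obtain ⟨hex, hey, hez⟩ := elem_checks
  obtain ⟨hxe, hzx, hyz, hz5, hzne⟩ := rel_checks
  obtain ⟨x, hx⟩ := exists_mem hex
  obtain ⟨y, hy⟩ := exists_mem hey
  obtain ⟨z, hz⟩ := exists_mem hez
  obtain ⟨hxo, hxn⟩ := norm_bound m22Good11 rfl (x := x) (Nat.eq_of_beq_eq_true hxe ▸ hx)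
  obtain ⟨x5, h5m, h5r, -, -⟩ := exists_x m22Good5
  obtain ⟨h5o, h5n⟩ := norm_bound m22Good5 rfl (x := ⟨x5, h5m⟩) h5r
  have hzo : orderOf z = 5 := by
    refine orderOf_eq_prime (Subtype.ext (Equiv.ext fun u => gidx_injective (Fin.ext ?_))) fun h => ?_
    · simp only [List.all_eq_true, Nat.beq_eq] at hz5
      rw [SubgroupClass.coe_pow, piter_rep hz]
      exact hz5 _ (mem_bits24.2 (gidx u).isLt)
    · simp only [List.any_eq_true, Bool.not_eq_true'] at hzne
      obtain ⟨i, hi, hne⟩ := hzne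
      have e : pget m22Five i = i := by
        rw [← hz.apply ⟨i, mem_bits24.1 hi⟩, h]
        simp [gidx_gpt]
      rw [e, Nat.beq_refl] at hne
      exact Bool.noConfusion hne
  refine ⟨x, z, y, hxo, hzo, conj_rel hz hx hzx, conj_rel hy hz hyz, ?_, hxn, ⟨x5, h5m⟩, h5o, h5n⟩
  let ψ : ↥(fixB 2) →* Equiv.Perm (Fin 24) := ptEquiv.permCongrHom.toMonoidHom.comp (fixB 2).subtype
  have hψ : Function.Injective ψ := ptEquiv.permCongrHom.injective.comp Subtype.val_injective
  refine Subgroup.eq_top_of_card_eq _ ?_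
  have hS := (Sub.valid (b := 5) (N := 24) sub_ok).card
  have hmap : (Subgroup.closure ({x, y} : Set ↥(fixB 2))).map ψ = m22Sub.grp 5 24 := by
    rw [MonoidHom.map_closure, Set.image_pair, Sub.grp]
    simp only [ψ, MonoidHom.comp_apply, Subgroup.coe_subtype, MulEquiv.coe_toMonoidHom, map_rep hx, map_rep hy]
  rw [← Subgroup.card_map_of_injective hψ, hmap, hS, card_fixB_eq (by norm_num)]
  decide +kernel

variable {G : Type*} [Group G] [Finite G]

theorem normalizer_card {H : Subgroup G} {p : ℕ} [Fact p.Prime] {m : ℕ} (hH : Nat.card H = p * m) (hpm : ¬ p ∣ m) :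
    ∃ P : Subgroup G, P ≤ H ∧ Nat.card P = p ∧ Nat.card ↥(H ⊓ Subgroup.normalizer (P : Set G)) ∣ p * m ∧
      p ∣ Nat.card ↥(H ⊓ Subgroup.normalizer (P : Set G)) ∧
      p * m / Nat.card ↥(H ⊓ Subgroup.normalizer (P : Set G)) % p = 1 := by
  obtain ⟨Q⟩ : Nonempty (Sylow p H) := inferInstance
  have hQ : Nat.card (Q : Subgroup H) = p := by
    rw [Q.card_eq_multiplicity, hH, Nat.factorization_mul (Fact.out : p.Prime).ne_zero (fun h => hpm (by rw [h]; exact dvd_zero p)),
      Finsupp.add_apply, (Fact.out : p.Prime).factorization_self, Nat.factorization_eq_zero_of_not_dvd hpm,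
      pow_one]
  refine ⟨(Q : Subgroup H).map H.subtype, Subgroup.map_subtype_le _, ?_, ?_, ?_, ?_⟩
  all_goals
    try rw [Subgroup.card_map_of_injective H.subtype_injective, hQ]
  all_goals
    have hN : H ⊓ Subgroup.normalizer (((Q : Subgroup H).map H.subtype : Subgroup G) : Set G) =
        (Subgroup.normalizer ((Q : Subgroup H) : Set H)).map H.subtype := by
      ext g
      simp only [Subgroup.mem_inf, Subgroup.mem_map, Subgroup.coe_subtype, Subgroup.mem_normalizer_iff]
      refine ⟨fun ⟨hg, hn⟩ => ⟨⟨g, hg⟩, fun h => ?_, rfl⟩, ?_⟩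
      · have hh := hn (h : G)
        refine ⟨fun hq => ?_, fun hq => ?_⟩
        · obtain ⟨v, hv, hvh⟩ := hh.1 ⟨h, hq, rfl⟩
          have e : v = ⟨g, hg⟩ * h * (⟨g, hg⟩ : H)⁻¹ := Subtype.ext hvh
          exact e ▸ hv
        · obtain ⟨v, hv, hvh⟩ := hh.2 ⟨_, hq, rfl⟩
          have e : v = h := Subtype.ext hvh
          exact e ▸ hv
      · rintro ⟨u, hu, rfl⟩
        refine ⟨u.2, fun h => ⟨?_, ?_⟩⟩
        · rintro ⟨v, hv, rfl⟩
          exact ⟨u * v * u⁻¹, (hu v).1 hv, rfl⟩
        · rintro ⟨v, hv, hvh⟩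
          refine ⟨u⁻¹ * v * u, (hu _).2 (by rw [show u * (u⁻¹ * v * u) * u⁻¹ = v by group]; exact hv), ?_⟩
          simp only [Subgroup.coe_mul, Subgroup.coe_inv, hvh]
          group
    rw [hN, Subgroup.card_map_of_injective H.subtype_injective]
  · exact hH ▸ Subgroup.card_subgroup_dvd_card _
  · have := Subgroup.card_dvd_of_le (Subgroup.le_normalizer (H := (Q : Subgroup H)))
    rwa [hQ] at this
  · have h1 : Nat.card (Sylow p H) % p = 1 := by
      rw [card_sylow_modEq_one p H, Nat.mod_eq_of_lt (Fact.out : p.Prime).one_lt]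
    have h2 := (Subgroup.normalizer ((Q : Subgroup H) : Set H)).card_mul_index
    rw [Q.card_eq_index_normalizer] at h1
    rw [hH] at h2
    rw [← h2, Nat.mul_div_cancel_left _ Nat.card_pos]
    exact h1

theorem conj_map_normalizer (P : Subgroup G) (g : G) :
    (Subgroup.normalizer (P : Set G)).map (MulAut.conj g).toMonoidHom =
      Subgroup.normalizer ((P.map (MulAut.conj g).toMonoidHom : Subgroup G) : Set G) :=
  Subgroup.map_equiv_normalizer_eq P (MulAut.conj g)

theorem exists_conj_zpowers {p : ℕ} [Fact p.Prime] (hdvd : ¬ p ^ 2 ∣ Nat.card G) {P : Subgroup G}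
    (hP : Nat.card P = p) {x : G} (hx : orderOf x = p) :
    ∃ g : G, P.map (MulAut.conj g).toMonoidHom = Subgroup.zpowers x := by
  have h1 : (Nat.card G).factorization p = 1 := by
    have hd : p ∣ Nat.card G := hP ▸ Subgroup.card_subgroup_dvd_card P
    refine le_antisymm ?_ ((Fact.out : p.Prime).factorization_pos_of_dvd Nat.card_pos.ne' hd)
    by_contra h
    exact hdvd (((Fact.out : p.Prime).pow_dvd_iff_le_factorization Nat.card_pos.ne').2 (by omega))
  let S1 : Sylow p G := Sylow.ofCard P (by rw [hP, h1, pow_one])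
  let S2 : Sylow p G := Sylow.ofCard (Subgroup.zpowers x) (by rw [Nat.card_zpowers, hx, h1, pow_one])
  obtain ⟨g, hg⟩ := MulAction.exists_smul_eq G S1 S2
  exact ⟨g, congrArg Sylow.toSubgroup hg⟩

theorem conj_zpowers_of_eq {p : ℕ} [Fact p.Prime] {a g : G} (ha : orderOf a = p) {k : ℕ} (h : g * a * g⁻¹ = a ^ k) :
    (Subgroup.zpowers a).map (MulAut.conj g).toMonoidHom = Subgroup.zpowers a := by
  refine Subgroup.eq_of_le_of_card_ge ?_ ?_
  · rw [MonoidHom.map_zpowers, Subgroup.zpowers_le]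
    show g * a * g⁻¹ ∈ _
    rw [h]
    exact pow_mem (Subgroup.mem_zpowers a) k
  · rw [Subgroup.card_map_of_injective (MulAut.conj g).injective]

/-- The counting argument. -/
theorem index_ne {x z y : G} (hG : Nat.card G = 443520) (hxo : orderOf x = 11) (hzo : orderOf z = 5)
    (hzx : z * x * z⁻¹ = x ^ 3) (hyz : y * z * y⁻¹ = z ^ 2) (hgen : Subgroup.closure {x, y} = ⊤)
    (hx : Nat.card (Subgroup.normalizer (Subgroup.zpowers x : Set G)) ≤ 55) {z' : G} (hz'o : orderOf z' = 5)
    (hz' : Nat.card (Subgroup.normalizer (Subgroup.zpowers z' : Set G)) ≤ 20) (H : Subgroup G) :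
    H.index ≠ 56 ∧ H.index ≠ 210 := by
  haveI : Fact (Nat.Prime 11) := ⟨by norm_num⟩
  haveI : Fact (Nat.Prime 5) := ⟨by norm_num⟩
  have h11 : ∀ P : Subgroup G, Nat.card P = 11 → Nat.card (Subgroup.normalizer (P : Set G)) ≤ 55 := fun P hP => by
    obtain ⟨g, hg⟩ := exists_conj_zpowers (by rw [hG]; norm_num) hP hxo
    refine le_of_eq_of_le ?_ hx
    rw [← hg, ← conj_map_normalizer, Subgroup.card_map_of_injective (MulAut.conj g).injective]
  have h5 : ∀ P : Subgroup G, Nat.card P = 5 → Nat.card (Subgroup.normalizer (P : Set G)) ≤ 20 := fun P hP => by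
    obtain ⟨g, hg⟩ := exists_conj_zpowers (by rw [hG]; norm_num) hP hz'o
    refine le_of_eq_of_le ?_ hz'
    rw [← hg, ← conj_map_normalizer, Subgroup.card_map_of_injective (MulAut.conj g).injective]
  have hcard : ∀ d, H.index = d → Nat.card H * d = 443520 := fun d hd => by
    rw [← hd, H.card_mul_index, hG]
  refine ⟨fun hi => ?_, fun hi => ?_⟩
  · -- order 7920
    have hH : Nat.card H = 7920 := by have := hcard _ hi; omega
    obtain ⟨P, hPH, hP, hd, hp, hmod⟩ := normalizer_card (p := 11) (m := 720) (H := H) (by rw [hH]) (by norm_num)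
    have hle := (Subgroup.card_le_of_le (inf_le_right : H ⊓ Subgroup.normalizer (P : Set G) ≤ _)).trans (h11 P hP)
    have h55 : Nat.card ↥(H ⊓ Subgroup.normalizer (P : Set G)) = 55 := by
      generalize Nat.card ↥(H ⊓ Subgroup.normalizer (P : Set G)) = k at hd hp hmod hle
      obtain ⟨j, rfl⟩ := hp
      have : j ≤ 5 := by omega
      interval_cases j <;> simp_all
    have hNH : Subgroup.normalizer (P : Set G) ≤ H := by
      rw [← inf_eq_right]
      exact Subgroup.eq_of_le_of_card_ge inf_le_right (by rw [h55]; exact h11 P hP)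
    obtain ⟨g, hg⟩ := exists_conj_zpowers (by rw [hG]; norm_num) hP hxo
    set K := H.map (MulAut.conj g).toMonoidHom with hK
    have hKc : Nat.card K = 7920 := by
      rw [hK, Subgroup.card_map_of_injective (MulAut.conj g).injective, hH]
    have hNK : Subgroup.normalizer (Subgroup.zpowers x : Set G) ≤ K := by
      rw [← hg, ← conj_map_normalizer]
      exact Subgroup.map_mono hNH
    have hzN : z ∈ Subgroup.normalizer (Subgroup.zpowers x : Set G) := by
      have e := conj_zpowers_of_eq hxo hzx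
      rw [Subgroup.mem_normalizer_iff]
      refine fun w => ⟨fun hw => e ▸ ⟨w, hw, rfl⟩, fun hw => ?_⟩
      rw [← e] at hw
      obtain ⟨v, hv, hvw⟩ := hw
      rwa [← (MulAut.conj z).injective hvw]
    have hzK : z ∈ K := hNK hzN
    obtain ⟨Q, hQK, hQ, hd, hp, hmod⟩ := normalizer_card (p := 5) (m := 1584) (H := K) (by rw [hKc]) (by norm_num)
    have hle := (Subgroup.card_le_of_le (inf_le_right : K ⊓ Subgroup.normalizer (Q : Set G) ≤ _)).trans (h5 Q hQ)
    have h20 : Nat.card ↥(K ⊓ Subgroup.normalizer (Q : Set G)) = 20 := by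
      generalize Nat.card ↥(K ⊓ Subgroup.normalizer (Q : Set G)) = k at hd hp hmod hle
      obtain ⟨j, rfl⟩ := hp
      have : j ≤ 4 := by omega
      interval_cases j <;> simp_all
    -- move the five-group to the one given by the element
    obtain ⟨k, hk⟩ := exists_conj_zpowers (G := K) (p := 5) (P := Q.subgroupOf K) (x := ⟨z, hzK⟩)
      (by rw [hKc]; norm_num)
      (by rw [Nat.card_congr (Subgroup.subgroupOfEquivOfLe hQK).toEquiv, hQ])
      (by rw [Subgroup.orderOf_mk, hzo])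
    have hQz : Q.map (MulAut.conj (k : G)).toMonoidHom = Subgroup.zpowers z := by
      have := congrArg (Subgroup.map K.subtype) hk
      rw [Subgroup.map_map, MonoidHom.map_zpowers] at this
      rw [← Subgroup.map_subgroupOf_eq_of_le hQK, Subgroup.map_map]
      exact this
    have hNQ : Subgroup.normalizer (Q : Set G) ≤ K := by
      rw [← inf_eq_right]
      exact Subgroup.eq_of_le_of_card_ge inf_le_right (by rw [h20]; exact h5 Q hQ)
    have hyK : y ∈ K := by
      have hy : y ∈ Subgroup.normalizer (Subgroup.zpowers z : Set G) := by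
        have e := conj_zpowers_of_eq hzo hyz
        rw [Subgroup.mem_normalizer_iff]
        refine fun w => ⟨fun hw => e ▸ ⟨w, hw, rfl⟩, fun hw => ?_⟩
        rw [← e] at hw
        obtain ⟨v, hv, hvw⟩ := hw
        rwa [← (MulAut.conj y).injective hvw]
      rw [← hQz, ← conj_map_normalizer] at hy
      obtain ⟨v, hv, rfl⟩ := hy
      exact K.mul_mem (K.mul_mem k.2 (hNQ hv)) (K.inv_mem k.2)
    have htop : K = ⊤ := top_le_iff.1 (hgen ▸ (Subgroup.closure_le _).2 (by
      rintro w (rfl | rfl)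
      · exact hNK (Subgroup.le_normalizer (Subgroup.mem_zpowers _))
      · exact hyK))
    rw [htop, Subgroup.card_top, hG] at hKc
    omega
  · -- order 2112
    have hH : Nat.card H = 2112 := by have := hcard _ hi; omega
    obtain ⟨P, -, hP, hd, hp, hmod⟩ := normalizer_card (p := 11) (m := 192) (H := H) (by rw [hH]) (by norm_num)
    have hle := (Subgroup.card_le_of_le (inf_le_right : H ⊓ Subgroup.normalizer (P : Set G) ≤ _)).trans (h11 P hP)
    generalize Nat.card ↥(H ⊓ Subgroup.normalizer (P : Set G)) = k at hd hp hmod hle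
    obtain ⟨j, rfl⟩ := hp
    have : j ≤ 5 := by omega
    interval_cases j <;> simp_all

end Cfsg.Lib.PermAut.MTwentyTwo

namespace Cfsg.Lib.PermAut.MTwentyTwo

open Cfsg Cfsg.Lib.Concrete MulAction

theorem stab_equiv {p q : GolayPt} (hpq : p ≠ q) :
    Nonempty (↥(fixB 2) ≃* ↥(stabilizer M24 p ⊓ stabilizer M24 q : Subgroup M24)) := by
  have hne : bp 0 ≠ bp 1 := by decide +kernel
  have h2 := M24_pretransitive_le 2 (by norm_num)
  obtain ⟨⟨g, hg⟩, hgp, hgq⟩ : ∃ g : M24, g • bp 0 = p ∧ g • bp 1 = q := by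
    exact (MulAction.is_two_pretransitive_iff.1 h2) hne hpq
  have hmap : (fixB 2).map (MulAut.conj g).toMonoidHom =
      (stabilizer M24 p ⊓ stabilizer M24 q : Subgroup M24).map M24.subtype := by
    have hp : g (bp 0) = p := hgp
    have hq : g (bp 1) = q := hgq
    ext w
    constructor
    · rintro ⟨v, ⟨hv, hfix⟩, rfl⟩
      refine ⟨⟨g * v * g⁻¹, mul_mem (mul_mem hg hv) (inv_mem hg)⟩, ⟨?_, ?_⟩, rfl⟩
      · show (g * v * g⁻¹) p = p
        simp [← hp, hfix 0 (by norm_num)]
      · show (g * v * g⁻¹) q = q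
        simp [← hq, hfix 1 (by norm_num)]
    · rintro ⟨v, ⟨hvp, hvq⟩, rfl⟩
      refine ⟨g⁻¹ * v * g, ⟨mul_mem (mul_mem (inv_mem hg) v.2) hg, fun j hj => ?_⟩, ?_⟩
      · have e1 : (v : Equiv.Perm GolayPt) p = p := hvp
        have e2 : (v : Equiv.Perm GolayPt) q = q := hvq
        interval_cases j
        · show g⁻¹ ((v : Equiv.Perm GolayPt) (g (bp 0))) = bp 0
          rw [hp, e1, Equiv.Perm.inv_eq_iff_eq, hp]
        · show g⁻¹ ((v : Equiv.Perm GolayPt) (g (bp 1))) = bp 1
          rw [hq, e2, Equiv.Perm.inv_eq_iff_eq, hq]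
      · show g * (g⁻¹ * v * g) * g⁻¹ = _
        simp [mul_assoc]
  exact ⟨((fixB 2).equivMapOfInjective _ (MulAut.conj g).injective).trans
    ((MulEquiv.subgroupCongr hmap).trans
      ((stabilizer M24 p ⊓ stabilizer M24 q : Subgroup M24).equivMapOfInjective _ M24.subtype_injective).symm)⟩

theorem index_excluded {p q : GolayPt} (hpq : p ≠ q) (H : Subgroup ↥(stabilizer M24 p ⊓ stabilizer M24 q : Subgroup M24)) :
    H.index ≠ 56 ∧ H.index ≠ 210 := by
  obtain ⟨e⟩ := stab_equiv hpq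
  rw [← Subgroup.index_comap_of_surjective H (f := e.toMonoidHom) e.surjective]
  obtain ⟨x, z, y, hxo, hzo, hzx, hyz, hgen, hx, z', hz'o, hz'⟩ := m22_facts
  exact index_ne ((card_fixB_eq (by norm_num)).trans (by decide +kernel)) hxo hzo hzx hyz hgen hx hz'o hz' _

end Cfsg.Lib.PermAut.MTwentyTwo
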