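import Cfsg.Agent.Lib.PermAut.SubStem

/-!
# Tables of subgroups with their stem certificates
-/

set_option autoImplicit false
set_option maxRecDepth 100000
set_option linter.style.longLine false

namespace Cfsg.Lib.PermAut.MTwentyTwo

open Cfsg.Lib.Concrete

/-- A table. -/
def mt0 : ℕ := 0xbd2517310a312b6136099ade309ca0

/-- A table. -/
def mt1 : ℕ := 0xba5669d84519e4ca05a47d61172140

/-- A table. -/
def mt2 : ℕ := 0xbb1b63d6892cd523411113c2e22c60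

/-- A table. -/
def mt3 : ℕ := 0xbc8cb9b48538d2ca86c2752087c540

/-- A table. -/
def mt4 : ℕ := 0xbc5882592d58e543d550708c12cde0

/-- A table. -/
def mt5 : ℕ := 0xb9ac23b081ac569448ad9d06e53e00

/-- A table. -/
def mt6 : ℕ := 0xb8a337502f624ea858d2220a3aada0

/-- A table. -/
def mt7 : ℕ := 0xba04b2286d88606950a774ea9b31e0

/-- A table. -/
def mt8 : ℕ := 0xbb6959a51073ecc32a511aca239020

/-- A table. -/
def mt9 : ℕ := 0xbc162214ed0c5069d143b4aac725e0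

/-- A table. -/
def mt10 : ℕ := 0xba1911365631d351d150791612cdc0

/-- A table. -/
def mt11 : ℕ := 0xb8cc74a0b09594b70a8d0b26fa9220

/-- A table. -/
def mt12 : ℕ := 0xba18e4a9f30d68b34464b1e0d91440

/-- A table. -/
def mt13 : ℕ := 0xba8641226b2bdb58b921332d23c280

/-- A table. -/
def mt14 : ℕ := 0xbc64d291268068c7d4623ad0ab4dc0

/-- A table. -/
def mt15 : ℕ := 0xbb1627546f986169168724549321a0

/-- A table. -/
def mt16 : ℕ := 0xbb1f30cad02b8d1221a7526a358a80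

/-- A table. -/
def mt17 : ℕ := 0xbb4890b0555aa519d0c32be1671d00

/-- A table. -/
def mt18 : ℕ := 0xb89848a5b2a3ac67ac253a2aa84c60

/-- A table. -/
def mt19 : ℕ := 0xb9e3611a4c4a9af5cd1028c94a85c0

/-- A table. -/
def mt20 : ℕ := 0xbc04b750ef0cd96896a334948225a0

/-- A table. -/
def mt21 : ℕ := 0xbb02b558a9709e79123519a70a21a0

/-- A table. -/
def mt22 : ℕ := 0xba51212c6e6a8ec2cc3435895845e0

/-- A table. -/
def mt23 : ℕ := 0xb918244ac9abdab718251c68a84ce0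

/-- A table. -/
def mt24 : ℕ := 0xbd591a2d21434e5559e480e53708c0

/-- A table. -/
def mt25 : ℕ := 0xbb150356541ce290a2cd110ef71560

/-- A table. -/
def mt26 : ℕ := 0xb96c11b1717512f312a714e086c940

/-- A table. -/
def mt27 : ℕ := 0xbc60a359b498d89222b2704e513d60

/-- A table. -/
def mt28 : ℕ := 0xbae24995211b5f541ecca2850938c0

/-- A table. -/
def mt29 : ℕ := 0xbd6327412a21a965b588089e798ca0

/-- A table. -/
def mt30 : ℕ := 0xbc525686c78288b43eac338749c840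

/-- A table. -/
def mt31 : ℕ := 0xba6c151eafa38b14116c14a066cc60

/-- A table. -/
def mt32 : ℕ := 0xba2c91d215105919c9aa21d657b8c0

/-- A table. -/
def mt33 : ℕ := 0xbb12b685f698e3551ca430910a3a40

/-- A table. -/
def mt34 : ℕ := 0xb962e5510db099309ccb7c132a8c80

/-- A table. -/
def mt35 : ℕ := 0xba1e33ac9163aad9184a9d8a14d200

/-- A table. -/
def mt36 : ℕ := 0xbca093590d11e351d14c72c93285e0

/-- A table. -/
def mt37 : ℕ := 0xbae22b2155a4c8f48ccd748272c180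

/-- A table. -/
def mt38 : ℕ := 0xb9da342a4c8bd265b8249d2b6808a0

/-- A table. -/
def mt39 : ℕ := 0xbb88568d0f550d24cd87b0a2bac020

/-- A table. -/
def mt40 : ℕ := 0xbd5f48b0f04106b308b60c92e53660

/-- A table. -/
def mt41 : ℕ := 0xb914544acf3aea91422e08d94999a0

/-- A table. -/
def mt42 : ℕ := 0xbbe4e206cc10db5a1d51999692a200

/-- A table. -/
def mt43 : ℕ := 0xb9e4ba348934eaa2861640c51639e0

/-- A table. -/
def mt44 : ℕ := 0xb99a70b9159952c8be921106a5c2c0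

/-- A table. -/
def mt45 : ℕ := 0xb8ea87ced2a0a0a2196d745812a4e0

/-- A table. -/
def mt46 : ℕ := 0xbac56395a18d4c9a49845206f9ba00

/-- A table. -/
def mt47 : ℕ := 0xb912373207b562b44d41334b478a40

/-- A table. -/
def mt48 : ℕ := 0xb8d90aac336d124144ea722cf918a0

/-- A table. -/
def mt49 : ℕ := 0xbcdc822d86858ed4d225929e2186a0

/-- A table. -/
def mt50 : ℕ := 0xbd68a7888898dc93c0365c5a691580

/-- A table. -/
def mt51 : ℕ := 0xb88f49bea5449708b2c36a42671140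

/-- A table. -/
def mt52 : ℕ := 0xb956a7ce8db08e8226b27059119a00

/-- A table. -/
def mt53 : ℕ := 0xb8c2a2ce27aa08c6a60ba484e79ac0

/-- A table. -/
def mt54 : ℕ := 0xb8e0963e8e5ca283d5a454cc2b04a0

/-- A table. -/
def mt55 : ℕ := 0xba26e20a4b8868cb55e56aa061a4e0

/-- A table. -/
def mt56 : ℕ := 0xb9192105e7a15281c1668d5d3b3540

/-- A table. -/
def mt57 : ℕ := 0xbda24735863ce8babd0918a1251420

/-- A table. -/
def mt58 : ℕ := 0xb91f32a51588a43650cbb34e183940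

/-- A table. -/
def mt59 : ℕ := 0xbd963346647155583e413a5ac12280

/-- A table. -/
def mt60 : ℕ := 0xb91906a0a111e8fac52ab1a4372e60

/-- A table. -/
def mt61 : ℕ := 0xb8a2e4d666905872a1ea6d97020e80

/-- A table. -/
def mt62 : ℕ := 0xbaca74b1a644df692851a12a11ba00

/-- A table. -/
def mt63 : ℕ := 0xbba699556235874411906bce550620

/-- A table. -/
def mt64 : ℕ := 0xbcd226164e22c67886c67a295541a0

/-- A table. -/
def mt65 : ℕ := 0xbaecf185026c94c4d2b13ba05990c0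

/-- A table. -/
def mt66 : ℕ := 0xbc664534d019427b09327add465500

/-- A table. -/
def mt67 : ℕ := 0xbc4820b4c519d10a4ecb755897c940

/-- A table. -/
def mt68 : ℕ := 0xb9a954056e63e5022a362cce91b440

/-- A table. -/
def mt69 : ℕ := 0xbd18722ec2939f568e058990a98520

/-- A table. -/
def mt70 : ℕ := 0xbd605490cd0bd9490dc75ceca40a20

/-- A table. -/
def mt71 : ℕ := 0xb8968399ae848a965684559e398620

/-- A table. -/
def mt72 : ℕ := 0xb8a475cd8f692cea40aa1d4284c4c0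

/-- A table. -/
def mt73 : ℕ := 0xbb1a6405f52d8e3989547453092c80

/-- A table. -/
def mt74 : ℕ := 0xbbad5519b2088695c607230af9d100

/-- A table. -/
def mt75 : ℕ := 0xbae82484f18586a715e49b1066d640

/-- A table. -/
def mt76 : ℕ := 0xbaeb48208d93a711142f524ec1d8c0

/-- A table. -/
def mt77 : ℕ := 0xba6900c552396c8732ad1cc4f31160

/-- A table. -/
def mt78 : ℕ := 0xbc22a2a1ac9be8925a550b8e658c40

/-- A table. -/
def mt79 : ℕ := 0xba90d7a6b671a301d1922926b104e0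

/-- A table. -/
def mt80 : ℕ := 0xbb5353425422d0a0c6cc78dc239660

/-- A table. -/
def mt81 : ℕ := 0xbd6125a9911892d2a296304879bdc0

/-- A table. -/
def mt82 : ℕ := 0xbc94c136c809e157a6345947371880

/-- A table. -/
def mt83 : ℕ := 0xbbe0b21e2993a9532193b346a28440

/-- A table. -/
def mt84 : ℕ := 0xbc9a26288143a954be305cc6539ac0

/-- A table. -/
def mt85 : ℕ := 0xbb1327197684c2da144489d43455e0

/-- A table. -/
def mt86 : ℕ := 0xb98f47046a8a04d4bd959cac482ca0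

/-- A table. -/
def mt87 : ℕ := 0xb8649708969c18d394cb4515588de0

/-- A table. -/
def mt88 : ℕ := 0xb8983696af5c13234c963ba2a45020

/-- A table. -/
def mt89 : ℕ := 0xb8cb584ad372982a25e46996809e20

/-- A table. -/
def mt90 : ℕ := 0xbba0b2d93338588334719568453c40

/-- A table. -/
def mt91 : ℕ := 0xbd2484c58b33c85735423c2b3b0c20

/-- A table. -/
def mt92 : ℕ := 0xb8cb62564672d51826743bd8d12020

/-- A table. -/
def mt93 : ℕ := 0xba222530ae81a75791a33ae49a5820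

/-- A table. -/
def mt94 : ℕ := 0xba0a4329d099e2278d699599568680

/-- A table. -/
def mt95 : ℕ := 0xbc0659bdc162c8641d3154aada5840

/-- A table. -/
def mt96 : ℕ := 0xbb2497accd84c36a948240d478d1c0

/-- A table. -/
def mt97 : ℕ := 0xbb2cd1d2b22cd495c2282382f118e0

/-- A table. -/
def mt98 : ℕ := 0xbd9818a64b53ca4ab4c23cdd0a0d00

/-- A table. -/
def mt99 : ℕ := 0xbd5e63a9c11111268d8b9d9312d200

/-- A table. -/
def mt100 : ℕ := 0xbc18a14688386552a5b673c665cc80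

/-- A table. -/
def mt101 : ℕ := 0xb958189162729a68593219df4acd00

/-- A table. -/
def mt102 : ℕ := 0xba650745b420d160d58a2cc4679d60

/-- A table. -/
def mt103 : ℕ := 0xbc9307a2d511e2d0d18a2cc8b70cc0

/-- A table. -/
def mt104 : ℕ := 0xba4cb50acc19e454048d746157d260

/-- A table. -/
def mt105 : ℕ := 0xbd1cb1a9e120a29b1d869b6482d600

/-- A table. -/
def mt106 : ℕ := 0xbb4af142635ba35512463b1140d920

/-- A table. -/
def mt107 : ℕ := 0xbc5e5148c372db5612130a9163d120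

/-- A table. -/
def mt108 : ℕ := 0xbb82ab1d2f2d591919746c11319040

/-- A table. -/
def mt109 : ℕ := 0xb85e791a291916c4514e80a6db16a0

/-- A table. -/
def mt110 : ℕ := 0xbba0858cc489eb6124b36d1e162a40

/-- A table. -/
def mt111 : ℕ := 0xb9d8d43e35b38c9a120a92c7328440

/-- A table. -/
def mt112 : ℕ := 0xba6349b96c90cea684cfa9202458a0

/-- A table. -/
def mt113 : ℕ := 0xbbc72612a63d20d44cb1526c113960

/-- A table. -/
def mt114 : ℕ := 0xb90a63c5e372ab05c9b3b3028a0920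

/-- A table. -/
def mt115 : ℕ := 0xbc58b3d501b51b02a4825187373e40

/-- A table. -/
def mt116 : ℕ := 0xbad4dac5e54d0ec81856091131c9c0

/-- A table. -/
def mt117 : ℕ := 0xbc98a259b509e083269174c655bc40

/-- A table. -/
def mt118 : ℕ := 0xba2d409a70a905260caf8ad2e6a8e0

/-- A table. -/
def mt119 : ℕ := 0xbd96d712a554e5160d097c05439820

/-- A table. -/
def mt120 : ℕ := 0xbb8553860f4ac66b3265891486d240

/-- A table. -/
def mt121 : ℕ := 0xb99491b82f2c22ba9d949c9a825840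

/-- A table. -/
def mt122 : ℕ := 0xbc5961bce96b97591025a191354040

/-- A table. -/
def mt123 : ℕ := 0xb86097a16254aac191b1a59c629e60

/-- A table. -/
def mt124 : ℕ := 0xbd52a1b905a19ecb3571384829c240

/-- A table. -/
def mt125 : ℕ := 0xbba4cacc28358e988e8b2bc8a6c040

/-- A table. -/
def mt126 : ℕ := 0xb9a418bea44d0ed2a26a64163159c0

/-- A table. -/
def mt127 : ℕ := 0xba872a22ab84c2f131c66a4a725a20

/-- A table. -/
def mt128 : ℕ := 0xb8caa32ded09e02a4896431338d5c0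

/-- A table. -/
def mt129 : ℕ := 0xb9caa599d608e04aa44d8b253451e0

/-- A table. -/
def mt130 : ℕ := 0xbb8692bc3022d0663672a5622b28e0

/-- A table. -/
def mt131 : ℕ := 0xb9dcd80d458d09564a7632c48485e0

/-- A table. -/
def mt132 : ℕ := 0xb8d4d156cf5868c312253c2724a1c0

/-- A table. -/
def mt133 : ℕ := 0xbc4a1a4990ab93619cca435eb20a60

/-- A table. -/
def mt134 : ℕ := 0xb920a5b58530ed27ba81124f544660

/-- A table. -/
def mt135 : ℕ := 0xbd064546a8605b05b9e9b48e534c40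

/-- A table. -/
def mt136 : ℕ := 0xbc9032ad246bc36a4e0261a2a3baa0

/-- A table. -/
def mt137 : ℕ := 0xb9888550430c1ec93ad569d658cd20

/-- A table. -/
def mt138 : ℕ := 0xbaad32168748dd592e2f6858830a00

/-- A table. -/
def mt139 : ℕ := 0xbd52e30a0563c72885a442eca99e80

/-- A table. -/
def mt140 : ℕ := 0xba58798ea4689c8b1a2b5065479600

/-- A table. -/
def mt141 : ℕ := 0xbc52418acf51a6863aab81e8d28640

/-- A table. -/
def mt142 : ℕ := 0xbd62f11985838684cecb911aa09e80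

/-- A table. -/
def mt143 : ℕ := 0xbc183785a488a76a2ea551d2871a40

/-- A table. -/
def mt144 : ℕ := 0xb99a23ae01ab98f920769a8b1a2480

/-- A table. -/
def mt145 : ℕ := 0xbce0f71aa261d01b45722246d550a0

/-- A table. -/
def mt146 : ℕ := 0xb9c6e530a285a6923d714369591820

/-- A table. -/
def mt147 : ℕ := 0xbc5a41c92a820257559378a9632ce0

/-- A table. -/
def mt148 : ℕ := 0xba1b37548908a43a3207b3d7131540

/-- A table. -/
def mt149 : ℕ := 0xbc6af940cd99d054b0540a86bb3880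

/-- A table. -/
def mt150 : ℕ := 0xbbdc4505b11ccd2626ab81cb6a0900

/-- A table. -/
def mt151 : ℕ := 0xb966e80d5421df5921a64882cb2e20

/-- A table. -/
def mt152 : ℕ := 0xba2d578cca9b4a13d1905905174920

/-- A table. -/
def mt153 : ℕ := 0xbbd319208199e05ad14c68acb1b8c0

/-- A table. -/
def mt154 : ℕ := 0xb8d51339b59413379e8c59428b1040

/-- A table. -/
def mt155 : ℕ := 0xb8ccf250ea89455485ac821d65ce40

/-- A table. -/
def mt156 : ℕ := 0xb9e0aa35e3a88cb406512a67663880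

/-- A table. -/
def mt157 : ℕ := 0xb9d6d0955460e751213271a3623e00

/-- A table. -/
def mt158 : ℕ := 0xbb0a772d0168a32b2a6fa42a61a480

/-- A table. -/
def mt159 : ℕ := 0xba485b45623c03370ea66224f6d140

/-- A table. -/
def mt160 : ℕ := 0xbac44aa2d03964334d21645d47a9a0

/-- A table. -/
def mt161 : ℕ := 0xba2953352c7404f8a8932d8eb18640

/-- A table. -/
def mt162 : ℕ := 0xb96cc32c357260d3926344692509e0

/-- A table. -/
def mt163 : ℕ := 0xbb4cb9544a831f19a064a052e3d8a0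

/-- A table. -/
def mt164 : ℕ := 0xbd6821c14925a265cd81448a76b9e0

/-- A table. -/
def mt165 : ℕ := 0xb8ab46bd9343a04b1cd2285511ad20

/-- A table. -/
def mt166 : ℕ := 0xb858d3592853ab33c96f188912d200

/-- A table. -/
def mt167 : ℕ := 0xbc68b848334bced2b94411aa8b3060

/-- A table. -/
def mt168 : ℕ := 0xbc8c581d151594da0e2c7ae64485c0

/-- A table. -/
def mt169 : ℕ := 0xbd53380ace6d08b63e2819cca2c820

/-- A table. -/
def mt170 : ℕ := 0xb8cb44b8d669c44aae018a1f362a40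

/-- A table. -/
def mt171 : ℕ := 0xbd2a54ae5022acd1a0227459331de0

/-- A table. -/
def mt172 : ℕ := 0xbb1438bda89a650750863daa22ac20

/-- A table. -/
def mt173 : ℕ := 0xb988179db05c4654c91674eb453040

/-- A table. -/
def mt174 : ℕ := 0xb88a3999169448f71d2b5328da8600

/-- A table. -/
def mt175 : ℕ := 0xbc6cea0933541eb612a83146d3c820

/-- A table. -/
def mt176 : ℕ := 0xb9506159aa23a0faa6235ca933b020

/-- A table. -/
def mt177 : ℕ := 0xbb4ae332224a8957cd03950f05d820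

/-- A table. -/
def mt178 : ℕ := 0xb8e369d4ea150c54c08b93d8873420

/-- A table. -/
def mt179 : ℕ := 0xbaced8159453e71120ce926a4b0c20

/-- A table. -/
def mt180 : ℕ := 0xbc51662a6e818b47b48992ce3a8820

/-- A table. -/
def mt181 : ℕ := 0xb8a9529d107b88a5b07191a6d4d820

/-- A table. -/
def mt182 : ℕ := 0xbcd31a358672cf68146453e5540820

/-- A table. -/
def mt183 : ℕ := 0xbb093b168b33e5171ea36c14848820

/-- A table. -/
def mt184 : ℕ := 0xbd06c89ecf5c153349152b9a920820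

/-- A table. -/
def mt185 : ℕ := 0xbb8ed81443a8651610cb9d9484d1e0

/-- A table. -/
def mt186 : ℕ := 0xba9d6830e6abd726ce234d10209480

/-- A table. -/
def mt187 : ℕ := 0xbad939544e2da1468d243a901899e0

/-- A table. -/
def mt188 : ℕ := 0xb8ecb750ea615b5848514cc867a020

/-- A table. -/
def mt189 : ℕ := 0xbda8e7a0ed2d4925c46c5267030820

/-- A table. -/
def mt190 : ℕ := 0xbd9d52b1449d20859cd288ded48820

/-- A table. -/
def mt191 : ℕ := 0xbda638a2ada48275198e4aca478a00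

/-- A table. -/
def mt192 : ℕ := 0xbaa0138dcbb30899d24f8b502a94c0

/-- A table. -/
def mt193 : ℕ := 0xbd193b2d07824a6939b17848a15460

/-- A table. -/
def mt194 : ℕ := 0xbb8e378932a194db4d704163561020

/-- A table. -/
def mt195 : ℕ := 0xb8dac4be8e5484824e075d6d131420

/-- A table. -/
def mt196 : ℕ := 0xbd072616099b944445a7ad8c25bc20

/-- A table. -/
def mt197 : ℕ := 0xbbaab9bda595a2aa310939a0320820

/-- A table. -/
def mt198 : ℕ := 0xbb8d23aac55b62f4a1949d48380820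

/-- A table. -/
def mt199 : ℕ := 0xbb4c93ae2453ac893e8c9d4b018820

/-- A table. -/
def mt200 : ℕ := 0xbd1c1426558b0b36aec4809e331d40

/-- A table. -/
def mt201 : ℕ := 0xb85867c8707250724d42596d56c680

/-- A table. -/
def mt202 : ℕ := 0xbd2c64d4674144a0ce0e5bdb164880

/-- A table. -/
def mt203 : ℕ := 0xbd5e148a2d5b20ab1292298ee40e60

/-- A table. -/
def mt204 : ℕ := 0xbcd465890d6524572483b1eaf84420

/-- A table. -/
def mt205 : ℕ := 0xbd52a4484f5c18531e349b8836d820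

/-- A table. -/
def mt206 : ℕ := 0xba0ee35a8c2aa448446dacd2b78820

/-- A table. -/
def mt207 : ℕ := 0xbd528546d3590e51b24e7d20668820

/-- A table. -/
def mt208 : ℕ := 0xba1a5b3eab1cd8aa45c9810f230820

/-- A table. -/
def mt209 : ℕ := 0xba613220aa3c5f25d4cc6d9d418820

/-- A table. -/
def mt210 : ℕ := 0xb9944a31d5694e85c2d27a63318820

/-- A table. -/
def mt211 : ℕ := 0xb85ac32c648d2b33c2c54890a7ba40

/-- A table. -/
def mt212 : ℕ := 0xbd107291b51998f5c0365445372640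

/-- A table. -/
def mt213 : ℕ := 0xbd892a0985326077d62d0cd4872c60

/-- A table. -/
def mt214 : ℕ := 0xbc9c7606c6796b4989a45261142c60

/-- A table. -/
def mt215 : ℕ := 0xb9c8a846ae4268f998721596c2b420

/-- A table. -/
def mt216 : ℕ := 0xbae33751b23c18a4d4cf28c88b0820

/-- A table. -/
def mt217 : ℕ := 0xb8cedaa28e83e32592cc9994548820

/-- A table. -/
def mt218 : ℕ := 0xbae957b6289ba44b1cd0524ac18820

/-- A table. -/
def mt219 : ℕ := 0xbc92655a2c3b9706cea47d0a818820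

/-- A table. -/
def mt220 : ℕ := 0xbb4a20c564b20eea4866832a97cd40

/-- A table. -/
def mt221 : ℕ := 0xbb04993573a5946391d1abd0119600

/-- A table. -/
def mt222 : ℕ := 0xbca8c521a7354769c48e789702a420

/-- A table. -/
def mt223 : ℕ := 0xbcd6d3bca921903640555464ea5820

/-- A table. -/
def mt224 : ℕ := 0xbbda38550a8ae93395c62598990820

/-- A table. -/
def mt225 : ℕ := 0xb9e9278ec6612ae8ad055261368820

/-- A table. -/
def mt226 : ℕ := 0xbb2ad350abb464f5408999dc818820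

/-- A table. -/
def mt227 : ℕ := 0xbc12ba18ad946c79b11553dc418820

/-- A table. -/
def mt228 : ℕ := 0xbdab49ca307b9ac5a928398a418820

/-- A table. -/
def mt229 : ℕ := 0xbcc56a2d0f3a935911d1831a508cc0

/-- A table. -/
def mt230 : ℕ := 0xbd9533512d58d11115c463e150c8e0

/-- A table. -/
def mt231 : ℕ := 0xbb907ac9914c296111a37aca60aa60

/-- A table. -/
def mt232 : ℕ := 0xbcd058c995b520913d4622ce30b5c0

/-- A table. -/
def mt233 : ℕ := 0xb99762244e1b512985f43c1458b2a0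

/-- A table. -/
def mt234 : ℕ := 0xba26fa404e1a8c7586c4925a58d580

/-- A table. -/
def mt235 : ℕ := 0xbd65650889320a33b26f851c18b560

/-- A table. -/
def mt236 : ℕ := 0xb94f52411698ccb5258d889e175240

/-- A table. -/
def mt237 : ℕ := 0xbd5a29a2013465462cb63a46e7a880

/-- A table. -/
def mt238 : ℕ := 0xba56251181a46c6834b27d46e3cd00

/-- A table. -/
def mt239 : ℕ := 0xb94c970ab0a3d729c5aa21d8808ec0

/-- A table. -/
def mt240 : ℕ := 0xbbc5672d8554474442a76c89309920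

/-- A table. -/
def mt241 : ℕ := 0xbc6aa498e543570112c394dcf0b280

/-- A table. -/
def mt242 : ℕ := 0xbc9652192d63a223c1551d2cf44c20

/-- A table. -/
def mt243 : ℕ := 0xb8a4624e855b4684be16554f163820

/-- A table. -/
def mt244 : ℕ := 0xb8903b14ca9128ba9e0d9ba2f62420

/-- A table. -/
def mt245 : ℕ := 0xb888391693b20cd4bd8b53a2785420

/-- A table. -/
def mt246 : ℕ := 0xb88e3b39329b5067d090544acaac20

/-- A table. -/
def mt247 : ℕ := 0xbb08d7d05048d4692eb641dd389420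

/-- A table. -/
def mt248 : ℕ := 0xba08c70a262d86fa4269ac96d3a820

/-- A table. -/
def mt249 : ℕ := 0xbd06f68ad523a0b914ec329319a020

/-- A table. -/
def mt250 : ℕ := 0xbd0cf4096e9559624e301a9272b420

/-- A table. -/
def mt251 : ℕ := 0xba51468a11b2c933c8b51a9ec71820

/-- A table. -/
def mt252 : ℕ := 0xb898651e245d2d21b9e92cead44020

/-- A table. -/
def mt253 : ℕ := 0xba9e71ac85a1a62939a8ada304b020

/-- A table. -/
def mt254 : ℕ := 0xba17382464954e25363433ac563c20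

/-- A table. -/
def mt255 : ℕ := 0xbae458569643a22991e61a5aa61c20

/-- A table. -/
def mt256 : ℕ := 0xba16ea58cf944a26aab01cd2761020

/-- A table. -/
def mt257 : ℕ := 0xb8ac83c92e8186d7d2b352d8524420

/-- A table. -/
def mt258 : ℕ := 0xb9d96945f56a66e2920342d46a0820

/-- A table. -/
def mt259 : ℕ := 0xb958995491559d33be8642da380820

/-- A table. -/
def mt260 : ℕ := 0xb96b03b2916bdcb9588834d4348820

/-- A table. -/
def mt261 : ℕ := 0xbc6c6826453a06a7ceb46918e58820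

/-- A table. -/
def mt262 : ℕ := 0xba6713b1af7428859472a988ab0820

/-- A table. -/
def mt263 : ℕ := 0xbc1719555672486994676228d78820

/-- A table. -/
def mt264 : ℕ := 0xbbc6771249aad566ccd08951460820

/-- A table. -/
def mt265 : ℕ := 0xbaa5641cb420df59c1a662e2970820

/-- A table. -/
def mt266 : ℕ := 0xbb649414f0798917514362eb698820

/-- A table. -/
def mt267 : ℕ := 0xbce43452078daaf515c962c8668820

/-- A table. -/
def mt268 : ℕ := 0xb951459a117b5c79a93564ac320820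

/-- A table. -/
def mt269 : ℕ := 0xbba4644285aa62469e7662de350820

/-- A table. -/
def mt270 : ℕ := 0xbc5b5251659b06f51cc9b410e90820

/-- A table. -/
def mt271 : ℕ := 0xb9193950b033ac979eaa42c6d88820

/-- A table. -/
def mt272 : ℕ := 0xbb56745236a8e097ccca931c428820

/-- A table. -/
def mt273 : ℕ := 0xba965442a989a962386d9326f38820

/-- A table. -/
def mt274 : ℕ := 0xbbec66acb4ac52c41e72241ca18820

/-- A table. -/
def mt275 : ℕ := 0xbd9e854ca46461534967a25cd18820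

/-- A table. -/
def mt276 : ℕ := 0xbd087830af9c54b91aa8b35c918820

/-- A table. -/
def mt277 : ℕ := 0xb990f640a75466db512492dd518820

/-- A table. -/
def mt278 : ℕ := 0xba1b4255cc516469a5e7b422b18820

/-- A table. -/
def mt279 : ℕ := 0xbae703bcac245144b6caa99d218820

/-- A table. -/
def mt280 : ℕ := 0xbcd69958b5a44c4829ed621c718820

/-- A table. -/
def mt281 : ℕ := 0xba9b5b48a93468864ceb811cf18820

/-- A table. -/
def mt282 : ℕ := 0xbb54c79cb044486aae534d1d618820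

/-- A table. -/
def mt283 : ℕ := 0xbce8d549c7216ab45a0c4be2618820

/-- A table. -/
def mt284 : ℕ := 0xbb5135bdd63160aa1ea964a2418820

/-- A table. -/
def mt285 : ℕ := 0xbb2911a6083be4d2aad5990c272c20

/-- A table. -/
def mt286 : ℕ := 0xba5153b69170d9612a507956699020

/-- The chain of a subgroup. -/
def m22Sub : Sub where
  g0 := mt0
  g0i := mt2
  g1 := mt1
  g1i := mt3
  E := [mt0, mt1, mt2, mt3, mt4, mt5, mt6, mt7, mt8, mt9, mt10, mt11, mt12, mt13, mt14, mt15, mt16, mt17, mt18, mt19, mt20, mt21, mt22, mt23, mt24, mt25, mt26, mt27, mt28, mt29, mt30, mt31, mt32, mt33, mt34, mt35, mt36, mt37, mt38, mt39, mt40, mt41, mt42, mt43, mt44, mt45, mt46, mt47, mt48, mt49, mt50, mt51, mt52, mt53, mt54, mt55, mt56, mt57, mt58, mt59, mt60, mt61, mt62, mt63, mt64, mt65, mt66, mt67, mt68, mt69, mt70, mt71, mt72, mt73, mt74, mt75, mt76, mt77, mt78, mt79, mt80, mt81, mt82, mt83, mt84, mt85, mt86, mt87, mt88,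 mt89, mt90, mt91, mt92, mt93, mt94, mt95, mt96, mt97, mt98, mt99, mt100, mt101, mt102, mt103, mt104, mt105, mt106, mt107, mt108, mt109, mt110, mt111, mt112, mt113, mt114, mt115, mt116, mt117, mt118, mt119, mt120, mt121, mt122, mt123, mt124, mt125, mt126, mt127, mt128, mt129, mt130, mt131, mt132, mt133, mt134, mt135, mt136, mt137, mt138, mt139, mt140, mt141, mt142, mt143, mt144, mt145, mt146, mt147, mt148, mt149, mt150, mt151, mt152, mt153, mt154, mt155, mt156, mt157, mt158, mt159, mt160, mt161, mt162, mt163, mt164, mt165, mt166, mt167, mt168, mt169, mt170, mt171, mt172, mt173, mt174, mt175, mt176, mt177, mt178, mt179, mt180, mt181, mt182, mt183, mt184, mt185, mt186, mt187, mt188, mt189, mt190, mt191, mt192, mt193, mt194, mt195, mt196, mt197, mt198, mt199, mt200, mt201, mt202, mt203, mt204, mt205, mt206, mt207, mt208, mt209, mt210, mt211, mt212, mt213, mt214, mt215, mt216, mt217, mt218, mt219,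 mt220, mt221, mt222, mt223, mt224, mt225, mt226, mt227]
  steps := [(0, 0), (1, 0), (4, 5), (6, 5), (1, 1), (7, 8), (8, 4), (9, 10), (11, 3), (10, 1), (12, 13), (0, 3), (14, 15), (16, 1), (5, 0), (17, 18), (0, 1), (19, 20), (21, 20), (8, 18), (22, 23), (13, 5), (24, 25), (25, 8), (26, 27), (20, 1), (28, 29), (30, 29), (20, 23), (31, 32), (32, 23), (33, 34), (20, 5), (35, 36), (27, 34), (37, 38), (15, 36), (39, 40), (1, 38), (41, 42), (10, 42), (43, 44), (1, 29), (45, 46), (47, 0), (32, 46), (48, 49), (20, 29), (50, 51), (32, 49), (52, 53), (42, 51), (54, 55), (40, 55), (56, 57), (29, 15), (58, 59), (51, 59), (60, 61), (57, 49), (62, 63), (44, 53), (64, 65), (27, 59), (66, 67), (40, 0), (68, 69), (27, 53), (70, 71), (53, 15), (72, 73), (57, 73), (74, 75), (0, 32), (0, 77), (0, 78), (0, 79), (0, 80), (0, 81), (73, 67), (76, 83), (3, 2), (85, 3), (86, 3), (87, 84), (88, 0), (1, 89), (88, 88),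 (88, 91), (88, 92), (65, 67), (84, 94), (1, 2), (3, 85), (96, 97), (2, 3), (82, 8), (3, 100), (99, 101), (8, 102), (98, 103), (97, 3), (2, 99), (106, 8), (105, 81), (108, 81), (96, 109), (104, 110), (97, 85), (107, 81), (113, 103), (114, 3), (112, 115), (99, 85), (117, 96), (116, 118), (110, 119), (109, 103), (2, 118), (115, 100), (109, 123), (108, 119), (98, 112), (99, 82), (99, 127), (8, 128), (100, 129), (1, 130), (101, 131), (96, 132), (3, 133), (106, 134), (85, 135), (85, 136), (107, 137), (102, 138), (103, 139), (97, 140), (97, 141), (81, 142), (113, 143), (117, 144), (114, 145), (118, 146), (115, 147), (123, 148), (105, 149), (2, 150), (108, 151), (112, 152), (109, 153), (116, 154), (119, 155), (98, 156), (126, 157), (125, 158), (124, 159), (104, 160), (122, 161), (121, 162), (110, 163), (120, 164), (111, 165), (2, 93), (167, 3), (168, 95), (67, 83), (95, 170), (82, 171), (104, 124),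 (173, 166), (174, 90), (93, 175), (176, 175), (177, 93), (178, 93), (179, 172), (180, 88), (180, 180), (180, 182), (180, 183), (61, 69), (171, 185), (85, 175), (187, 186), (91, 188), (189, 189), (75, 185), (186, 191), (2, 175), (193, 192), (176, 93), (195, 175), (196, 194), (189, 184), (198, 197), (0, 191), (192, 200), (82, 93), (202, 3), (203, 201), (181, 184), (205, 204), (190, 184), (207, 184), (208, 206), (209, 209), (61, 185), (201, 211), (2, 184), (213, 184), (214, 212), (195, 215), (190, 210), (217, 216), (218, 199), (185, 0), (212, 220), (99, 221), (93, 199), (223, 222), (207, 199), (225, 224), (219, 226)]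
  sgI := [0, 1, 88, 169, 180, 189, 199, 209, 218, 227]
  base := [1, 2, 3, 4, 5]
  lev := [

    [mt228, mt0, mt1, mt4, mt5, mt89, mt229, mt230, mt231, mt232, mt20, mt233, mt234, mt18, mt235, mt236, mt237, mt238, mt90, mt239, mt240, mt241],
    [mt228, mt88, mt169, mt91, mt242, mt181, mt243, mt244, mt245, mt246, mt247, mt248, mt249, mt250, mt251, mt252, mt253, mt254, mt255, mt256, mt257],
    [mt228, mt180, mt189, mt182, mt258, mt259, mt260, mt261, mt262, mt263, mt264, mt265, mt266, mt267, mt268, mt269, mt270, mt271, mt272, mt273],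
    [mt228, mt199, mt209, mt218, mt274, mt219, mt275, mt276, mt210, mt277, mt278, mt279, mt280, mt281, mt282, mt283],
    [mt228, mt227, mt284]]
  sg := [

    [mt0, mt1, mt88, mt169, mt180, mt189, mt199, mt209, mt218, mt227],
    [mt88, mt169, mt180, mt189, mt199, mt209, mt218, mt227],
    [mt180, mt189, mt199, mt209, mt218, mt227],
    [mt199, mt209, mt218, mt227],
    [mt227]]
  par := [

    [(0, 0), (0, 0), (1, 0), (0, 1), (1, 1), (2, 1), (3, 1), (4, 1), (5, 1), (7, 1), (0, 2), (7, 2), (9, 2), (1, 3), (2, 3), (9, 3), (6, 4), (8, 4), (1, 5), (3, 5), (5, 6), (9, 8)],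
    [(0, 0), (0, 0), (1, 0), (0, 1), (1, 1), (2, 1), (3, 1), (4, 1), (6, 1), (7, 1), (0, 2), (2, 2), (3, 2), (6, 2), (7, 2), (1, 4), (2, 4), (3, 4), (4, 4), (5, 4), (2, 5)],
    [(0, 0), (0, 0), (1, 0), (0, 1), (1, 1), (3, 1), (5, 1), (0, 2), (3, 2), (5, 2), (1, 3), (1, 4), (3, 4), (1, 5), (2, 5), (3, 5), (2, 7), (0, 8), (1, 9), (3, 9)],
    [(0, 0), (0, 0), (1, 0), (2, 0), (1, 1), (2, 1), (3, 1), (0, 2), (1, 2), (2, 2), (3, 2), (1, 3), (3, 3), (0, 4), (0, 6), (1, 7)],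
    [(0, 0), (0, 0), (0, 1)]]
  close := [

    [[[1, 0, 0, 0, 0], [3, 0, 0, 0, 0], [10, 0, 0, 0, 0], [6, 7, 6, 6, 0], [2, 1, 13, 2, 2], [17, 0, 6, 4, 1], [14, 19, 7, 9, 1], [8, 20, 14, 15, 1], [9, 0, 4, 0, 0], [16, 5, 0, 1, 0], [11, 14, 18, 5, 1], [15, 15, 17, 4, 2], [19, 16, 17, 5, 2], [0, 6, 19, 4, 1], [18, 14, 14, 12, 0], [12, 3, 4, 13, 2], [13, 20, 18, 5, 2], [20, 4, 12, 4, 1], [7, 4, 15, 14, 2], [21, 3, 2, 6, 2], [4, 13, 18, 9, 0], [5, 20, 6, 6, 1]], [[2, 0, 0, 0, 0], [4, 0, 0, 0, 0], [0, 19, 14, 12, 0], [13, 0, 0, 0, 0], [1, 19, 19, 15, 2], [18, 0, 0, 0, 0], [11, 15, 19, 6, 1], [3, 2, 1, 11, 2], [8, 3, 3, 5, 1], [7, 0, 1, 5, 1], [15, 12, 6, 0, 1], [14, 11, 2, 7, 0], [12, 9, 2, 0, 1], [9, 5, 1, 5, 1], [21, 18, 8, 2, 1], [19, 8, 13, 7, 0], [5, 3, 0, 5, 1], [16, 4, 19, 9, 2], [17, 10, 5, 14, 0], [20, 4, 14, 2, 0], [10, 7, 16, 7, 0], [6, 14, 0, 11, 2]], [[0, 1, 0, 0, 0], [5, 0, 0, 0, 0],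 [8, 16, 15, 10, 0], [14, 0, 0, 0, 0], [3, 17, 10, 3, 0], [11, 18, 14, 1, 2], [9, 8, 4, 7, 0], [7, 11, 13, 2, 1], [10, 6, 15, 9, 2], [4, 16, 14, 15, 2], [20, 10, 12, 9, 2], [12, 18, 10, 2, 1], [15, 7, 13, 10, 0], [17, 11, 0, 11, 1], [6, 13, 13, 1, 0], [1, 19, 18, 2, 1], [2, 4, 3, 8, 0], [19, 7, 17, 3, 1], [21, 13, 1, 2, 1], [18, 16, 15, 15, 0], [16, 19, 3, 9, 1], [13, 15, 3, 14, 0]], [[0, 2, 0, 0, 0], [6, 0, 0, 0, 0], [3, 1, 1, 8, 1], [10, 5, 16, 3, 0], [9, 0, 15, 14, 1], [19, 0, 0, 0, 0], [7, 11, 13, 5, 1], [13, 5, 0, 12, 0], [4, 0, 5, 3, 1], [21, 11, 13, 10, 2], [16, 6, 8, 12, 1], [20, 2, 11, 9, 2], [14, 15, 11, 0, 0], [1, 7, 19, 12, 1], [12, 12, 18, 7, 0], [18, 15, 19, 14, 2], [2, 18, 2, 14, 2], [17, 9, 18, 9, 1], [15, 12, 15, 12, 1], [11, 19, 15, 15, 2], [5, 0, 0, 8, 2], [8, 14, 19, 3, 0]], [[0, 0, 1, 0, 0], [7, 0, 0, 0, 0], [10, 0, 19, 4, 2], [4, 2, 4, 6, 1], [9, 13, 16, 13, 2], [8, 2,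 19, 14, 0], [14, 5, 13, 15, 1], [15, 9, 6, 12, 1], [12, 10, 13, 10, 2], [6, 19, 19, 7, 1], [1, 6, 12, 12, 1], [17, 17, 10, 12, 0], [21, 17, 19, 1, 0], [11, 0, 5, 6, 2], [3, 3, 3, 11, 1], [2, 2, 11, 13, 0], [13, 20, 13, 4, 2], [20, 20, 11, 2, 2], [18, 8, 19, 9, 2], [5, 1, 4, 4, 1], [16, 11, 15, 1, 0], [19, 17, 17, 2, 0]], [[0, 0, 2, 0, 0], [8, 0, 0, 0, 0], [5, 13, 8, 5, 0], [1, 10, 2, 2, 1], [10, 11, 18, 8, 2], [7, 8, 4, 4, 2], [20, 0, 0, 0, 0], [2, 0, 15, 15, 2], [3, 5, 13, 8, 2], [11, 4, 6, 14, 1], [16, 10, 0, 4, 2], [21, 18, 13, 8, 0], [15, 0, 1, 10, 0], [6, 15, 19, 7, 0], [14, 20, 2, 7, 0], [17, 19, 17, 12, 1], [4, 6, 7, 3, 1], [12, 1, 2, 14, 2], [18, 4, 0, 5, 0], [19, 8, 4, 8, 2], [13, 2, 1, 8, 1], [9, 2, 19, 4, 2]], [[0, 0, 0, 1, 0], [1, 18, 19, 14, 2], [3, 8, 14, 13, 1], [2, 6, 6, 8, 0], [16, 0, 0, 0, 0], [5, 15, 7, 15, 1], [11, 17, 7, 8, 2], [8, 14, 19, 5, 1], [7, 14, 19, 5, 1], [9,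 17, 17, 1, 2], [19, 17, 12, 6, 0], [6, 20, 4, 5, 2], [17, 16, 15, 0, 1], [13, 18, 17, 6, 2], [15, 15, 16, 15, 0], [14, 15, 19, 11, 0], [4, 0, 0, 0, 0], [12, 16, 19, 10, 0], [18, 3, 3, 4, 2], [10, 12, 4, 6, 1], [21, 8, 4, 10, 2], [20, 9, 4, 15, 0]], [[0, 0, 0, 2, 0], [9, 0, 0, 0, 0], [11, 0, 0, 0, 0], [7, 12, 18, 13, 1], [2, 6, 4, 6, 2], [1, 11, 13, 0, 2], [19, 0, 0, 8, 2], [10, 19, 5, 8, 1], [16, 5, 5, 1, 0], [5, 7, 4, 6, 2], [3, 10, 8, 14, 1], [4, 11, 3, 0, 2], [15, 2, 17, 4, 2], [13, 1, 6, 10, 0], [14, 12, 12, 13, 2], [17, 0, 11, 4, 0], [21, 8, 18, 10, 1], [12, 12, 15, 13, 1], [18, 17, 19, 10, 1], [20, 13, 19, 1, 2], [6, 1, 4, 4, 2], [8, 2, 19, 4, 2]], [[0, 0, 0, 3, 0], [1, 15, 7, 8, 0], [7, 10, 9, 1, 0], [8, 18, 4, 14, 0], [17, 0, 0, 0, 0], [5, 6, 13, 9, 2], [20, 13, 19, 8, 0], [2, 7, 5, 9, 0], [3, 9, 6, 12, 1], [9, 2, 19, 5, 2], [15, 13, 18, 10, 1], [21, 11, 11, 14, 2], [16, 16, 15, 0,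 1], [13, 9, 10, 13, 0], [19, 16, 8, 9, 1], [10, 7, 19, 10, 2], [12, 16, 19, 10, 0], [4, 0, 0, 0, 0], [18, 15, 6, 7, 1], [14, 16, 17, 11, 1], [6, 13, 19, 8, 0], [11, 4, 6, 9, 2]], [[0, 0, 0, 0, 1], [9, 7, 4, 3, 2], [12, 0, 0, 0, 0], [15, 0, 0, 0, 0], [10, 14, 12, 10, 1], [1, 15, 7, 15, 0], [3, 6, 12, 11, 2], [2, 1, 14, 9, 0], [21, 0, 0, 0, 0], [5, 20, 13, 6, 1], [19, 19, 14, 6, 0], [20, 12, 13, 2, 2], [7, 20, 19, 13, 1], [13, 17, 6, 6, 0], [8, 16, 5, 3, 2], [6, 2, 3, 6, 1], [16, 9, 11, 9, 1], [11, 12, 15, 13, 1], [18, 18, 18, 5, 2], [4, 10, 5, 3, 2], [17, 18, 12, 2, 2], [14, 9, 6, 0, 2]]],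
    [[[1, 0, 0, 0], [3, 0, 0, 0], [10, 0, 0, 0], [12, 16, 13, 2], [13, 10, 12, 1], [0, 14, 7, 0], [15, 10, 15, 0], [19, 9, 11, 0], [16, 1, 3, 0], [14, 14, 4, 1], [20, 6, 11, 0], [4, 7, 14, 1], [5, 14, 2, 0], [7, 18, 5, 0], [6, 6, 9, 0], [17, 18, 12, 0], [2, 13, 10, 2], [9, 5, 5, 1], [18, 1, 15, 2], [11, 2, 7, 0], [8, 19, 2, 2]], [[2, 0, 0, 0], [4, 0, 0, 0], [0, 2, 8, 0], [10, 6, 2, 0], [15, 0, 0, 0], [8, 18, 13, 0], [1, 9, 15, 1], [20, 2, 5, 1], [7, 2, 9, 2], [16, 0, 11, 0], [14, 9, 2, 2], [17, 17, 1, 0], [12, 13, 13, 2], [19, 17, 4, 0], [18, 17, 6, 1], [6, 10, 4, 0], [9, 2, 3, 0], [13, 17, 7, 0], [3, 5, 6, 2], [11, 18, 14, 1], [5, 10, 7, 0]], [[0, 1, 0, 0], [5, 0, 0, 0], [11, 0, 0, 0], [8, 18, 3, 0], [16, 0, 0, 0], [20, 0, 0, 0], [14, 4, 9, 2], [19, 12, 8, 2], [12, 11, 15, 2], [17, 8, 3, 2], [18, 7, 6, 0], [13, 9, 7, 2], [7, 0, 12, 0], [10, 2, 10, 2], [9, 10, 6, 2], [6, 7, 8, 1], [1, 6,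 12, 2], [15, 11, 9, 2], [2, 11, 6, 0], [3, 8, 12, 1], [4, 19, 9, 0]], [[0, 2, 0, 0], [6, 0, 0, 0], [12, 0, 0, 0], [14, 9, 4, 2], [17, 0, 0, 0], [5, 6, 13, 0], [8, 12, 6, 1], [3, 1, 8, 1], [1, 12, 6, 1], [9, 15, 11, 2], [4, 7, 15, 2], [20, 19, 7, 0], [16, 1, 3, 2], [19, 2, 12, 1], [7, 7, 10, 0], [13, 13, 15, 2], [2, 19, 0, 1], [10, 7, 15, 2], [11, 2, 4, 0], [15, 10, 4, 0], [18, 12, 15, 1]], [[0, 0, 1, 0], [7, 0, 0, 0], [9, 18, 9, 0], [3, 15, 4, 2], [18, 0, 0, 0], [13, 8, 11, 2], [6, 10, 11, 1], [1, 0, 0, 0], [14, 13, 12, 1], [2, 18, 8, 2], [10, 0, 15, 1], [17, 4, 10, 0], [16, 4, 10, 0], [5, 12, 11, 2], [8, 2, 2, 1], [19, 0, 11, 1], [12, 8, 1, 0], [11, 8, 1, 0], [4, 0, 0, 0], [15, 0, 15, 2], [20, 9, 6, 2]], [[0, 0, 2, 0], [4, 9, 15, 1], [12, 11, 4, 2], [3, 12, 14, 0], [19, 0, 0, 0], [7, 17, 14, 0], [20, 16, 8, 2], [14, 15, 15, 2], [15, 12, 6, 1], [9, 3, 10, 1], [6, 5, 3, 2], [8, 10, 6, 2],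 [16, 17, 1, 1], [17, 2, 12, 1], [5, 3, 6, 2], [11, 4, 9, 2], [2, 18, 0, 1], [18, 1, 1, 1], [13, 9, 13, 2], [1, 10, 4, 0], [10, 16, 1, 2]], [[0, 0, 3, 0], [8, 0, 0, 0], [13, 0, 0, 0], [3, 5, 6, 0], [17, 12, 4, 2], [9, 10, 5, 1], [6, 12, 6, 1], [14, 13, 12, 1], [1, 0, 0, 0], [5, 1, 4, 1], [10, 0, 8, 1], [18, 14, 5, 2], [15, 6, 1, 2], [2, 0, 0, 0], [7, 2, 2, 1], [12, 13, 15, 2], [19, 17, 6, 0], [4, 12, 4, 2], [11, 1, 0, 1], [16, 17, 6, 0], [20, 18, 0, 1]], [[0, 0, 0, 1], [9, 0, 0, 0], [14, 0, 0, 0], [3, 2, 14, 2], [1, 17, 9, 0], [15, 0, 6, 0], [20, 12, 6, 1], [12, 6, 3, 0], [7, 3, 10, 1], [4, 17, 15, 2], [6, 5, 1, 2], [16, 8, 15, 0], [8, 17, 8, 2], [5, 11, 12, 2], [17, 6, 13, 0], [13, 11, 12, 1], [18, 9, 4, 2], [2, 2, 0, 0], [11, 0, 2, 0], [19, 14, 4, 2], [10, 1, 6, 0]]],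
    [[[1, 0, 0], [3, 0, 0], [7, 0, 0], [6, 5, 0], [8, 10, 0], [11, 3, 2], [14, 5, 1], [9, 3, 0], [17, 0, 0], [5, 14, 0], [4, 2, 0], [2, 6, 2], [10, 12, 2], [18, 9, 0], [0, 9, 1], [13, 6, 1], [15, 2, 0], [12, 11, 2], [19, 7, 0], [16, 15, 2]], [[2, 0, 0], [4, 0, 0], [6, 13, 0], [10, 0, 0], [11, 0, 0], [13, 0, 0], [0, 15, 0], [7, 7, 1], [8, 2, 0], [18, 0, 0], [16, 0, 1], [1, 0, 0], [9, 1, 0], [14, 7, 1], [5, 5, 1], [17, 13, 1], [3, 0, 2], [19, 10, 2], [12, 1, 0], [15, 1, 0]], [[0, 1, 0], [2, 7, 2], [1, 7, 2], [10, 7, 0], [6, 9, 0], [14, 0, 0], [4, 5, 2], [16, 0, 0], [13, 3, 2], [15, 5, 1], [3, 9, 1], [11, 1, 0], [19, 5, 1], [8, 12, 0], [5, 0, 0], [9, 7, 1], [7, 0, 0], [17, 6, 2], [18, 6, 2], [12, 7, 1]], [[0, 2, 0], [5, 0, 0], [8, 0, 0], [10, 5, 0], [12, 0, 0], [15, 0, 0], [2, 7, 0], [7, 14, 1], [6, 9, 1], [19, 0, 0], [16, 13, 0], [17, 13, 1], [14, 7, 1], [9, 1, 0], [4, 5, 1], [1, 0, 0], [3,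 2, 1], [18, 10, 2], [11, 1, 0], [13, 1, 0]], [[0, 3, 0], [4, 5, 0], [6, 5, 1], [5, 7, 2], [1, 5, 0], [3, 7, 2], [2, 7, 1], [8, 13, 2], [7, 13, 2], [12, 9, 2], [14, 5, 2], [11, 5, 0], [9, 9, 2], [16, 5, 1], [10, 9, 0], [19, 7, 2], [13, 7, 1], [17, 8, 1], [18, 15, 1], [15, 7, 2]], [[0, 0, 1], [6, 0, 0], [9, 0, 0], [1, 5, 1], [7, 10, 1], [13, 2, 0], [3, 7, 1], [12, 3, 2], [5, 9, 1], [16, 12, 1], [19, 9, 1], [17, 12, 1], [4, 7, 0], [8, 1, 0], [14, 0, 2], [10, 9, 1], [2, 4, 0], [18, 1, 1], [11, 13, 2], [15, 9, 1]]],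
    [[[1, 0], [0, 0], [7, 0], [5, 0], [13, 0], [3, 0], [14, 0], [2, 0], [12, 1], [15, 2], [11, 1], [10, 2], [8, 2], [4, 0], [6, 0], [9, 1]], [[2, 0], [4, 0], [8, 0], [11, 0], [9, 1], [3, 1], [13, 1], [15, 0], [0, 0], [1, 2], [10, 1], [5, 2], [6, 1], [12, 1], [7, 1], [14, 2]], [[3, 0], [5, 0], [9, 0], [0, 0], [12, 0], [1, 0], [11, 0], [15, 2], [13, 1], [2, 0], [14, 1], [6, 0], [4, 0], [8, 2], [10, 2], [7, 1]], [[0, 1], [6, 0], [10, 0], [12, 0], [3, 2], [9, 0], [14, 1], [5, 2], [2, 2], [7, 1], [8, 1], [15, 0], [4, 1], [11, 1], [1, 2], [13, 2]]],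
    [[[1], [2], [0]]]]

/-- An element normalising the first generator. -/
def m22Five : ℕ := mt285

/-- Its inverse. -/
def m22FiveI : ℕ := mt286

end Cfsg.Lib.PermAut.MTwentyTwo
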