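import Cfsg.Agent.Lib.PermAut.SubStem
import Cfsg.Agent.Lib.Schur.CoverBound

/-!
# Restricting a certified group to an invariant set of points
-/

set_option autoImplicit false
set_option linter.unusedSectionVars false

namespace Cfsg.Lib.PermAut

open Equiv Cfsg.Lib.Concrete
open scoped commutatorElement

/-- A product of tables restricts to a table on the first points. -/
noncomputable def restB (b b' M : ℕ) (l : List ℕ) (T : ℕ) : Bool :=
  forceL l fun a => force T fun t => allBelowB M fun x => Nat.beq (ev b a x) (ent b' t x)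

theorem restB_iff {b b' M : ℕ} {l : List ℕ} {T : ℕ} :
    restB b b' M l T = true ↔ ∀ x < M, Nat.beq (ev b l x) (ent b' T x) = true := by
  rw [restB, forceL_eq, force_eq]
  exact allBelowB_iff

variable {b b' N M : ℕ} [NeZero N] [NeZero M]

/-- The pairs of a permutation and its restriction. -/
def restPairs (hM : M ≤ N) : Subgroup (Perm (Fin N) × Perm (Fin M)) where
  carrier := {u | ∀ x, u.1 (Fin.castLE hM x) = Fin.castLE hM (u.2 x)}
  one_mem' := fun _ => rfl
  mul_mem' {u v} hu hv := fun x => by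
    show u.1 (v.1 _) = Fin.castLE hM (u.2 (v.2 x))
    rw [hv, hu]
  inv_mem' {u} hu := fun x => by
    show u.1⁻¹ _ = Fin.castLE hM (u.2⁻¹ x)
    rw [Perm.inv_eq_iff_eq, hu, Perm.coe_inv, Equiv.apply_symm_apply]

theorem exists_restrict {H : Sub} (V : H.Valid b N) (hM : M ≤ N) {t0 t1 : ℕ} (h0 : Rep b' (toP b' M t0) t0)
    (h1 : Rep b' (toP b' M t1) t1) (r0 : restB b b' M [H.g0] t0 = true) (r1 : restB b b' M [H.g1] t1 = true) :
    ∃ φ : ↥(H.grp b N) →* Perm (Fin M),
      (∀ g : ↥(H.grp b N), ∀ x, (g : Perm (Fin N)) (Fin.castLE hM x) = Fin.castLE hM (φ g x)) ∧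
      φ.range = Subgroup.closure {toP b' M t0, toP b' M t1} := by
  let T : Subgroup (Perm (Fin N) × Perm (Fin M)) :=
    Subgroup.closure {(toP b N H.g0, toP b' M t0), (toP b N H.g1, toP b' M t1)}
  have hgen : ∀ {S t : ℕ}, Rep b (toP b N S) S → Rep b' (toP b' M t) t → restB b b' M [S] t = true →
      ∀ x : Fin M, toP b N S (Fin.castLE hM x) = Fin.castLE hM (toP b' M t x) := fun hS ht hr x => Fin.ext (by
    rw [hS]
    show _ = ((toP b' M _ x : Fin M) : ℕ)
    rw [ht]
    exact Nat.eq_of_beq_eq_true (restB_iff.1 hr x x.isLt))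
  have hT : T ≤ restPairs hM := by
    rw [Subgroup.closure_le]
    rintro u (rfl | rfl)
    · exact hgen V.g0 h0 r0
    · exact hgen V.g1 h1 r1
  let p1 : T →* Perm (Fin N) := (MonoidHom.fst _ _).comp T.subtype
  let p2 : T →* Perm (Fin M) := (MonoidHom.snd _ _).comp T.subtype
  have i1 : Function.Injective p1 := (injective_iff_map_eq_one p1).2 fun u hu => by
    refine Subtype.ext (Prod.ext hu (Equiv.ext fun x => Fin.castLE_injective hM ?_))
    have := hT u.2 x
    rw [show (u : Perm (Fin N) × Perm (Fin M)).1 = 1 from hu] at this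
    exact this.symm
  have e1 : p1.range = H.grp b N := by
    rw [MonoidHom.range_comp, Subgroup.range_subtype, MonoidHom.map_closure, Sub.grp]
    simp [Set.image_insert_eq]
  have e2 : p2.range = Subgroup.closure {toP b' M t0, toP b' M t1} := by
    rw [MonoidHom.range_comp, Subgroup.range_subtype, MonoidHom.map_closure]
    simp [Set.image_insert_eq]
  let E : T ≃* ↥(H.grp b N) := (MonoidHom.ofInjective i1).trans (MulEquiv.subgroupCongr e1)
  refine ⟨p2.comp E.symm.toMonoidHom, fun g x => ?_, ?_⟩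
  · have hg : p1 (E.symm g) = (g : Perm (Fin N)) := congrArg Subtype.val (E.apply_symm_apply g)
    rw [← hg]
    exact hT (E.symm g).2 x
  · rw [MonoidHom.range_comp, MonoidHom.range_eq_top.2 E.symm.surjective, ← MonoidHom.range_eq_map, e2]

theorem Sub.Valid.le_of_paths {H G : Sub} (V : H.Valid b N) (VG : G.Valid b N) {u0 u1 : List ℕ}
    (h0 : pathOk G.lev u0 = true) (s0 : sameB b N [H.g0] (pickPath G.lev u0) = true)
    (h1 : pathOk G.lev u1 = true) (s1 : sameB b N [H.g1] (pickPath G.lev u1) = true) :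
    H.grp b N ≤ G.grp b N := by
  rw [Sub.grp, Subgroup.closure_le]
  rintro x (rfl | rfl)
  · exact VG.mem_of_same V.g0 h0 s0
  · exact VG.mem_of_same V.g1 h1 s1

/-- A subgroup of index prime to `p` inside a certified group. -/
theorem noStem_of_le {H : Sub} (V : H.Valid b N) {p : ℕ} (hp : p.Prime) {K : Subgroup (Perm (Fin N))}
    (hle : H.grp b N ≤ K) {d : ℕ} (hd : Nat.card K = H.size * d) (hpd : ¬ p ∣ d)
    (hno : NoStem p ↥(H.grp b N)) : NoStem p ↥K := by
  refine Cfsg.Lib.Schur.noStem_of_index_prime hp ((H.grp b N).subgroupOf K)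
    (hno.of_equiv (Subgroup.subgroupOfEquivOfLe hle).symm) ?_
  have h := ((H.grp b N).subgroupOf K).card_mul_index
  rw [Nat.card_congr (Subgroup.subgroupOfEquivOfLe hle).toEquiv, V.card, hd] at h
  rw [Nat.eq_of_mul_eq_mul_left (by rw [← V.card]; exact Nat.card_pos) h]
  exact hpd

/-- A kernel of order two generated by a central commutator. -/
noncomputable def Sub.centralB (H : Sub) (b N M : ℕ) (z : ℕ) (u v zp : List ℕ) : Bool :=
  pathOk H.lev u && pathOk H.lev v && pathOk H.lev zp && sameB b N [z] (pickPath H.lev zp) &&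
  sameB b N [z, H.g0] [H.g0, z] && sameB b N [z, H.g1] [H.g1, z] &&
  sameB b N (pickPath H.lev v ++ (pickPath H.lev u ++ [z])) (pickPath H.lev u ++ pickPath H.lev v) &&
  !(sameB b N [z] []) && sameB b M [z] []

end Cfsg.Lib.PermAut
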