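import Cfsg.Agent.Lib.PermAut.SubStem
import Cfsg.Agent.Lib.Schur.StemFused
import Cfsg.Agent.Lib.Schur.FusedIndex

/-!
# Coset certificates with a pair of fused involutions
-/

set_option autoImplicit false
set_option linter.unusedSectionVars false

namespace Cfsg.Lib.PermAut

open Equiv MulAction Cfsg.Lib.Concrete

/-- Two words give fused involutions and the relator with the given number is the product of their squares. -/
noncomputable def fusB (b N : ℕ) (H : Sub) (c : StemCert) (wt we : List ℕ) (g r : ℕ) : Bool :=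
  all2 (fun x y => Nat.beq x y) (c.rels.getD r []) (wt ++ wt ++ (we ++ we)) &&
  sameB b N (g :: we.map H.gen) (wt.map H.gen ++ [g]) && sameB b N ((we ++ we).map H.gen) []

variable {b N : ℕ} [NeZero N] {H L : Sub}

theorem eq_of_all2_beq : ∀ {l l' : List ℕ}, all2 (fun x y => Nat.beq x y) l l' = true → l = l'
  | [], [], _ => rfl
  | [], _ :: _, h => by simp [all2] at h
  | _ :: _, [], h => by simp [all2] at h
  | a :: l, b :: l', h => by
    simp only [all2, Bool.and_eq_true, Nat.beq_eq] at h
    rw [h.1, eq_of_all2_beq h.2]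

theorem Sub.Valid.wordProd_coe (_V : H.Valid b N) (W : List ℕ) :
    ((Cfsg.Lib.Concrete.wordProd (H.genElt b N) W : ↥(H.grp b N)) : Perm (Fin N)) =
      ((W.map H.gen).map (toP b N)).prod := by
  simp only [Cfsg.Lib.Concrete.wordProd, SubmonoidClass.coe_list_prod, List.map_map, Function.comp_def, Sub.genElt]

/-- A group with a certified subgroup of odd index and a fused pair has no stem extension of degree two. -/
theorem noStem_two_of_sub_fused {K : Subgroup (Perm (Fin N))} (hle : H.grp b N ≤ K) {d : ℕ}
    (hd : Nat.card K = H.size * d) (hpd : ¬ 2 ∣ d) {k : Cos} {c : StemCert} (VH : H.Valid b N) (VL : L.Valid b N)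
    (hk : k.ok b N H L c = true) (A : SVec 2 c.m) {r : ℕ} (hc : Cfsg.Lib.Schur.Zero.checkZero c A [r] = true)
    (hcard : H.size = c.N * L.size) (hlift : LiftsAt 2 (inner b N H L)) {wt we : List ℕ} {g : ℕ}
    (hgR : Rep b (toP b N g) g) (hgK : toP b N g ∈ K) (hf : fusB b N H c wt we g r = true) : NoStem 2 ↥K := by
  haveI : Fact (Nat.Prime 2) := ⟨Nat.prime_two⟩
  simp only [fusB, Bool.and_eq_true] at hf
  obtain ⟨⟨hW, hge⟩, hee⟩ := hf
  have hW := eq_of_all2_beq hW
  have hg1 : ∀ W : List ℕ, ∀ T ∈ W.map H.gen, Rep b (toP b N T) T := fun W T hT => by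
    obtain ⟨i, -, rfl⟩ := List.mem_map.1 hT
    exact VH.gen_rep i
  let s := H.genElt b N
  let eH : ↥(H.grp b N) ≃* ↥((H.grp b N).subgroupOf K) := (Subgroup.subgroupOfEquivOfLe hle).symm
  have hidx : ¬ 2 ∣ ((H.grp b N).subgroupOf K).index := by
    have h := ((H.grp b N).subgroupOf K).card_mul_index
    rw [Nat.card_congr eH.symm.toEquiv, VH.card, hd] at h
    rw [Nat.eq_of_mul_eq_mul_left (by rw [← VH.card]; exact Nat.card_pos) h]
    exact hpd
  have hsh : c.shapeOk = true := by
    simp only [Cfsg.Lib.Schur.Zero.checkZero, Bool.and_eq_true] at hc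
    exact hc.1.1.1.1.1
  obtain ⟨P, hgen, hact, hsep, hrel, hstab⟩ := Cos.frame VH VL hk hsh hcard
  refine Cfsg.Lib.Schur.noStem_two_of_fused ((H.grp b N).subgroupOf K) hidx (eH (wordProd s wt)) (eH (wordProd s we))
    ⟨toP b N g, hgK⟩ ?_ ?_ ?_
  · refine Subtype.ext ?_
    show toP b N g * ((wordProd s we : ↥(H.grp b N)) : Perm (Fin N)) * (toP b N g)⁻¹ =
      ((wordProd s wt : ↥(H.grp b N)) : Perm (Fin N))
    have e := eq_of_sameB (N := N) (fun T hT => (List.mem_cons.1 hT).elim (fun e => e ▸ hgR) (hg1 we T))
      (fun T hT => (List.mem_append.1 hT).elim (hg1 wt T) (fun h => (List.mem_singleton.1 h) ▸ hgR)) hge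
    simp only [List.map_cons, List.prod_cons, List.map_append, List.prod_append, List.map_nil, List.prod_nil,
      mul_one] at e
    rw [VH.wordProd_coe, VH.wordProd_coe, e, mul_inv_cancel_right]
  · rw [← map_mul, ← map_one eH]
    refine congrArg eH (Subtype.ext ?_)
    have e := eq_of_sameB (N := N) (hg1 (we ++ we)) (by simp) hee
    simp only [List.map_append, List.prod_append, List.map_nil, List.prod_nil] at e
    rw [Subgroup.coe_mul, VH.wordProd_coe]
    exact e
  · intro Γ _ _ τ hτs hτc hτcard hfus
    let σ : Γ →* ↥(H.grp b N) := eH.symm.toMonoidHom.comp τ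
    have hk' : σ.ker = τ.ker := by ext x; simp [σ, MonoidHom.mem_ker]
    have := Cfsg.Lib.Schur.Zero.not_le_of_cert c A [r] hc P s hgen hact hsep hrel (by rw [hstab]; exact hlift) σ
      (eH.symm.surjective.comp hτs) (hk' ▸ hτc) (by rw [hk']; exact hτcard) (fun st hst r' hr' => by
        rw [List.mem_singleton.1 hr', hW]
        have hl : ∀ W : List ℕ, τ (wordProd st W) = eH (wordProd s W) := fun W => by
          have h : σ (wordProd st W) = wordProd s W := by
            simp only [wordProd, map_list_prod, List.map_map]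
            congr 1
            exact List.map_congr_left fun i _ => hst i
          rw [← h]
          exact (eH.apply_symm_apply _).symm
        have := hfus _ _ (hl wt) (hl we)
        simpa only [wordProd, List.map_append, List.prod_append] using this)
    rwa [hk'] at this

end Cfsg.Lib.PermAut
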