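import Cfsg.Agent.Lib.PermAut.Lattice
import Cfsg.Agent.Lib.PermAut.MclData

/-!
# Checks of the certificate
-/

set_option autoImplicit false
set_option maxRecDepth 20000

namespace Cfsg.Lib.PermAut.Mcl

/-- The outer data. -/
def outer : Outer where
  eps := outerEps
  tau := tauTab
  taui := tauInvTab
  d0 := outerPath

theorem gen_check : cert.genB = true := by decide +kernel

theorem norm_check : cert.normB = true := by decide +kernel

theorem second_check : cert.secondB = true := by decide +kernel

theorem third_check : cert.thirdB (outer.allow cert) = true := by decide +kernel

theorem outer_check : outer.check cert = true := by decide +kernel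

theorem mat_check : matOkB matA [0x377777777777777777777777, 0xc8888888888888888888888c] = true ∧ matOkB matC [0x377777777777777777777777, 0xc8888888888888888888888c] = true ∧ matOkB matD [0x377777777777777777777777, 0xc8888888888888888888888c] = true := by decide +kernel

theorem move_check : movesOk cert matA cert.a ptKeys ptKeys = true ∧ movesOk cert matC cert.c ptKeys ptKeys = true ∧ movesOk cert matD cert.d ptKeys ptKeys = true := by decide +kernel

theorem key_check : keysOk ptKeys = true ∧ ptKeys.length = cert.N := by decide +kernel

theorem fix_key_check : keysOk [0x377777777777777777777777, 0xc8888888888888888888888c] = true := by decide +kernel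

end Cfsg.Lib.PermAut.Mcl
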