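import Cfsg.Agent.Lib.PermAut.MclData
import Cfsg.Agent.Lib.PermAut.MclInvData
import Cfsg.Agent.Lib.PermAut.Centraliser
import Cfsg.Agent.Lib.PermAut.RestrictAt

/-!
# Checks for the involution centraliser
-/

set_option autoImplicit false
set_option maxRecDepth 20000

namespace Cfsg.Lib.PermAut.MclInv

/-- The checks of the conjugating elements. -/
noncomputable def conjB : Bool :=
  (List.range twoSub.size).all fun i =>
    let pp := pickPath twoSub.lev (digitsOf twoSub.lev i)
    !(sameB 9 275 (pp ++ pp) []) || sameB 9 275 pp [] ||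
      (pathOk Mcl.cert.tr (invConj.getD i []) &&
        sameB 9 275 (pickPath Mcl.cert.tr (invConj.getD i []) ++ pp) (invT :: pickPath Mcl.cert.tr (invConj.getD i [])))

theorem subs_ok : centSub.ok 9 275 = true ∧ twoSub.ok 9 275 = true ∧ altSub.ok 3 8 = true := by decide +kernel

theorem graph_ok : graphSub.ok 9 283 = true := by decide +kernel

theorem sizes : centSub.size = 40320 ∧ twoSub.size = 384 ∧ altSub.size = 20160 ∧ graphSub.size = 40320 := by decide +kernel

theorem gens_ok : (invPairOk 9 275 invT invT && !(sameB 9 275 [invT] []) &&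
    sameB 9 275 [invT, centSub.g0] [centSub.g0, invT] && sameB 9 275 [invT, centSub.g1] [centSub.g1, invT] &&
    restAtB 9 9 275 0 graphSub.g0 centSub.g0 && restAtB 9 9 275 0 graphSub.g1 centSub.g1 &&
    restAtB 9 3 8 275 graphSub.g0 altSub.g0 && restAtB 9 3 8 275 graphSub.g1 altSub.g1) = true := by decide +kernel

theorem places_ok : (pathOk Mcl.cert.tr (centTop.getD 0 []) && sameB 9 275 [centSub.g0] (pickPath Mcl.cert.tr (centTop.getD 0 [])) &&
    pathOk Mcl.cert.tr (centTop.getD 1 []) && sameB 9 275 [centSub.g1] (pickPath Mcl.cert.tr (centTop.getD 1 [])) &&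
    pathOk Mcl.cert.tr (centTop.getD 2 []) && sameB 9 275 [invT] (pickPath Mcl.cert.tr (centTop.getD 2 [])) &&
    pathOk centSub.lev (twoTop.getD 0 []) && sameB 9 275 [twoSub.g0] (pickPath centSub.lev (twoTop.getD 0 [])) &&
    pathOk centSub.lev (twoTop.getD 1 []) && sameB 9 275 [twoSub.g1] (pickPath centSub.lev (twoTop.getD 1 [])) &&
    pathOk centSub.lev (twoTop.getD 2 []) && sameB 9 275 [invT] (pickPath centSub.lev (twoTop.getD 2 [])) &&
    pathOk centSub.lev (invCom.getD 0 []) && pathOk centSub.lev (invCom.getD 1 []) &&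
    sameB 9 275 (pickPath centSub.lev (invCom.getD 1 []) ++ (pickPath centSub.lev (invCom.getD 0 []) ++ [invT]))
      (pickPath centSub.lev (invCom.getD 0 []) ++ pickPath centSub.lev (invCom.getD 1 []))) = true := by decide +kernel

theorem conj_ok : conjB = true := by decide +kernel

/-- The levels fixing the point. -/
def fixLevels : List (List ℕ) :=
  (Mcl.cert.tr.headD []).filter (fun T => Nat.beq (ent Mcl.cert.b T 38) 38) :: Mcl.cert.tr.tail

theorem search_ok : (checksOk 9 275 invT fixLevels searchTests && coversFixed 9 275 centSub.lev invT 38 &&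
    Nat.ble ((centSub.lev.headD []).length * (search 9 275 invT invT fixLevels searchTests []).length) centSub.size &&
    (Mcl.cert.tr.tail.all fun l => l.all fun T => Nat.beq (ent 9 T 38) 38) && Nat.beq (ent 9 invT 38) 38) = true := by
  decide +kernel

end Cfsg.Lib.PermAut.MclInv
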