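import Cfsg.Agent.Lib.PermAut.Mcl
import Cfsg.Agent.Lib.PermAut.MclInvCheck
import Cfsg.Prelude.Def_SporadicB

/-!
# The involutions of the McLaughlin group
-/

set_option autoImplicit false
set_option maxRecDepth 100000

namespace Cfsg.Lib.PermAut.MclInv

open Cfsg Cfsg.Lib.PermAut Mcl Equiv
open scoped commutatorElement

instance : NeZero 275 := ⟨by norm_num⟩
instance : NeZero 283 := ⟨by norm_num⟩

/-- The involution as a permutation. -/
noncomputable abbrev tP : Perm (Fin 275) := toP 9 275 invT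

theorem t_facts : Rep 9 tP invT ∧ tP ≠ 1 ∧ tP * tP = 1 := by
  have h := gens_ok
  simp only [Bool.and_eq_true, Bool.not_eq_true'] at h
  obtain ⟨⟨⟨⟨⟨⟨⟨hi, hne⟩, -⟩, -⟩, -⟩, -⟩, -⟩, -⟩ := h
  obtain ⟨hR, -, hinv⟩ := rep_of_invPairOk (N := 275) hi
  refine ⟨hR, fun e => ?_, mul_eq_one_iff_eq_inv.2 hinv⟩
  have : sameB 9 275 [invT] [] = true := sameB_iff.2 fun x hx => by
    have h1 := ev_rep (b := 9) (l := [invT]) (by simpa using hR) (⟨x, hx⟩ : Fin 275)
    rw [List.map_singleton, List.prod_singleton, show toP 9 275 invT = 1 from e] at h1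
    rw [← h1]
    simp [ev]
  rw [this] at hne
  exact Bool.noConfusion hne

/-- The certified group, on 275 points. -/
noncomputable def KK : Subgroup (Perm (Fin 275)) := cert.K

theorem kk_model : Nonempty (↥Spor.McL ≃* ↥KK) ∧ Nat.card ↥KK = cert.size := mcl_model

theorem kk_path {u : List ℕ} (hu : pathOk cert.tr u = true) :
    ∀ S ∈ pickPath cert.tr u, Rep 9 (toP 9 275 S) S ∧ toP 9 275 S ∈ KK := fun S hS => by
  obtain ⟨l, hl, h'⟩ := mem_of_forall₂ (forall₂_pick hu) S hS
  exact (Cert.gen_of_check Mcl.gen_check).rep l hl S h'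

theorem cent_valid : centSub.Valid 9 275 := Sub.valid subs_ok.1

theorem mem_K {T : ℕ} {u : List ℕ} (hT : Rep 9 (toP 9 275 T) T) (hu : pathOk cert.tr u = true)
    (hs : sameB 9 275 [T] (pickPath cert.tr u) = true) : toP 9 275 T ∈ KK := by
  have hg := kk_path hu
  have e := eq_of_sameB (b := 9) (N := 275) (l := [T]) (by simpa using hT) (fun S hS => (hg S hS).1) hs
  rw [List.map_singleton, List.prod_singleton] at e
  rw [e]
  exact Subgroup.list_prod_mem _ fun x hx => by
    obtain ⟨S, hS, rfl⟩ := List.mem_map.1 hx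
    exact (hg S hS).2

theorem cent_le : centSub.grp 9 275 ≤ KK ∧ tP ∈ KK ∧ tP ∈ centSub.grp 9 275 ∧
    twoSub.grp 9 275 ≤ centSub.grp 9 275 ∧ ∀ h ∈ centSub.grp 9 275, h * tP = tP * h := by
  have VC := cent_valid
  have V2 := Sub.valid (b := 9) (N := 275) subs_ok.2.1
  have h := places_ok
  simp only [Bool.and_eq_true] at h
  obtain ⟨⟨⟨⟨⟨⟨⟨⟨⟨⟨⟨⟨⟨⟨p0, s0⟩, p1⟩, s1⟩, p2⟩, s2⟩, q0⟩, t0⟩, q1⟩, t1⟩, q2⟩, t2⟩, -⟩, -⟩, -⟩ := h
  obtain ⟨hR, -, -⟩ := t_facts
  have h2 := gens_ok
  simp only [Bool.and_eq_true] at h2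
  obtain ⟨⟨⟨⟨⟨⟨⟨-, -⟩, hc0⟩, hc1⟩, -⟩, -⟩, -⟩, -⟩ := h2
  refine ⟨?_, mem_K hR p2 s2, VC.mem_of_same hR q2 t2, ?_, ?_⟩
  · rw [Sub.grp, Subgroup.closure_le]
    rintro x (rfl | rfl)
    · exact mem_K VC.g0 p0 s0
    · exact mem_K VC.g1 p1 s1
  · rw [Sub.grp, Subgroup.closure_le]
    rintro x (rfl | rfl)
    · exact VC.mem_of_same V2.g0 q0 t0
    · exact VC.mem_of_same V2.g1 q1 t1
  · have key : ∀ {T : ℕ}, Rep 9 (toP 9 275 T) T → sameB 9 275 [invT, T] [T, invT] = true →
        toP 9 275 T ∈ Subgroup.centralizer {tP} := fun {T} hT hs => by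
      refine Subgroup.mem_centralizer_iff.2 fun y hy => ?_
      rw [Set.mem_singleton_iff.1 hy]
      have e := eq_of_sameB (l := [invT, T]) (l' := [T, invT]) (by simp [hR, hT]) (by simp [hR, hT]) hs
      simpa using e
    have hle : centSub.grp 9 275 ≤ Subgroup.centralizer {tP} := by
      rw [Sub.grp, Subgroup.closure_le]
      rintro x (rfl | rfl)
      · exact key VC.g0 hc0
      · exact key VC.g1 hc1
    exact fun g hg => ((Subgroup.mem_centralizer_iff.1 (hle hg)) _ rfl).symm

/-- The involution in the certified group. -/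
noncomputable def tK : ↥KK := ⟨tP, cent_le.2.1⟩

theorem tK_order : orderOf tK = 2 := by
  refine orderOf_eq_prime (Subtype.ext ?_) fun e => t_facts.2.1 (congrArg Subtype.val e)
  rw [pow_two]
  exact t_facts.2.2

set_option maxHeartbeats 800000 in
theorem centralizer_eq (g : ↥KK) :
    g ∈ Subgroup.centralizer ({tK} : Set ↥KK) ↔ (g : Perm (Fin 275)) ∈ centSub.grp 9 275 := by
  obtain ⟨hle, -, -, -, hcomm⟩ := cent_le
  constructor
  · intro hg
    have hgt : (g : Perm (Fin 275)) * tP = tP * g :=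
      (congrArg Subtype.val ((Subgroup.mem_centralizer_iff.1 hg) tK rfl)).symm
    have h := search_ok
    simp only [Bool.and_eq_true] at h
    obtain ⟨⟨⟨⟨hcs, hcov⟩, hcount⟩, hls⟩, hfix⟩ := h
    have hK : Nat.card KK = cert.size := kk_model.2
    have htr : cert.tr = cert.tr.headD [] :: cert.tr.tail := by decide +kernel
    have eb : cert.b = 9 := by decide +kernel
    have eN : cert.N = 275 := by decide +kernel
    have efix : fixLevels = (cert.tr.headD []).filter (fun T : ℕ => Nat.beq (ent cert.b T 38) (38 : ℕ)) :: cert.tr.tail :=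
      rfl
    have hcs' : checksOk cert.b cert.N invT ((cert.tr.headD []).filter
        (fun T : ℕ => Nat.beq (ent cert.b T 38) (38 : ℕ)) :: cert.tr.tail) searchTests = true := by
      rw [efix] at hcs
      rw [eN]
      nth_rw 1 [eb]
      exact hcs
    have hcount' : (centSub.lev.headD []).length * (search cert.b cert.N invT invT ((cert.tr.headD []).filter
        (fun T : ℕ => Nat.beq (ent cert.b T 38) (38 : ℕ)) :: cert.tr.tail) searchTests []).length ≤ centSub.size := by
      replace hcount := Nat.le_of_ble_eq_true hcount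
      rw [efix] at hcount
      rw [eN]
      nth_rw 1 [eb]
      exact hcount
    have hcov' : coversFixed cert.b cert.N centSub.lev invT 38 = true := by
      simp only [eb, eN]
      exact hcov
    have hls' : (cert.tr.tail.all fun l => l.all fun T => Nat.beq (ent cert.b T 38) (38 : ℕ)) = true := by
      simp only [eb]
      exact hls
    have hfix' : Nat.beq (ent cert.b invT 38) (38 : ℕ) = true := by
      simp only [eb]
      exact hfix
    refine centralizer_le (C := cert) (t := invT) (H := centSub) (l0 := cert.tr.headD []) (ls := cert.tr.tail)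
      (cs := searchTests) (Cert.gen_of_check Mcl.gen_check) hK t_facts.1 cent_valid hle hcomm
      (p0 := 38) htr ?_ hls' hfix' hcov' hcs' ?_ _ g.2 hgt
    · decide +kernel
    · exact hcount'
  · intro hg
    refine Subgroup.mem_centralizer_iff.2 fun y hy => ?_
    rw [Set.mem_singleton_iff.1 hy]
    exact Subtype.ext (hcomm _ hg).symm

theorem conj_spec {i : ℕ} (hi : i < twoSub.size) :
    (sameB 9 275 (pickPath twoSub.lev (digitsOf twoSub.lev i) ++ pickPath twoSub.lev (digitsOf twoSub.lev i)) [] = false ∨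
      sameB 9 275 (pickPath twoSub.lev (digitsOf twoSub.lev i)) [] = true) ∨
    pathOk cert.tr (invConj.getD i []) = true ∧
      sameB 9 275 (pickPath cert.tr (invConj.getD i []) ++ pickPath twoSub.lev (digitsOf twoSub.lev i))
        (invT :: pickPath cert.tr (invConj.getD i [])) = true := by
  have h := conj_ok
  rw [conjB, List.all_eq_true] at h
  have h := h i (List.mem_range.2 hi)
  rw [Bool.or_eq_true, Bool.or_eq_true, Bool.and_eq_true, Bool.not_eq_true'] at h
  exact h

theorem one_class (y : ↥KK) (hy : orderOf y = 2) : IsConj y tK := by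
  haveI : Fact (Nat.Prime 2) := ⟨Nat.prime_two⟩
  obtain ⟨hle, -, -, h2le, -⟩ := cent_le
  have V2 := Sub.valid (b := 9) (N := 275) subs_ok.2.1
  have hKc : Nat.card ↥KK = 128 * 7016625 := by
    rw [kk_model.2]; decide +kernel
  set M := (twoSub.grp 9 275).subgroupOf KK with hM
  have hMc : Nat.card M = 384 := by
    rw [hM, Nat.card_congr (Subgroup.subgroupOfEquivOfLe (h2le.trans hle)).toEquiv, V2.card, sizes.2.1]
  obtain ⟨Q⟩ : Nonempty (Sylow 2 M) := inferInstance
  have hfac : (384 : ℕ).factorization 2 = 7 := by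
    rw [show (384 : ℕ) = 2 ^ 7 * 3 by norm_num, Nat.factorization_mul (by norm_num) (by norm_num), Finsupp.add_apply,
      Nat.Prime.factorization_pow Nat.prime_two, Finsupp.single_eq_same,
      Nat.factorization_eq_zero_of_not_dvd (by norm_num : ¬ 2 ∣ 3)]
  have hfacK : (Nat.card ↥KK).factorization 2 = 7 := by
    rw [hKc, show (128 : ℕ) = 2 ^ 7 by norm_num, Nat.factorization_mul (by norm_num) (by norm_num), Finsupp.add_apply,
      Nat.Prime.factorization_pow Nat.prime_two, Finsupp.single_eq_same,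
      Nat.factorization_eq_zero_of_not_dvd (by norm_num : ¬ 2 ∣ 7016625)]
  let P : Sylow 2 ↥KK := Sylow.ofCard ((Q : Subgroup M).map M.subtype) (by
    rw [Subgroup.card_map_of_injective M.subtype_injective, Q.card_eq_multiplicity, hMc, hfac, hfacK])
  have hp2 : IsPGroup 2 (Subgroup.zpowers y) := IsPGroup.of_card (n := 1) (by rw [Nat.card_zpowers, hy, pow_one])
  obtain ⟨R, hR⟩ := hp2.exists_le_sylow
  obtain ⟨g, hg⟩ := MulAction.exists_smul_eq ↥KK R P
  set w := g * y * g⁻¹ with hw
  have hwP : w ∈ (P : Subgroup ↥KK) := by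
    rw [← hg]
    exact ⟨y, hR (Subgroup.mem_zpowers y), rfl⟩
  have hwM : (w : Perm (Fin 275)) ∈ twoSub.grp 9 275 := Subgroup.mem_subgroupOf.1 (Subgroup.map_subtype_le (Q : Subgroup M) hwP)
  have hw2 : w * w = 1 := by
    rw [hw]
    have : y * y = 1 := by rw [← pow_two, ← hy, pow_orderOf_eq_one]
    calc g * y * g⁻¹ * (g * y * g⁻¹) = g * (y * y) * g⁻¹ := by group
      _ = 1 := by rw [this]; group
  have hw1 : w ≠ 1 := fun e => by
    have : y = 1 := by
      have := congrArg (fun z => g⁻¹ * z * g) e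
      simpa [hw, mul_assoc] using this
    rw [this, orderOf_one] at hy
    omega
  have hwS : (w : Perm (Fin 275)) ∈ prodSet 9 275 twoSub.lev := by
    rw [← Finset.mem_coe, V2.eq]
    exact hwM
  have hE : ∀ lev, (w : Perm (Fin 275)) ∈ prodSet 9 275 lev → ∃ path : List ℕ,
      List.Forall₂ (fun T l => T ∈ l) path lev ∧ (path.map (toP 9 275)).prod = (w : Perm (Fin 275)) :=
    fun lev h => exists_path lev _ h
  obtain ⟨path, hp, hpw⟩ := hE _ hwS
  obtain ⟨i, hi, hpick, hok⟩ := exists_digits hp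
  have hsz : (twoSub.lev.map List.length).prod = twoSub.size := by decide +kernel
  have hgood := V2.good_of_path hok
  have hc := conj_spec (i := i) (hsz ▸ hi)
  rw [hpick] at hc hgood
  rcases hc with (h | h) | h
  · exfalso
    have : sameB 9 275 (path ++ path) [] = true := sameB_iff.2 fun x hx => by
      rw [← ev_rep (fun T hT => (List.mem_append.1 hT).elim (hgood T) (hgood T)) (⟨x, hx⟩ : Fin 275),
        List.map_append, List.prod_append, hpw, ← Subgroup.coe_mul, hw2]
      simp [ev]
    rw [this] at h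
    exact Bool.noConfusion h
  · exact absurd (Subtype.ext (by
      have e := eq_of_sameB hgood (by simp) h
      rw [hpw] at e
      simpa using e) : w = 1) hw1
  · have hgu := kk_path h.1
    set cg : ↥KK := ⟨((pickPath cert.tr (invConj.getD i [])).map (toP 9 275)).prod,
      Subgroup.list_prod_mem _ fun x hx => by
        obtain ⟨S, hS, rfl⟩ := List.mem_map.1 hx
        exact (hgu S hS).2⟩ with hcg
    have e := eq_of_sameB (b := 9) (N := 275) (fun T hT => (List.mem_append.1 hT).elim (fun h => (hgu T h).1) (hgood T))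
      (fun T hT => (List.mem_cons.1 hT).elim (fun h => h ▸ t_facts.1) (fun h => (hgu T h).1)) h.2
    rw [List.map_append, List.prod_append, hpw, List.map_cons, List.prod_cons] at e
    refine isConj_iff.2 ⟨cg * g, ?_⟩
    have e' : cg * w = tK * cg := Subtype.ext e
    calc cg * g * y * (cg * g)⁻¹ = cg * w * cg⁻¹ := by rw [hw]; group
      _ = tK := by rw [e', mul_inv_cancel_right]

theorem double_cover :
    IsNonsplitDoubleCover ↥(Subgroup.centralizer ({tK} : Set ↥KK)) ↥(alternatingGroup (Fin 8)) := by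
  obtain ⟨hle, -, htC, -, hcomm⟩ := cent_le
  have VC := cent_valid
  have VG := Sub.valid (b := 9) (N := 283) graph_ok
  have VA := Sub.valid (b := 3) (N := 8) subs_ok.2.2
  let C := centSub.grp 9 275
  let eC : ↥(Subgroup.centralizer ({tK} : Set ↥KK)) ≃* ↥C :=
    { toFun := fun g => ⟨g.1.1, (centralizer_eq g.1).1 g.2⟩
      invFun := fun h => ⟨⟨h.1, hle h.2⟩, (centralizer_eq _).2 h.2⟩
      left_inv := fun _ => rfl
      right_inv := fun _ => rfl
      map_mul' := fun _ _ => rfl }
  have h := gens_ok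
  simp only [Bool.and_eq_true] at h
  obtain ⟨⟨⟨⟨⟨⟨⟨-, -⟩, -⟩, -⟩, r0⟩, r1⟩, a0⟩, a1⟩ := h
  obtain ⟨ψ, -, hψr, -⟩ := exists_restrict_at VG (M := 275) (off := 0) (by norm_num) VC.g0 VC.g1 r0 r1
  obtain ⟨φ, -, hφr, -⟩ := exists_restrict_at VG (M := 8) (off := 275) (by norm_num) VA.g0 VA.g1 a0 a1
  have hψi : Function.Injective ψ := by
    have hsur : Nat.card ψ.range = Nat.card ↥(graphSub.grp 9 283) := by
      rw [hψr, VG.card, sizes.2.2.2, ← sizes.1, ← VC.card]
      rfl
    rw [← MonoidHom.ker_eq_bot_iff, ← Subgroup.card_eq_one]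
    have h := ψ.ker.card_mul_index
    rw [Subgroup.index_ker, hsur] at h
    exact Nat.eq_of_mul_eq_mul_right Nat.card_pos (h.trans (one_mul _).symm)
  let eG : ↥(graphSub.grp 9 283) ≃* ↥C := (MonoidHom.ofInjective hψi).trans (MulEquiv.subgroupCongr hψr)
  let f : ↥(Subgroup.centralizer ({tK} : Set ↥KK)) →* Perm (Fin 8) :=
    φ.comp (eC.trans eG.symm).toMonoidHom
  have hfr : f.range = alternatingGroup (Fin 8) := by
    have h0 : f.range = altSub.grp 3 8 := by
      show (φ.comp _).range = _
      rw [MonoidHom.range_comp, MonoidHom.range_eq_top.2 (eC.trans eG.symm).surjective, ← MonoidHom.range_eq_map,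
        hφr]
      rfl
    refine Equiv.Perm.eq_alternatingGroup_of_index_eq_two ?_
    have h := f.range.card_mul_index
    rw [Nat.card_perm, Nat.card_eq_fintype_card (α := Fin 8), Fintype.card_fin] at h
    rw [h0, VA.card, sizes.2.2.1, show Nat.factorial 8 = 40320 from rfl] at h
    rw [h0]
    omega
  have hC : Nat.card ↥(Subgroup.centralizer ({tK} : Set ↥KK)) = 40320 := by
    rw [Nat.card_congr eC.toEquiv, VC.card, sizes.1]
  have hAc : Nat.card ↥(alternatingGroup (Fin 8)) = 20160 := by
    rw [← hfr]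
    have h0 : f.range = altSub.grp 3 8 := by
      show (φ.comp _).range = _
      rw [MonoidHom.range_comp, MonoidHom.range_eq_top.2 (eC.trans eG.symm).surjective, ← MonoidHom.range_eq_map,
        hφr]
      rfl
    rw [h0, VA.card, sizes.2.2.1]
  let f' : ↥(Subgroup.centralizer ({tK} : Set ↥KK)) →* ↥(alternatingGroup (Fin 8)) :=
    (MulEquiv.subgroupCongr hfr).toMonoidHom.comp f.rangeRestrict
  have hs : Function.Surjective f' := (MulEquiv.subgroupCongr hfr).surjective.comp f.rangeRestrict_surjective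
  let tC : ↥(Subgroup.centralizer ({tK} : Set ↥KK)) :=
    ⟨tK, Subgroup.mem_centralizer_iff.2 fun y hy => by rw [Set.mem_singleton_iff.1 hy]⟩
  have htc : tC ∈ Subgroup.center ↥(Subgroup.centralizer ({tK} : Set ↥KK)) :=
    Subgroup.mem_center_iff.2 fun g => Subtype.ext ((Subgroup.mem_centralizer_iff.1 g.2) tK rfl).symm
  haveI : IsSimpleGroup ↥(alternatingGroup (Fin 8)) := alternatingGroup.isSimpleGroup (by simp)
  have hkerc : Nat.card f'.ker = 2 := by
    have h := f'.ker.card_mul_index
    rw [Subgroup.index_ker, MonoidHom.range_eq_top.2 hs, Subgroup.card_top, hAc, hC] at h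
    omega
  have hbot : Subgroup.center ↥(alternatingGroup (Fin 8)) = ⊥ := by
    refine ((inferInstance : (Subgroup.center ↥(alternatingGroup (Fin 8))).Normal).eq_bot_or_eq_top).resolve_right
      fun h => ?_
    haveI : IsMulCommutative ↥(alternatingGroup (Fin 8)) :=
      ⟨⟨fun a b => Subgroup.mem_center_iff.1 (h ▸ Subgroup.mem_top b) a⟩⟩
    open scoped IsMulCommutative in
    have hp := IsSimpleGroup.prime_card (α := ↥(alternatingGroup (Fin 8)))
    rw [hAc] at hp
    norm_num at hp
  have hzle : Subgroup.center ↥(Subgroup.centralizer ({tK} : Set ↥KK)) ≤ f'.ker := fun z hz => by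
    have h : f' z ∈ Subgroup.center ↥(alternatingGroup (Fin 8)) := Subgroup.mem_center_iff.2 fun y => by
      obtain ⟨x, rfl⟩ := hs y
      rw [← map_mul, ← map_mul, Subgroup.mem_center_iff.1 hz x]
    rw [hbot, Subgroup.mem_bot] at h
    exact h
  have htz : tC ≠ 1 := fun e => t_facts.2.1 (congrArg (fun z => (z.1.1 : Perm (Fin 275))) e)
  have hzk : Subgroup.center ↥(Subgroup.centralizer ({tK} : Set ↥KK)) = f'.ker := by
    refine Subgroup.eq_of_le_of_card_ge hzle ?_
    rw [hkerc]
    by_contra hlt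
    have h1 : Subgroup.center ↥(Subgroup.centralizer ({tK} : Set ↥KK)) = ⊥ :=
      Subgroup.card_eq_one.1 (by
        have : 0 < Nat.card ↥(Subgroup.center ↥(Subgroup.centralizer ({tK} : Set ↥KK))) := Nat.card_pos
        omega)
    exact htz (Subgroup.mem_bot.1 (h1 ▸ htc))
  have hz2 : Nat.card ↥(Subgroup.center ↥(Subgroup.centralizer ({tK} : Set ↥KK))) = 2 := by rw [hzk, hkerc]
  refine ⟨hz2, ⟨(QuotientGroup.quotientMulEquivOfEq hzk).trans
    (QuotientGroup.quotientKerEquivOfSurjective f' hs)⟩, fun L hL => ?_⟩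
  -- the involution is a commutator
  have hcom : tC ∈ commutator ↥(Subgroup.centralizer ({tK} : Set ↥KK)) := by
    have h := places_ok
    simp only [Bool.and_eq_true] at h
    obtain ⟨⟨⟨-, hu⟩, hv⟩, huv⟩ := h
    have gu := VC.good_of_path hu
    have gv := VC.good_of_path hv
    let U := eC.symm ⟨_, VC.mem_of_path hu⟩
    let W := eC.symm ⟨_, VC.mem_of_path hv⟩
    have e := eq_of_sameB (fun S hS => by
      rcases List.mem_append.1 hS with hS | hS
      · exact gv S hS
      rcases List.mem_append.1 hS with hS | hS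
      · exact gu S hS
      · rw [List.mem_singleton.1 hS]; exact t_facts.1)
      (fun S hS => (List.mem_append.1 hS).elim (gu S) (gv S)) huv
    simp only [List.map_append, List.prod_append, List.map_singleton, List.prod_singleton] at e
    have e' : W * (U * tC) = U * W := Subtype.ext (Subtype.ext e)
    have e2 : tC = ⁅U⁻¹, W⁻¹⁆ := by
      rw [commutatorElement_def, inv_inv, inv_inv, mul_assoc _ U W, ← e']
      group
    rw [e2]
    exact Subgroup.commutator_mem_commutator (Subgroup.mem_top _) (Subgroup.mem_top _)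
  have hidx : L.index = 2 := by rw [← hz2]; exact (Subgroup.IsComplement'.index_eq_card hL)
  haveI := Subgroup.normal_of_index_eq_two hidx
  haveI : Fact (Nat.Prime 2) := ⟨Nat.prime_two⟩
  haveI := isCyclic_of_prime_card (α := ↥(Subgroup.centralizer ({tK} : Set ↥KK)) ⧸ L)
    (p := 2) (by rw [← Subgroup.index_eq_card, hidx])
  have hcl : commutator ↥(Subgroup.centralizer ({tK} : Set ↥KK)) ≤ L :=
    (Subgroup.Normal.quotient_commutative_iff_commutator_le).1 IsCyclic.commutative
  have : tC ∈ (⊥ : Subgroup _) := hL.disjoint.le_bot ⟨htc, hcl hcom⟩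
  exact htz (Subgroup.mem_bot.1 this)

theorem double_cover_congr {A B K : Type*} [Group A] [Group B] [Group K] (e : A ≃* B)
    (h : IsNonsplitDoubleCover A K) : IsNonsplitDoubleCover B K := by
  obtain ⟨h1, ⟨q⟩, h3⟩ := h
  have hc : (Subgroup.center A).map e.toMonoidHom = Subgroup.center B := by
    ext z
    simp only [Subgroup.mem_map, MulEquiv.coe_toMonoidHom, Subgroup.mem_center_iff]
    exact ⟨fun ⟨w, hw, hwz⟩ g => by rw [← hwz, ← e.apply_symm_apply g, ← map_mul, ← map_mul, hw],
      fun hz => ⟨e.symm z, fun g => e.injective (by rw [map_mul, map_mul, e.apply_symm_apply, hz]),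
        e.apply_symm_apply z⟩⟩
  refine ⟨?_, ⟨(QuotientGroup.congr _ _ e hc).symm.trans q⟩, fun L hL => h3 (L.comap e.toMonoidHom) ?_⟩
  · rw [← hc, Subgroup.card_map_of_injective e.injective, h1]
  · refine Subgroup.isComplement'_of_disjoint_and_mul_eq_univ ?_ ?_
    · rw [disjoint_iff, eq_bot_iff]
      intro z hz
      have hzc : e z ∈ Subgroup.center B := hc ▸ ⟨z, hz.1, rfl⟩
      have : e z ∈ (⊥ : Subgroup B) := hL.disjoint.le_bot ⟨hzc, hz.2⟩
      exact Subgroup.mem_bot.2 (e.injective (by rw [Subgroup.mem_bot.1 this, map_one]))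
    · refine Set.eq_univ_of_forall fun z => ?_
      obtain ⟨⟨⟨c, hc'⟩, ⟨l, hl⟩⟩, hcl⟩ := hL.2 (e z)
      have hc2 : c ∈ (Subgroup.center A).map e.toMonoidHom := hc.symm ▸ hc'
      obtain ⟨c0, hc0, rfl⟩ := hc2
      exact ⟨c0, hc0, e.symm l, by show e (e.symm l) ∈ L; rw [e.apply_symm_apply]; exact hl,
        e.injective (by rw [map_mul, e.apply_symm_apply]; exact hcl)⟩

theorem mcl_involutions : (∀ x y : ↥Spor.McL, orderOf x = 2 → orderOf y = 2 → IsConj x y) ∧
    ∃ t : ↥Spor.McL, orderOf t = 2 ∧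
      IsNonsplitDoubleCover ↥(Subgroup.centralizer ({t} : Set ↥Spor.McL)) ↥(alternatingGroup (Fin 8)) := by
  obtain ⟨⟨e⟩, -⟩ := kk_model
  refine ⟨fun x y hx hy => ?_, e.symm tK, (MulEquiv.orderOf_eq e.symm tK).trans tK_order, ?_⟩
  · have h1 := one_class (e x) ((MulEquiv.orderOf_eq e x).trans hx)
    have h2 := one_class (e y) ((MulEquiv.orderOf_eq e y).trans hy)
    have := e.symm.toMonoidHom.map_isConj (h1.trans h2.symm)
    simpa using this
  · have he : (Subgroup.centralizer ({tK} : Set ↥KK)).map e.symm.toMonoidHom =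
        Subgroup.centralizer ({e.symm tK} : Set ↥Spor.McL) := by
      ext z
      simp only [Subgroup.mem_map, MulEquiv.coe_toMonoidHom, Subgroup.mem_centralizer_iff, Set.mem_singleton_iff,
        forall_eq]
      exact ⟨fun ⟨w, hw, hwz⟩ => by rw [← hwz, ← map_mul, ← map_mul, hw],
        fun hz => ⟨e z, e.symm.injective (by rw [map_mul, map_mul, MulEquiv.symm_apply_apply, hz]),
          MulEquiv.symm_apply_apply e z⟩⟩
    exact double_cover_congr (((Subgroup.centralizer ({tK} : Set ↥KK)).equivMapOfInjective _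
      e.symm.injective).trans (MulEquiv.subgroupCongr he)) double_cover

end Cfsg.Lib.PermAut.MclInv
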