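import Cfsg.Agent.Lib.PermAut.Cert
import Cfsg.Prelude.Def_KGroupFacts

/-!
# Outer automorphism groups from certificates
-/

set_option autoImplicit false
set_option linter.unusedSectionVars false

namespace Cfsg.Lib.PermAut

noncomputable section

open Equiv

/-- The first generator or its inverse. -/
def Cert.aE (c : Cert) (e : Bool) : ℕ := if e then c.a else c.ai

/-- The tables of the letters after a substitution. -/
def Cert.img (c : Cert) (e : Bool) (r : List ℕ) : ℕ → List ℕ
  | 0 => [c.aE e]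
  | 1 => [c.c]
  | _ => r

/-- The relations hold after a substitution. -/
def Cert.relsHold (c : Cert) (e : Bool) (r : List ℕ) : Bool :=
  c.rels.all fun w => sameB c.b c.N ((List.replicate w.2 w.1).flatten.flatMap (c.img e r)) []

/-- Order of the first generator and the action of the second one on its powers. -/
def Cert.normB (c : Cert) : Bool :=
  sameB c.b c.N (List.replicate c.p c.a) [] && !(sameB c.b c.N [c.a] []) &&
  sameB c.b c.N [c.c, c.a] (List.replicate c.t c.a ++ [c.c]) &&
  (List.range c.p).all fun k => Nat.beq k 0 || (List.range c.q).any fun i =>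
    sameB c.b c.N (List.replicate i c.c ++ List.replicate k c.a ++ List.replicate i c.ci) [c.a] ||
      sameB c.b c.N (List.replicate i c.c ++ List.replicate k c.a ++ List.replicate i c.ci) [c.ai]

/-- The centraliser of the first generator and the normalisation of the second image. -/
def Cert.secondB (c : Cert) : Bool :=
  checksOk c.b c.N c.a c.tr c.chA &&
  ((search c.b c.N c.a c.a c.tr c.chA []).all fun r =>
    (List.range c.p).any fun i => sameB c.b c.N r (List.replicate i c.a)) &&
  (List.range c.p).all fun i => (List.range c.p).any fun j =>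
    sameB c.b c.N (List.replicate j c.a ++ ([c.c] ++ List.replicate i c.a)) ([c.c] ++ List.replicate j c.a)

/-- The images of the third generator allowed by the relations. -/
def Cert.thirdB (c : Cert) (allow : Bool → List ℕ → Bool) : Bool :=
  sameB c.b c.N [c.d, c.c] [c.c, c.d] && checksOk c.b c.N c.c c.tr c.chC &&
  (c.rels.all fun w => w.1.all fun i => Nat.blt i 3) && c.relsHold true [c.d] &&
  (search c.b c.N c.c c.c c.tr c.chC []).all fun r =>
    (!(c.relsHold true r) || sameB c.b c.N r [c.d] || allow true r) && (!(c.relsHold false r) || allow false r)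

/-- The data of an outer automorphism. -/
structure Outer where
  eps : Bool
  tau : ℕ
  taui : ℕ
  d0 : List (ℕ × ℕ)

/-- The image of the third generator under the outer automorphism. -/
def Outer.path (o : Outer) (c : Cert) : List ℕ := o.d0.map fun u => (c.tr.getD u.1 []).getD u.2 0

/-- The allowed exception. -/
def Outer.allow (o : Outer) (c : Cert) (e : Bool) (r : List ℕ) : Bool :=
  (e == o.eps) && sameB c.b c.N r (o.path c)

/-- The outer automorphism normalises the group and is not inner. -/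
def Outer.check (o : Outer) (c : Cert) : Bool :=
  invPairOk c.b c.N o.tau o.taui &&
  (o.d0.all fun u => Nat.blt u.1 c.tr.length && Nat.blt u.2 (c.tr.getD u.1 []).length) &&
  sameB c.b c.N [o.tau, c.a, o.taui] [c.aE o.eps] && sameB c.b c.N [o.tau, c.c, o.taui] [c.c] &&
  sameB c.b c.N [o.tau, c.d, o.taui] (o.path c) &&
  (search c.b c.N c.a (c.aE o.eps) c.tr c.chA []).all fun g =>
    !(sameB c.b c.N (g ++ [c.c]) ([c.c] ++ g)) || !(sameB c.b c.N (g ++ [c.d]) (o.path c ++ g))

variable {c : Cert} [NeZero c.N]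

/-- The product of a list of tables. -/
noncomputable def Cert.prd (c : Cert) [NeZero c.N] (l : List ℕ) : Perm (Fin c.N) := (l.map c.P).prod

/-- All tables of a list are represented. -/
def Cert.Good (c : Cert) [NeZero c.N] (l : List ℕ) : Prop := ∀ T ∈ l, Rep c.b (c.P T) T

theorem Cert.prd_append (l l' : List ℕ) : c.prd (l ++ l') = c.prd l * c.prd l' := by
  simp [Cert.prd]

theorem Cert.prd_singleton (T : ℕ) : c.prd [T] = c.P T := by simp [Cert.prd]

theorem Cert.prd_replicate (n T : ℕ) : c.prd (List.replicate n T) = c.P T ^ n := by simp [Cert.prd]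

theorem Cert.eq_of_same {l l' : List ℕ} (h : c.Good l) (h' : c.Good l') (hs : sameB c.b c.N l l' = true) :
    c.prd l = c.prd l' := eq_of_sameB h h' hs

theorem Cert.same_of_eq {l l' : List ℕ} (h : c.Good l) (h' : c.Good l') (he : c.prd l = c.prd l') :
    sameB c.b c.N l l' = true := by
  simp only [sameB_iff]
  intro x hx
  rw [Nat.beq_eq]
  have e1 := ev_rep h ⟨x, hx⟩
  have e2 := ev_rep h' ⟨x, hx⟩
  exact e1.symm.trans ((congrArg (fun f : Perm (Fin c.N) => (f ⟨x, hx⟩ : ℕ)) he).trans e2)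

theorem Cert.P_aE (G : c.Gen) (e : Bool) : c.P (c.aE e) = if e then c.P c.a else (c.P c.a)⁻¹ := by
  cases e
  · exact G.ainv
  · rfl

theorem Cert.rep_aE (G : c.Gen) (e : Bool) : Rep c.b (c.P (c.aE e)) (c.aE e) := by
  cases e
  · exact G.ai
  · exact G.a

theorem Cert.normalise (G : c.Gen) (hK : Nat.card c.K = c.size) (hp : c.p.Prime) (hdvd : ¬ c.p ^ 2 ∣ c.size)
    (hn : c.normB = true) (hs : c.secondB = true) (φ : MulAut c.K) :
    ∃ u : c.K, ∃ e : Bool, (((MulAut.conj u * φ) ⟨c.P c.a, Subgroup.subset_closure (by simp)⟩ : c.K) : Perm (Fin c.N)) =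
        (if e then c.P c.a else (c.P c.a)⁻¹) ∧
      (((MulAut.conj u * φ) ⟨c.P c.c, Subgroup.subset_closure (by simp)⟩ : c.K) : Perm (Fin c.N)) = c.P c.c := by
  simp only [Cert.normB, Bool.and_eq_true, Bool.not_eq_true', List.all_eq_true, List.mem_range, Bool.or_eq_true,
    Nat.beq_eq, List.any_eq_true] at hn
  obtain ⟨⟨⟨hpow, hne⟩, hrel⟩, hk⟩ := hn
  simp only [Cert.secondB, Bool.and_eq_true, List.all_eq_true, List.mem_range, List.any_eq_true] at hs
  obtain ⟨⟨hcs, hcent⟩, hshift⟩ := hs
  set A : c.K := ⟨c.P c.a, Subgroup.subset_closure (by simp)⟩ with hA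
  set C : c.K := ⟨c.P c.c, Subgroup.subset_closure (by simp)⟩ with hC
  have gA : ∀ n, c.Good (List.replicate n c.a) := fun n T hT => by rw [List.eq_of_mem_replicate hT]; exact G.a
  have gC : ∀ n, c.Good (List.replicate n c.c) := fun n T hT => by rw [List.eq_of_mem_replicate hT]; exact G.c
  have gC' : ∀ n, c.Good (List.replicate n c.ci) := fun n T hT => by rw [List.eq_of_mem_replicate hT]; exact G.ci
  have gapp : ∀ {l l' : List ℕ}, c.Good l → c.Good l' → c.Good (l ++ l') := fun h h' T hT =>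
    (List.mem_append.1 hT).elim (h T) (h' T)
  have g1 : ∀ {T : ℕ}, Rep c.b (c.P T) T → c.Good [T] := fun h S hS => by rw [List.mem_singleton.1 hS]; exact h
  haveI := Fact.mk hp
  have hApow : A ^ c.p = 1 := Subtype.ext (by
    have h := Cert.eq_of_same (gA _) (fun _ h => by simp at h) hpow
    rw [Cert.prd_replicate] at h
    simpa [Cert.prd, A] using h)
  have hAne : A ≠ 1 := fun h => by
    have : sameB c.b c.N [c.a] [] = true := Cert.same_of_eq (g1 G.a) (fun _ h => by simp at h) (by
      simpa [Cert.prd, A] using congrArg Subtype.val h)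
    rw [this] at hne
    exact Bool.noConfusion hne
  have hord : orderOf A = c.p := orderOf_eq_prime hApow hAne
  have hfac : (Nat.card c.K).factorization c.p = 1 := by
    have hne0 : Nat.card c.K ≠ 0 := Nat.card_pos.ne'
    refine le_antisymm ?_ ?_
    · by_contra hh
      push Not at hh
      exact hdvd (hK ▸ (hp.pow_dvd_iff_le_factorization hne0).2 hh)
    · rw [← hp.pow_dvd_iff_le_factorization hne0, pow_one, ← hord]
      exact orderOf_dvd_natCard _
  have hcard : ∀ x : c.K, orderOf x = c.p → Nat.card (Subgroup.zpowers x) = c.p ^ (Nat.card c.K).factorization c.p :=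
    fun x hx => by rw [Nat.card_zpowers, hx, hfac, pow_one]
  have hord' : orderOf (φ A) = c.p := by rw [φ.orderOf_eq, hord]
  obtain ⟨v, hv⟩ := MulAction.exists_smul_eq c.K (Sylow.ofCard _ (hcard _ hord')) (Sylow.ofCard _ (hcard _ hord))
  have hmem : v * φ A * v⁻¹ ∈ Subgroup.zpowers A := by
    have : v * φ A * v⁻¹ ∈ ((Sylow.ofCard _ (hcard _ hord) : Sylow c.p c.K) : Subgroup c.K) := by
      rw [← hv]
      exact ⟨φ A, Subgroup.mem_zpowers _, rfl⟩
    exact this
  rw [← mem_powers_iff_mem_zpowers] at hmem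
  obtain ⟨m, hm⟩ := hmem
  simp only at hm
  rw [← pow_mod_orderOf, hord] at hm
  have hm0 : m % c.p ≠ 0 := by
    intro h
    rw [h, pow_zero, eq_comm, conj_eq_one_iff, ← orderOf_eq_one_iff, hord'] at hm
    exact hp.ne_one hm
  obtain ⟨i, -, hd⟩ := (hk _ (Nat.mod_lt m hp.pos)).resolve_left hm0
  set u := C ^ i * v with hu
  have hval : (((MulAut.conj u * φ) A : c.K) : Perm (Fin c.N)) =
      c.prd (List.replicate i c.c ++ List.replicate (m % c.p) c.a ++ List.replicate i c.ci) := by
    rw [Cert.prd_append, Cert.prd_append, Cert.prd_replicate, Cert.prd_replicate, Cert.prd_replicate, G.cinv]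
    show _ = ((C ^ i * A ^ (m % c.p) * (C⁻¹) ^ i : c.K) : Perm (Fin c.N))
    rw [hm, MulAut.mul_apply, MulAut.conj_apply, hu, mul_inv_rev, inv_pow]
    simp only [mul_assoc]
  obtain ⟨e, he⟩ : ∃ e : Bool, (((MulAut.conj u * φ) A : c.K) : Perm (Fin c.N)) =
      (if e then c.P c.a else (c.P c.a)⁻¹) := by
    have hg := gapp (gapp (gC i) (gA (m % c.p))) (gC' i)
    rcases hd with hd | hd
    · exact ⟨true, by rw [hval, Cert.eq_of_same hg (g1 G.a) hd, Cert.prd_singleton]; rfl⟩
    · exact ⟨false, by rw [hval, Cert.eq_of_same hg (g1 G.ai) hd, Cert.prd_singleton, G.ainv]; rfl⟩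
  set θ := MulAut.conj u * φ with hθ
  have heA : θ A = if e then A else A⁻¹ := Subtype.ext (by rw [he]; cases e <;> rfl)
  have hrelK : C * A = A ^ c.t * C := Subtype.ext (by
    have h := Cert.eq_of_same (gapp (g1 G.c) (g1 G.a)) (gapp (gA c.t) (g1 G.c)) hrel
    rw [Cert.prd_append, Cert.prd_append, Cert.prd_singleton, Cert.prd_singleton, Cert.prd_replicate] at h
    exact h)
  have hθrel : θ C * A = A ^ c.t * θ C := by
    have h := congrArg θ hrelK
    rw [map_mul, map_mul, map_pow, heA] at h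
    cases e
    · simp only [Bool.false_eq_true, if_false, inv_pow] at h
      calc θ C * A = A ^ c.t * ((A ^ c.t)⁻¹ * θ C) * A := by rw [mul_inv_cancel_left]
        _ = A ^ c.t * (θ C * A⁻¹) * A := by rw [h]
        _ = A ^ c.t * θ C := by rw [mul_assoc, inv_mul_cancel_right]
    · simpa using h
  have hcomm : (C⁻¹ * θ C) * A = A * (C⁻¹ * θ C) := by
    rw [mul_assoc, hθrel, ← mul_assoc, ← mul_assoc,
      show C⁻¹ * A ^ c.t = A * C⁻¹ from inv_mul_eq_iff_eq_mul.2 (by rw [← mul_assoc, hrelK, mul_inv_cancel_right])]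
  obtain ⟨r, hr, hrg, hrgood⟩ := Cert.found G hK G.a G.a (C⁻¹ * θ C).2 (congrArg Subtype.val hcomm) hcs
  obtain ⟨k, hk', hsame⟩ := hcent r hr
  have hCi : θ C = C * A ^ k := by
    have h : C⁻¹ * θ C = A ^ k := Subtype.ext (by
      rw [← hrg]
      exact (Cert.eq_of_same hrgood (gA k) hsame).trans (Cert.prd_replicate k c.a))
    exact inv_mul_eq_iff_eq_mul.1 h
  obtain ⟨j, -, hj⟩ := hshift k hk'
  have hjK : A ^ j * (C * A ^ k) = C * A ^ j := Subtype.ext (by
    have h := Cert.eq_of_same (gapp (gA j) (gapp (g1 G.c) (gA k))) (gapp (g1 G.c) (gA j)) hj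
    rw [Cert.prd_append, Cert.prd_append, Cert.prd_append, Cert.prd_singleton, Cert.prd_replicate,
      Cert.prd_replicate] at h
    exact h)
  refine ⟨A ^ j * u, e, ?_, ?_⟩
  · have h : (MulAut.conj (A ^ j * u) * φ) A = θ A := by
      rw [map_mul, mul_assoc, ← hθ, MulAut.mul_apply, MulAut.conj_apply]
      have hcm : Commute (A ^ j) (θ A) := by
        rw [heA]
        cases e
        · exact ((Commute.refl A).pow_left j).inv_right
        · exact (Commute.refl A).pow_left j
      rw [hcm.eq, mul_inv_cancel_right]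
    rw [show ((MulAut.conj (A ^ j * u) * φ) A : c.K) = θ A from h]
    exact he
  · have h : (MulAut.conj (A ^ j * u) * φ) C = C := by
      rw [map_mul, mul_assoc, ← hθ, MulAut.mul_apply, MulAut.conj_apply, hCi, hjK, mul_inv_cancel_right]
    exact congrArg Subtype.val h

theorem Cert.prd_word (gs : ℕ → List ℕ) (f : ℕ → Perm (Fin c.N)) :
    ∀ w : List ℕ, (∀ i ∈ w, c.prd (gs i) = f i) → c.prd (w.flatMap gs) = (w.map f).prod := by
  intro w
  induction w with
  | nil => intro _; simp [Cert.prd]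
  | cons i w ih =>
    intro h
    rw [List.flatMap_cons, Cert.prd_append, h i (List.mem_cons_self ..), List.map_cons, List.prod_cons,
      ih fun j hj => h j (List.mem_cons_of_mem _ hj)]

theorem Cert.gen_ext {H : Type*} [Group H] {f f' : c.K →* H}
    (ha : f ⟨c.P c.a, Subgroup.subset_closure (by simp)⟩ = f' ⟨c.P c.a, Subgroup.subset_closure (by simp)⟩)
    (hc : f ⟨c.P c.c, Subgroup.subset_closure (by simp)⟩ = f' ⟨c.P c.c, Subgroup.subset_closure (by simp)⟩)
    (hd : f ⟨c.P c.d, Subgroup.subset_closure (by simp)⟩ = f' ⟨c.P c.d, Subgroup.subset_closure (by simp)⟩) :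
    f = f' := by
  refine MonoidHom.ext fun x => ?_
  obtain ⟨x, hx⟩ := x
  induction hx using Subgroup.closure_induction with
  | mem x hx =>
    rcases hx with rfl | rfl | rfl
    · exact ha
    · exact hc
    · exact hd
  | one => exact (map_one f).trans (map_one f').symm
  | mul x y hx hy h1 h2 =>
    exact (map_mul f ⟨x, hx⟩ ⟨y, hy⟩).trans ((congrArg₂ (· * ·) h1 h2).trans (map_mul f' ⟨x, hx⟩ ⟨y, hy⟩).symm)
  | inv x hx h1 => exact (map_inv f ⟨x, hx⟩).trans ((congrArg Inv.inv h1).trans (map_inv f' ⟨x, hx⟩).symm)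

/-- Modulo inner automorphisms the images of the generators pass the relation test. -/
theorem Cert.candidates (G : c.Gen) (hK : Nat.card c.K = c.size) (hp : c.p.Prime) (hdvd : ¬ c.p ^ 2 ∣ c.size)
    (hn : c.normB = true) (hs : c.secondB = true) {allow : Bool → List ℕ → Bool} (h3 : c.thirdB allow = true)
    (φ : MulAut c.K) :
    ∃ u : c.K, MulAut.conj u * φ = 1 ∨ ∃ e r, allow e r = true ∧ c.Good r ∧
      (((MulAut.conj u * φ) ⟨c.P c.a, Subgroup.subset_closure (by simp)⟩ : c.K) : Perm (Fin c.N)) = c.P (c.aE e) ∧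
      (((MulAut.conj u * φ) ⟨c.P c.c, Subgroup.subset_closure (by simp)⟩ : c.K) : Perm (Fin c.N)) = c.P c.c ∧
      (((MulAut.conj u * φ) ⟨c.P c.d, Subgroup.subset_closure (by simp)⟩ : c.K) : Perm (Fin c.N)) = c.prd r := by
  obtain ⟨u, e, heA, heC⟩ := Cert.normalise G hK hp hdvd hn hs φ
  simp only [Cert.thirdB, Bool.and_eq_true, List.all_eq_true, Bool.or_eq_true, Bool.not_eq_true', Nat.blt,
    Nat.ble_eq] at h3
  obtain ⟨⟨⟨⟨hdc, hcs⟩, hlt⟩, hhold⟩, hall⟩ := h3
  set ψ := MulAut.conj u * φ with hψ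
  set A : c.K := ⟨c.P c.a, Subgroup.subset_closure (by simp)⟩
  set C : c.K := ⟨c.P c.c, Subgroup.subset_closure (by simp)⟩
  set D : c.K := ⟨c.P c.d, Subgroup.subset_closure (by simp)⟩
  have heA' : ((ψ A : c.K) : Perm (Fin c.N)) = c.P (c.aE e) := heA.trans (Cert.P_aE G e).symm
  have hC' : ψ C = C := Subtype.ext heC
  have hDC : D * C = C * D := Subtype.ext (by
    have h := Cert.eq_of_same (l := [c.d, c.c]) (l' := [c.c, c.d]) (by simp [Cert.Good, G.c, G.d])
      (by simp [Cert.Good, G.c, G.d]) hdc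
    simpa [Cert.prd] using h)
  have hcm : ψ D * C = C * ψ D := by
    have h := congrArg ψ hDC
    rwa [map_mul, map_mul, hC'] at h
  obtain ⟨r, hr, hrg, hrgood⟩ := Cert.found G hK G.c G.c (ψ D).2 (congrArg Subtype.val hcm) hcs
  have hrD : ((ψ D : c.K) : Perm (Fin c.N)) = c.prd r := hrg.symm
  refine ⟨u, ?_⟩
  have hrels : c.relsHold e r = true := by
    simp only [Cert.relsHold, List.all_eq_true] at hhold ⊢
    intro w hw
    let gK : ℕ → c.K := fun i => match i with | 0 => A | 1 => C | _ => D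
    have hb : ∀ i ∈ (List.replicate w.2 w.1).flatten, i < 3 := by
      intro i hi
      obtain ⟨l, hl, hil⟩ := List.mem_flatten.1 hi
      rw [List.eq_of_mem_replicate hl] at hil
      exact hlt w hw i hil
    have gd : ∀ (e : Bool) (r : List ℕ), c.Good r → c.Good ((List.replicate w.2 w.1).flatten.flatMap (c.img e r)) := by
      intro e r hr T hT
      obtain ⟨i, hi, hTi⟩ := List.mem_flatMap.1 hT
      have := hb i hi
      interval_cases i
      · rw [List.mem_singleton.1 hTi]; exact Cert.rep_aE G e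
      · rw [List.mem_singleton.1 hTi]; exact G.c
      · exact hr T hTi
    have h1 : ((List.replicate w.2 w.1).flatten.map gK).prod = 1 := Subtype.ext (by
      have h := Cert.eq_of_same (gd true [c.d] (by simp [Cert.Good, G.d])) (by simp [Cert.Good]) (hhold w hw)
      rw [Cert.prd_word _ (fun i => (gK i : Perm (Fin c.N))) _ fun i hi => by
        have := hb i hi
        interval_cases i <;> simp [Cert.img, Cert.prd, Cert.aE, gK, A, C, D]] at h
      rw [SubmonoidClass.coe_list_prod, List.map_map]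
      simpa [Cert.prd, Function.comp_def] using h)
    refine Cert.same_of_eq (gd e r hrgood) (by simp [Cert.Good]) ?_
    rw [Cert.prd_word _ (fun i => ((ψ (gK i) : c.K) : Perm (Fin c.N))) _ fun i hi => by
        have := hb i hi
        interval_cases i
        · exact (Cert.prd_singleton _).trans heA'.symm
        · exact (Cert.prd_singleton _).trans (congrArg Subtype.val hC').symm
        · exact hrD.symm]
    have h2 := congrArg (fun x => ((ψ x : c.K) : Perm (Fin c.N))) h1
    simp only [map_list_prod, List.map_map, map_one, SubmonoidClass.coe_list_prod] at h2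
    simpa [Cert.prd, Function.comp_def] using h2
  obtain ⟨h1, h2⟩ := hall r hr
  cases e
  · rw [hrels] at h2
    exact Or.inr ⟨false, r, h2.resolve_left (by simp), hrgood, heA', heC, hrD⟩
  · rw [hrels] at h1
    rcases h1 with (h1 | h1) | h1
    · simp at h1
    · refine Or.inl ?_
      have hD' : ψ D = D := Subtype.ext (by
        rw [hrD, Cert.eq_of_same hrgood (by simp [Cert.Good, G.d]) h1, Cert.prd_singleton])
      have : ψ.toMonoidHom = MonoidHom.id c.K := Cert.gen_ext (Subtype.ext heA') hC' hD'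
      exact MulEquiv.ext fun x => DFunLike.congr_fun this x
    · exact Or.inr ⟨true, r, h1, hrgood, heA', heC, hrD⟩

theorem Cert.mem_inn_of_conj {φ ψ : MulAut c.K} {u : c.K} (h : MulAut.conj u * φ = ψ) (hψ : ψ ∈ Cfsg.Inn c.K) :
    φ ∈ Cfsg.Inn c.K := by
  have := Subgroup.mul_mem _ (Subgroup.inv_mem _ (⟨u, rfl⟩ : MulAut.conj u ∈ Cfsg.Inn c.K)) (h ▸ hψ)
  rwa [inv_mul_cancel_left] at this

theorem Cert.out_one (hg : c.genB = true) (hK : Nat.card c.K = c.size) (hp : c.p.Prime) (hdvd : ¬ c.p ^ 2 ∣ c.size)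
    (hn : c.normB = true) (hs : c.secondB = true) (h3 : c.thirdB (fun _ _ => false) = true) :
    Nat.card (Cfsg.Out c.K) = 1 := by
  have htop : Cfsg.Inn c.K = ⊤ := by
    refine eq_top_iff.2 fun φ _ => ?_
    obtain ⟨u, h | ⟨e, r, h, -⟩⟩ := Cert.candidates (Cert.gen_of_check hg) hK hp hdvd hn hs h3 φ
    · exact Cert.mem_inn_of_conj h (one_mem _)
    · exact Bool.noConfusion h
  rw [← Subgroup.index, htop, Subgroup.index_top]

theorem Cert.out_two (o : Outer) (hg : c.genB = true) (hK : Nat.card c.K = c.size) (hp : c.p.Prime)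
    (hdvd : ¬ c.p ^ 2 ∣ c.size) (hn : c.normB = true) (hs : c.secondB = true) (h3 : c.thirdB (o.allow c) = true)
    (ho : o.check c = true) : Nat.card (Cfsg.Out c.K) = 2 := by
  have G := Cert.gen_of_check hg
  simp only [Outer.check, Bool.and_eq_true, List.all_eq_true, Bool.or_eq_true, Bool.not_eq_true', Nat.blt,
    Nat.ble_eq] at ho
  obtain ⟨⟨⟨⟨⟨hinv, hd0⟩, t1⟩, t2⟩, t3⟩, hnon⟩ := ho
  obtain ⟨rT, rTi, hTi⟩ := rep_of_invPairOk (N := c.N) hinv
  have hpath : ∀ T ∈ o.path c, Rep c.b (c.P T) T ∧ c.P T ∈ c.K := by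
    intro T hT
    obtain ⟨v, hv, rfl⟩ := List.mem_map.1 hT
    obtain ⟨h1, h2⟩ := hd0 v hv
    refine G.rep (c.tr.getD v.1 []) ?_ _ ?_
    · rw [List.getD_eq_getElem _ _ h1]; exact List.getElem_mem h1
    · rw [List.getD_eq_getElem _ _ h2]; exact List.getElem_mem h2
  have hD0 : c.prd (o.path c) ∈ c.K :=
    Subgroup.list_prod_mem _ fun x hx => by
      obtain ⟨T, hT, rfl⟩ := List.mem_map.1 hx
      exact (hpath T hT).2
  set τ := c.P o.tau with hτ
  have conjEq : ∀ {T : ℕ} {l : List ℕ}, Rep c.b (c.P T) T → c.Good l →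
      sameB c.b c.N [o.tau, T, o.taui] l = true → τ * c.P T * τ⁻¹ = c.prd l := by
    intro T l hT hl h
    rw [← Cert.eq_of_same (l := [o.tau, T, o.taui]) (by simp [Cert.Good, rT, rTi, hT]) hl h]
    simp [Cert.prd, Cert.P, hTi, hτ, mul_assoc]
  have eA : τ * c.P c.a * τ⁻¹ = c.P (c.aE o.eps) :=
    (conjEq G.a (by simp [Cert.Good, Cert.rep_aE G]) t1).trans (Cert.prd_singleton _)
  have eC : τ * c.P c.c * τ⁻¹ = c.P c.c := (conjEq G.c (by simp [Cert.Good, G.c]) t2).trans (Cert.prd_singleton _)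
  have eD : τ * c.P c.d * τ⁻¹ = c.prd (o.path c) := conjEq G.d (fun T hT => (hpath T hT).1) t3
  have hle : c.K.map (MulAut.conj τ).toMonoidHom ≤ c.K := by
    rw [Cert.K, MonoidHom.map_closure, Subgroup.closure_le]
    rintro _ ⟨x, hx, rfl⟩
    show τ * x * τ⁻¹ ∈ c.K
    rcases hx with rfl | rfl | rfl
    · rw [eA]
      rw [Cert.P_aE G]
      cases o.eps
      · exact inv_mem (Subgroup.subset_closure (by simp))
      · exact Subgroup.subset_closure (by simp)
    · rw [eC]; exact Subgroup.subset_closure (by simp)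
    · rw [eD]; exact hD0
  let f : c.K →* c.K := ((MulAut.conj τ).toMonoidHom.comp c.K.subtype).codRestrict c.K fun x =>
    hle ⟨x.1, x.2, rfl⟩
  have hf : Function.Bijective f := Finite.injective_iff_bijective.1 fun x y h => Subtype.ext
    ((MulAut.conj τ).injective (congrArg Subtype.val h))
  let θ : MulAut c.K := MulEquiv.ofBijective f hf
  have hθ : ∀ x : c.K, ((θ x : c.K) : Perm (Fin c.N)) = τ * x.1 * τ⁻¹ := fun _ => rfl
  have hθout : θ ∉ Cfsg.Inn c.K := by
    rintro ⟨g, hg'⟩
    have hx : ∀ x : c.K, (g : Perm (Fin c.N)) * x.1 * (g : Perm (Fin c.N))⁻¹ = τ * x.1 * τ⁻¹ := fun x => by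
      rw [← hθ x, ← hg']; rfl
    have mv : ∀ {T : ℕ} {y : Perm (Fin c.N)} (hT : c.P T ∈ c.K), τ * c.P T * τ⁻¹ = y →
        (g : Perm (Fin c.N)) * c.P T = y * g := fun hT h => by
      rw [← h, ← hx ⟨_, hT⟩, inv_mul_cancel_right]
    have hA := mv (Subgroup.subset_closure (by simp)) eA
    have hC := mv (Subgroup.subset_closure (by simp)) eC
    have hD := mv (Subgroup.subset_closure (by simp)) eD
    simp only [Cert.secondB, Bool.and_eq_true] at hs
    obtain ⟨r, hr, hrg, hrgood⟩ := Cert.found G hK G.a (Cert.rep_aE G o.eps) g.2 hA hs.1.1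
    have hrg' : c.prd r = g := hrg
    have gapp : ∀ {l l' : List ℕ}, c.Good l → c.Good l' → c.Good (l ++ l') := fun h h' T hT =>
      (List.mem_append.1 hT).elim (h T) (h' T)
    have g1 : ∀ {T : ℕ}, Rep c.b (c.P T) T → c.Good [T] := fun h S hS => by rw [List.mem_singleton.1 hS]; exact h
    have s1 : sameB c.b c.N (r ++ [c.c]) ([c.c] ++ r) = true :=
      Cert.same_of_eq (gapp hrgood (g1 G.c)) (gapp (g1 G.c) hrgood) (by
        rw [Cert.prd_append, Cert.prd_append, Cert.prd_singleton, hrg', hC])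
    have s2 : sameB c.b c.N (r ++ [c.d]) (o.path c ++ r) = true :=
      Cert.same_of_eq (gapp hrgood (g1 G.d)) (gapp (fun T hT => (hpath T hT).1) hrgood) (by
        rw [Cert.prd_append, Cert.prd_append, Cert.prd_singleton, hrg', hD])
    rcases hnon r hr with h | h
    · rw [s1] at h; exact Bool.noConfusion h
    · rw [s2] at h; exact Bool.noConfusion h
  have hall : ∀ φ : MulAut c.K, φ ∈ Cfsg.Inn c.K ∨ ∃ u : c.K, MulAut.conj u * φ = θ := by
    intro φ
    obtain ⟨u, h | ⟨e, r, h, hrgood, h1, h2, h3'⟩⟩ := Cert.candidates G hK hp hdvd hn hs h3 φ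
    · exact Or.inl (Cert.mem_inn_of_conj h (one_mem _))
    · simp only [Outer.allow, Bool.and_eq_true, beq_iff_eq] at h
      obtain ⟨rfl, hsame⟩ := h
      refine Or.inr ⟨u, ?_⟩
      have : (MulAut.conj u * φ).toMonoidHom = θ.toMonoidHom := Cert.gen_ext
        (Subtype.ext (h1.trans eA.symm)) (Subtype.ext (h2.trans eC.symm))
        (Subtype.ext (h3'.trans ((Cert.eq_of_same hrgood (fun T hT => (hpath T hT).1) hsame).trans eD.symm)))
      exact MulEquiv.ext fun x => DFunLike.congr_fun this x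
  rw [← Subgroup.index, Subgroup.index_eq_two_iff]
  refine ⟨θ⁻¹, fun φ => ?_⟩
  rcases hall φ with h | ⟨u, h⟩
  · refine Or.inr ⟨h, fun h' => hθout ?_⟩
    have := (Subgroup.mul_mem_cancel_left _ h).1 h'
    exact inv_mem_iff.1 this
  · refine Or.inl ⟨?_, fun h' => hθout (h ▸ Subgroup.mul_mem _ ⟨u, rfl⟩ h')⟩
    have e : φ * θ⁻¹ = (MulAut.conj u)⁻¹ := by
      rw [← h, mul_inv_rev, mul_inv_cancel_left]
    rw [e]
    exact Subgroup.inv_mem _ ⟨u, rfl⟩

end

end Cfsg.Lib.PermAut
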