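import Cfsg.Agent.Lib.PermAut.Basic

/-!
# A complete search for the elements carrying one permutation to another
-/

set_option autoImplicit false
set_option linter.unusedSectionVars false

namespace Cfsg.Lib.PermAut

noncomputable section

open Equiv

/-- Repeated application of a table. -/
def iterE (b T : ℕ) : ℕ → ℕ → ℕ
  | 0, x => x
  | j + 1, x => iterE b T j (ent b T x)

/-- A conjugation equation between tables along a product. -/
def leafB (b N P Q : ℕ) (path : List ℕ) : Bool :=
  (List.range N).all fun x => Nat.beq (ev b path (ent b P x)) (ent b Q (ev b path x))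

/-- The products which carry one table to the other. -/
def search (b N P Q : ℕ) : List (List ℕ) → List (List (ℕ × ℕ × ℕ)) → List ℕ → List (List ℕ)
  | [], _, path => if leafB b N P Q path then [path] else []
  | l :: ls, cs, path => l.flatMap fun T =>
      if (cs.headD []).all (fun u => Nat.beq (iterE b Q u.2.2 (ev b (path ++ [T]) u.1)) (ev b (path ++ [T]) u.2.1))
      then search b N P Q ls cs.tail (path ++ [T]) else []

/-- The tests only involve powers of the source and points fixed by all later levels. -/
def checksOk (b N P : ℕ) : List (List ℕ) → List (List (ℕ × ℕ × ℕ)) → Bool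
  | [], _ => true
  | _ :: ls, cs =>
    ((cs.headD []).all fun u => Nat.blt u.1 N && Nat.blt u.2.1 N && Nat.beq (iterE b P u.2.2 u.1) u.2.1 &&
      ls.all fun m => m.all fun T => Nat.beq (ent b T u.1) u.1 && Nat.beq (ent b T u.2.1) u.2.1) &&
    checksOk b N P ls cs.tail

variable {b N : ℕ} [NeZero N]

theorem iterE_rep {g : Perm (Fin N)} {T : ℕ} (h : Rep b g T) : ∀ (j : ℕ) (x : Fin N),
    ((g ^ j) x : ℕ) = iterE b T j x := by
  intro j
  induction j with
  | zero => intro x; rfl
  | succ j ih => intro x; rw [pow_succ, Perm.mul_apply, ih, h x]; rfl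

theorem ev_fixed {x : ℕ} : ∀ (path : List ℕ) (ls : List (List ℕ)), List.Forall₂ (fun T l => T ∈ l) path ls →
    (∀ m ∈ ls, ∀ T ∈ m, ent b T x = x) → ev b path x = x := by
  intro path ls h
  induction h with
  | nil => intro _; rfl
  | cons hT _ ih =>
    intro hfix
    rw [ev_cons, ih fun m hm => hfix m (List.mem_cons_of_mem _ hm)]
    exact hfix _ (List.mem_cons_self ..) _ hT

theorem search_complete {P Q : ℕ} {g p q : Perm (Fin N)} (hP : Rep b p P) (hQ : Rep b q Q) (hgpq : g * p = q * g) :
    ∀ (tr : List (List ℕ)) (cs : List (List (ℕ × ℕ × ℕ))) (pre suf : List ℕ),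
      List.Forall₂ (fun T l => T ∈ l) suf tr → checksOk b N P tr cs = true →
      (∀ x : Fin N, (g x : ℕ) = ev b (pre ++ suf) x) →
      pre ++ suf ∈ search b N P Q tr cs pre := by
  have hstep : ∀ (j : ℕ) (x : Fin N), g ((p ^ j) x) = (q ^ j) (g x) := by
    intro j
    induction j with
    | zero => intro x; rfl
    | succ j ih =>
      intro x
      rw [pow_succ, Perm.mul_apply, ih, pow_succ, Perm.mul_apply]
      exact congrArg (q ^ j) (congrArg (fun f : Perm (Fin N) => f x) hgpq)
  intro tr
  induction tr with
  | nil =>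
    intro cs pre suf hs _ hg
    cases hs
    rw [List.append_nil] at hg ⊢
    rw [search, if_pos]
    · exact List.mem_singleton_self _
    simp only [leafB, List.all_eq_true, List.mem_range]
    intro x hx
    have e := congrArg Fin.val (hstep 1 ⟨x, hx⟩)
    rw [pow_one, pow_one, hg, hP, hQ, hg] at e
    rw [Nat.beq_eq]; exact e
  | cons l ls ih =>
    intro cs pre suf hs hok hg
    obtain ⟨T, suf', hT, hrest, rfl⟩ := List.forall₂_cons_right_iff.1 hs
    simp only [checksOk, Bool.and_eq_true, List.all_eq_true, Nat.blt, Nat.ble_eq, Nat.beq_eq] at hok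
    obtain ⟨hhead, htail⟩ := hok
    rw [search, List.mem_flatMap]
    refine ⟨T, hT, ?_⟩
    rw [if_pos]
    · have := ih cs.tail (pre ++ [T]) suf' hrest htail (by simpa using hg)
      simpa using this
    simp only [List.all_eq_true]
    intro u hu
    obtain ⟨⟨⟨h1, h2⟩, h3⟩, hf⟩ := hhead u hu
    have key : ∀ y (hy : y < N), (∀ m ∈ ls, ∀ S ∈ m, ent b S y = y) →
        ev b (pre ++ [T]) y = (g ⟨y, hy⟩ : ℕ) := by
      intro y hy hfix
      rw [hg ⟨y, hy⟩, show pre ++ T :: suf' = (pre ++ [T]) ++ suf' by simp, ev_append b (pre ++ [T]) suf',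
        ev_fixed suf' ls hrest hfix]
    rw [key u.1 h1 fun m hm S hS => (hf m hm S hS).1, key u.2.1 h2 fun m hm S hS => (hf m hm S hS).2,
      ← iterE_rep hQ]
    rw [Nat.beq_eq]
    refine congrArg Fin.val ?_
    rw [← hstep]
    exact congrArg g (Fin.ext ((iterE_rep hP _ _).trans h3))

end

end Cfsg.Lib.PermAut
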